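import Mathlib
import Cfsg.Agent.H566.SporAlt
import Cfsg.Agent.H566.Reduce
import Cfsg.Agent.S0205

/-!
# Coprime groups of automorphisms of non-solvable groups (helper566)

`KnownAll` : every finite simple group (of the universe) is known (S0000). Under this hypothesis:

* `copRich_simple` : `CopRich S` for `S` finite non-abelian simple;
* `rich_aut` : `G` finite non-solvable, `A ≤ MulAut G` of order prime to the order of `G`: the group `Fx A` of common
  fixed points is not nilpotent and of even order;
* `rich_action` : the same for a finite group acting by automorphisms;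
* `rich_sub` : the same for subgroups `A`, `G` of a finite group with `A ≤ N(G)`.
-/

set_option autoImplicit false

namespace Cfsg.Agent.H566

open Subgroup Cfsg

universe u v

/-- every finite simple group is known -/
def KnownAll : Prop := ∀ (X : Type u) [Group X] [Finite X] [IsSimpleGroup X], IsKnownSimple' X

theorem two_dvd_of_not_solvable {G : Type*} [Group G] [Finite G] (h : ¬ Group.IsSolvable G) : 2 ∣ Nat.card G := by
  by_contra h2
  exact h (Cfsg.Agent.S0205.result (Nat.not_even_iff_odd.1 fun h3 => h2 (even_iff_two_dvd.1 h3)))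

theorem copRich_simple (hK : KnownAll.{u}) (S : Type u) [Group S] [Finite S] [IsSimpleGroup S]
    (hna : ¬ ∀ a b : S, a * b = b * a) : CopRich S := by
  have hns : ¬ Group.IsSolvable S := fun h => hna (IsSimpleGroup.comm_iff_isSolvable.2 h)
  exact copRich_of_known hna (two_dvd_of_not_solvable hns) (hK S)

/-- **Groups of automorphisms.** -/
theorem rich_aut (hK : KnownAll.{u}) {G : Type u} [Group G] [Finite G] (hns : ¬ Group.IsSolvable G)
    (A : Subgroup (MulAut G)) (hcop : (Nat.card A).Coprime (Nat.card G)) : Rich (Fx A) := by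
  have hfin : Finite (MulAut G) := inferInstance
  exact copRich_of_simples (fun S _ _ _ hna => copRich_simple hK S hna) G hns A hcop
    (Cfsg.Agent.S0205.result (odd_of_coprime hcop (two_dvd_of_not_solvable hns)))

theorem fixedPoints_eq {A : Type v} {G : Type u} [Group A] [Group G] [MulDistribMulAction A G] :
    FixedPoints.subgroup A G = Fx (MulDistribMulAction.toMulAut A G).range := by
  ext x
  constructor
  · rintro h _ ⟨a, rfl⟩
    exact h a
  · intro h a
    exact h _ ⟨a, rfl⟩

/-- **Actions.** -/
theorem rich_action (hK : KnownAll.{u}) {A : Type v} {G : Type u} [Group A] [Finite A] [Group G] [Finite G]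
    [MulDistribMulAction A G] (hcop : (Nat.card G).Coprime (Nat.card A)) (hns : ¬ Group.IsSolvable G) :
    Rich (FixedPoints.subgroup A G) := by
  rw [fixedPoints_eq]
  exact rich_aut hK hns _ (hcop.symm.coprime_dvd_left (Subgroup.card_range_dvd _))

/-- The action of `A ≤ N(G)` on `G`. -/
def conjOn {X : Type u} [Group X] {A G : Subgroup X} (h : A ≤ normalizer (G : Set X)) : ↥A →* MulAut ↥G :=
  G.normalizerMonoidHom.comp (Subgroup.inclusion h)

theorem conjOn_apply {X : Type u} [Group X] {A G : Subgroup X} (h : A ≤ normalizer (G : Set X)) (a : ↥A) (g : ↥G) :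
    (conjOn h a g : X) = a * g * (a : X)⁻¹ := rfl

/-- **Subgroups.** -/
theorem rich_sub (hK : KnownAll.{u}) {X : Type u} [Group X] [Finite X] {A G : Subgroup X}
    (hAG : A ≤ normalizer (G : Set X)) (hcop : (Nat.card A).Coprime (Nat.card G)) (hns : ¬ Group.IsSolvable G) :
    Rich ↥(G ⊓ centralizer (A : Set X)) := by
  have h1 : Rich (Fx (conjOn hAG).range) :=
    rich_aut hK hns _ (hcop.coprime_dvd_left (Subgroup.card_range_dvd _))
  refine h1.of_injective ((G.subtype.comp (Fx (conjOn hAG).range).subtype).codRestrict _ ?_) ?_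
  · rintro ⟨x, hx⟩
    show (x : X) ∈ G ⊓ centralizer (A : Set X)
    refine Subgroup.mem_inf.2 ⟨x.2, ?_⟩
    rw [mem_centralizer_iff]
    intro a ha
    have h2 := congrArg Subtype.val (hx _ ⟨⟨a, ha⟩, rfl⟩)
    rw [conjOn_apply] at h2
    exact mul_inv_eq_iff_eq_mul.1 h2
  · intro x y hxy
    exact Subtype.ext (Subtype.ext
      (show ((x.1 : ↥G) : X) = y.1 from congrArg (fun z : ↥(G ⊓ centralizer (A : Set X)) => (z : X)) hxy))

end Cfsg.Agent.H566
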