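import Mathlib
import Cfsg.Agent.H566.BNPerm
import Cfsg.Agent.FixBN.SplitRGD
import Cfsg.Agent.Nodes.RGDLib

/-!
# Coprime groups of automorphisms of groups with root group data have rich fixed points (helper566)

* `TwoCls T X` : `T` has at most two orbits on the nonidentity elements of `X`;
* `twoCls_of_field`, `TwoCls.map` ;
* `val M i` : the valency of the node `i`; `copRich_of_rgd` : root group data with `TwoCls T (X α_i)` for a node
  whose valency occurs at most twice.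
-/

set_option autoImplicit false
set_option linter.unusedSectionVars false

namespace Cfsg.Agent.H566

open Subgroup Cfsg.Agent.Schreier.Tools Cfsg.Agent.Schreier.BNSch
open CoxeterSystem Cfsg.Agent.ChevalleyStructure.CoxeterGeom Cfsg.Agent.Tits.Roots Cfsg.Agent.Tits.Core
  Cfsg.Agent.Tits.RootComb Cfsg.Agent.Nodes.Comb Cfsg.Agent.Nodes.Reps Cfsg.Agent.Nodes.BNOf Cfsg.Agent.FixBN

/-- At most two orbits of `T` on the nonidentity elements of `X`. -/
structure TwoCls {Y : Type*} [Group Y] (T X : Subgroup Y) : Prop where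
  out : ∃ u₀ ∈ X, u₀ ≠ 1 ∧ ∃ u₁ ∈ X, u₁ ≠ 1 ∧ ∀ u ∈ X, u ≠ 1 →
    (∃ b ∈ T, b * u₀ * b⁻¹ = u) ∨ (∃ b ∈ T, b * u₁ * b⁻¹ = u)

theorem twoCls_of_field {Y : Type*} [Group Y] {T X : Subgroup Y} {F : Type*} [Field F] [Finite F] (x : F → Y)
    (h0 : x 0 = 1) (h1 : ∀ t, x t = 1 → t = 0) (hX : ∀ t, x t ∈ X) (hX' : ∀ u ∈ X, ∃ t, u = x t)
    (hsq : ∀ c : F, c ≠ 0 → ∃ b ∈ T, ∀ t, b * x t * b⁻¹ = x (c ^ 2 * t)) : TwoCls T X := by
  obtain ⟨ν, hν, h⟩ := exists_two_classes F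
  refine ⟨x 1, hX 1, fun e => one_ne_zero (h1 _ e), x ν, hX ν, fun e => hν (h1 _ e), ?_⟩
  intro u hu hu1
  obtain ⟨t, rfl⟩ := hX' u hu
  have ht : t ≠ 0 := by
    rintro rfl
    exact hu1 h0
  rcases h t ht with ⟨c, hc, rfl⟩ | ⟨c, hc, rfl⟩
  · obtain ⟨b, hb, e⟩ := hsq c hc
    exact Or.inl ⟨b, hb, e 1⟩
  · obtain ⟨b, hb, e⟩ := hsq c hc
    exact Or.inr ⟨b, hb, e ν⟩

theorem TwoCls.map {Y Y' : Type*} [Group Y] [Group Y'] {T X : Subgroup Y} (h : TwoCls T X) (f : Y →* Y')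
    (hf : ∀ u ∈ X, f u = 1 → u = 1) : TwoCls (T.map f) (X.map f) := by
  obtain ⟨u₀, h0, h0', u₁, h1, h1', h2⟩ := h.out
  refine ⟨f u₀, mem_map_of_mem f h0, fun e => h0' (hf _ h0 e), f u₁, mem_map_of_mem f h1,
    fun e => h1' (hf _ h1 e), ?_⟩
  rintro _ ⟨u, hu, rfl⟩ hu1
  have hu1' : u ≠ 1 := by
    rintro rfl
    exact hu1 (map_one f)
  rcases h2 u hu hu1' with ⟨b, hb, rfl⟩ | ⟨b, hb, rfl⟩
  · exact Or.inl ⟨f b, mem_map_of_mem f hb, by rw [map_mul, map_mul, map_inv]⟩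
  · exact Or.inr ⟨f b, mem_map_of_mem f hb, by rw [map_mul, map_mul, map_inv]⟩

/-- the number of neighbours of a node -/
def val {I : Type*} [Fintype I] [DecidableEq I] (M : CoxeterMatrix I) (i : I) : ℕ :=
  (Finset.univ.filter fun j => i ≠ j ∧ M i j ≠ 2).card

variable {I W Y : Type*} [Fintype I] [DecidableEq I] [Group W] [Group Y] {M : CoxeterMatrix I}
  {cs : CoxeterSystem M W} {A : I → I → ℤ} {h : IsCartan M A} {p : ℕ} {T : Subgroup Y} {n : I → Y}
  {X : (I → ℤ) → Subgroup Y}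

theorem comm_mem_iff [Finite W] (R : RGD cs h p T n X) {i j : I} (hij : i ≠ j) :
    n i * n j * (n i)⁻¹ * (n j)⁻¹ ∈ RGD.B cs h T X ↔ M i j = 2 := by
  have hrep := (((rp_simple cs R.nsys i).mul (rp_simple cs R.nsys j)).mul
    (rp_simple cs R.nsys i).inv).mul (rp_simple cs R.nsys j).inv
  constructor
  · intro hm
    by_contra h2
    have h1 := R.eq_one_of_mem_B hrep hm
    exact RGD.comm_ne (cs := cs) (h := h) hij h2 h1
  · intro h2
    have h1 := cs.simple_mul_simple_pow i j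
    rw [h2] at h1
    have h3 : cs.simple i * cs.simple j * (cs.simple i)⁻¹ * (cs.simple j)⁻¹ = 1 := by
      rw [inv_simple, inv_simple]
      rw [pow_two] at h1
      rw [← h1]
      group
    rw [h3] at hrep
    exact RGD.T_le_B hrep.mem_of_one

/-- **Root group data.** -/
theorem copRich_of_rgd [Finite W] [Finite Y] [IsSimpleGroup Y] (hp : p.Prime) (R : RGD cs h p T n X)
    (hgen : RGD.B cs h T X ⊔ NN cs R.nsys = ⊤) (h2 : 2 ∣ Nat.card Y) (i : I)
    (hv : (Finset.univ.filter fun k => val M k = val M i).card ≤ 2) (hX : TwoCls T (X (sr i))) : CopRich Y := by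
  have : Fact p.Prime := ⟨hp⟩
  have hne : (R.bnPair hgen).S.Nonempty := ⟨n i, i, rfl⟩
  have hS := SplitRGD.split_of_rgd hp R hgen (Cfsg.Agent.Tits.OfBN.normalCore_eq_bot (R.bnPair hgen) hne)
  obtain ⟨m, hm, hH⟩ := hS.tor
  have hN := NodeRGD.node R hgen i
  have hXU : X (sr i) ≤ RGD.Sup X (RGD.Pos cs h) := RGD.le_Sup ⟨isRoot_sr cs h i, sr_nonneg i⟩
  -- `X (α_i)` meets `V` trivially
  have hXV : ∀ x ∈ X (sr i), x ∈ RGD.Sup X (RGD.PosNe cs h i) → x = 1 := by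
    intro x hx hxV
    have hx' : (n i)⁻¹ * x * n i ∈ X (-sr i) := by
      have := R.conj_mem' (rp_simple cs R.nsys i) (isRoot_sr cs h i) hx
      rwa [inv_simple, rep_simple_sr] at this
    have hv' := NodeRGD.conj_V_mem R i hxV
    have hv'' : (n i)⁻¹ * x * n i ∈ RGD.B cs h T X :=
      RGD.U_le_B (RGD.Sup_mono (S := RGD.PosNe cs h i) (S' := RGD.Pos cs h) (fun z hz => ⟨hz.1, hz.2.1⟩) hv')
    have h4 : (n i)⁻¹ * x * n i = 1 := by
      by_contra hne
      exact NodeRGD.not_mem_B_of_neg R i hx' hne hv''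
    have : x = n i * ((n i)⁻¹ * x * n i) * (n i)⁻¹ := by group
    rw [this, h4]; group
  refine copRich_of_bn' (R.bnPair hgen) (p := p) (RGD.Sup X (RGD.Pos cs h)) hS.isP h2 hS.le hS.norm hS.cover m hm hH
    hS.node (s := n i) ⟨i, rfl⟩ hN ?_ (Z := RGD.Sup X (RGD.Pos cs h)) le_rfl (fun _ h => h) ?_
  · intro C hC hB
    let dr : DecidableRel (fun i j : I => i ≠ j ∧ M i j ≠ 2) := fun i j =>
      inferInstanceAs (Decidable (i ≠ j ∧ M i j ≠ 2))
    refine stab_of_valency (R.bnPair hgen) n rfl R.n_injective (fun i j => i ≠ j ∧ M i j ≠ 2)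
      (fun i h => h.1 rfl) ?_ i hv hC hB
    intro i j hij
    constructor
    · rintro ⟨-, h3⟩ h4
      exact h3 ((comm_mem_iff R hij).1 h4)
    · intro h3
      exact ⟨hij, fun h4 => h3 ((comm_mem_iff R hij).2 h4)⟩
  · obtain ⟨u₀, h0, h0', u₁, h1, h1', h3⟩ := hX.out
    refine ⟨u₀, hXU h0, fun e => h0' (hXV _ h0 e), u₁, hXU h1, fun e => h1' (hXV _ h1 e), ?_⟩
    intro u hu huV
    have hu' := hu
    rw [R.Upos_eq i] at hu
    have h4 : u ∈ ((X (sr i) ⊔ RGD.Sup X (RGD.PosNe cs h i) : Subgroup Y) : Set Y) := hu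
    rw [Subgroup.coe_mul_of_left_le_normalizer_right _ _ (R.X_le_normalizer_V i), Set.mem_mul] at h4
    obtain ⟨x, hx, v, hv, rfl⟩ := h4
    have hx1 : x ≠ 1 := by
      rintro rfl
      rw [one_mul] at huV
      exact huV hv
    have key : ∀ b ∈ T, ∀ w, b * w * b⁻¹ = x → Orb (R.bnPair hgen).B (RGD.Sup X (RGD.PosNe cs h i)) w (x * v) := by
      intro b hb w hw
      refine ⟨b, RGD.T_le_B hb, ?_⟩
      rw [hw, inv_mul_cancel_left]
      exact hv
    rcases h3 x hx hx1 with ⟨b, hb, e⟩ | ⟨b, hb, e⟩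
    · exact Or.inl (key b hb _ e)
    · exact Or.inr (key b hb _ e)

end Cfsg.Agent.H566
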