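import Mathlib
import Cfsg.Agent.H566.RgdFam
import Cfsg.Agent.Nodes.RGDTwAll
import Cfsg.Agent.ChevalleyStructure.BruhatSplit

/-!
# The exceptional and twisted families have rich coprime fixed points (helper566)
-/

set_option autoImplicit false
set_option linter.unusedSectionVars false

namespace Cfsg.Agent.H566

open Subgroup Cfsg.Agent.Schreier.Tools Cfsg.Agent.Schreier.BNSch
open CoxeterSystem Cfsg.Agent.ChevalleyStructure.CoxeterGeom Cfsg.Agent.Tits.Roots Cfsg.Agent.Tits.Core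
  Cfsg.Agent.Tits.RootComb Cfsg.Agent.Nodes.Comb Cfsg.Agent.Nodes.Reps Cfsg.Agent.Nodes.BNOf Cfsg.Agent.FixBN
open Cfsg.Lie Cfsg.Agent.ChevalleyStructure Cfsg.Agent.ChevalleyStructure.Elts
open Cfsg.Agent.Nodes.RGDChev
open Cfsg.Agent.ChevalleyStructure.RootVec Cfsg.Agent.ChevalleyStructure.RootVecTab
  Cfsg.Agent.ChevalleyStructure.NPerm Cfsg.Agent.ChevalleyStructure.CoxeterGeomTypes

universe u

theorem HasRGDC.of_equiv {p : ℕ} {G H : Type*} [Group G] [Group H] (e : G ≃* H) (hG : HasRGDC p G) : HasRGDC p H := by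
  obtain ⟨l, M, i, A, h, T, n, X, hW, R, hX, hc, hv⟩ := hG
  refine ⟨l, M, i, A, h, T.map e.toMonoidHom, fun i => e (n i), fun x => (X x).map e.toMonoidHom, hW,
    Nodes.RGDLib.rgd_map_of_injective R e.toMonoidHom e.injective, ?_,
    hc.map e.toMonoidHom (fun u _ hu => e.injective (hu.trans (map_one e).symm)), hv⟩
  have h1 : (Nodes.RGDLib.G1 M.toCoxeterSystem h X).map e.toMonoidHom =
      Nodes.RGDLib.G1 M.toCoxeterSystem h (fun x => (X x).map e.toMonoidHom) := by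
    unfold Nodes.RGDLib.G1 RGD.Sup
    rw [Subgroup.map_iSup]
  rw [← h1, hX, Subgroup.map_top_of_surjective _ e.surjective]

section Chev

variable {D : ChevalleyDatum} {l : ℕ} {M : CoxeterMatrix (Fin l)} (hp : IsType D l M) {K : Type u} [Field K] [Finite K]

include hp

theorem twoCls_group (i : Fin l) : TwoCls ((D.diagonalSubgroup K).subgroupOf (D.group K))
    ((XV D l K (sr i)).subgroupOf (D.group K)) := by
  have hr := simple_lt hp.inList (lt_rank hp i)
  refine twoCls_of_field (F := K) (fun t => ⟨xG hp.inList (D.simple i) t, xG_mem_group hp.inList _ t⟩)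
    (Subtype.ext (xG_zero hp.inList _)) ?_ ?_ ?_ ?_
  · intro t ht
    exact (xG_eq_one_iff hp.inList hr t).1 (congrArg Subtype.val ht)
  · intro t
    rw [Subgroup.mem_subgroupOf, XV_sr hp]
    exact xG_mem_rootSubgroup hp.inList _ _
  · rintro ⟨u, hu⟩ hu'
    rw [Subgroup.mem_subgroupOf, XV_sr hp, mem_rootSubgroup_iff hp.inList] at hu'
    obtain ⟨t, ht⟩ := hu'
    exact ⟨t, Subtype.ext ht⟩
  · intro c hc
    refine ⟨⟨hG hp.inList (D.simple i) c, hG_mem_group hp.inList _ c⟩, hG_mem_diagonal hp.inList hr hc, fun t => ?_⟩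
    apply Subtype.ext
    show hG hp.inList (D.simple i) c * xG hp.inList (D.simple i) t * (hG hp.inList (D.simple i) c)⁻¹ =
      xG hp.inList (D.simple i) (c ^ 2 * t)
    rw [Cfsg.Agent.ChevalleyStructure.BruhatSplit.hG_simple_conj hp.inList (lt_rank hp i) hr hc, RootVec.cartan_simple_self hp.checked (lt_rank hp i)]
    norm_cast

theorem rgdc_group (p : ℕ) [CharP K p] (i : Fin l) (hv : (Finset.univ.filter fun k => val M k = val M i).card ≤ 2) :
    HasRGDC p ↥(D.group K) := by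
  have : Fact p.Prime := ⟨CharP.char_is_prime K p⟩
  exact ⟨l, M, i, _, hp.isCartan, _, _, _, finite_W hp M.toCoxeterSystem,
    rgd (K := K) hp M.toCoxeterSystem p, G1_eq_top hp _, twoCls_group hp i, hv⟩

end Chev

theorem rgdc_of_exc {p : ℕ} {G : Type*} [Group G] (hG : IsExceptionalChevChar p G) : HasRGDC p G := by
  obtain ⟨F, _, _, _, ⟨-, ⟨e⟩⟩ | ⟨⟨e⟩⟩ | ⟨⟨e⟩⟩ | ⟨⟨e⟩⟩ | ⟨⟨e⟩⟩⟩ := hG
  · exact (rgdc_group (l := 2) (M := CoxeterMatrix.G₂) (by simp [IsType, typeList]) (K := F) p 0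
      (by decide +kernel)).of_equiv e.symm
  · exact (rgdc_group (l := 4) (M := CoxeterMatrix.F₄) (by simp [IsType, typeList]) (K := F) p 1
      (by decide +kernel)).of_equiv e.symm
  · exact (rgdc_group (l := 6) (M := CoxeterMatrix.E₆) (by simp [IsType, typeList]) (K := F) p 3
      (by decide +kernel)).of_equiv e.symm
  · exact (rgdc_group (l := 7) (M := CoxeterMatrix.E₇) (by simp [IsType, typeList]) (K := F) p 3
      (by decide +kernel)).of_equiv e.symm
  · exact (rgdc_group (l := 8) (M := CoxeterMatrix.E₈) (by simp [IsType, typeList]) (K := F) p 3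
      (by decide +kernel)).of_equiv e.symm

section Twisted

variable {D : ChevalleyDatum} {l : ℕ} {M : CoxeterMatrix (Fin l)} (hp : IsType D l M) {K : Type u} [Field K] [Finite K]

include hp

/-- a root group of a twisted group at a fixed root -/
theorem twoCls_single (i : Fin l) (φ : K →+* K) (G : Subgroup (GL D.Idx K)) (T X : Subgroup G)
    (h1 : ∀ t, φ t = t → xG hp.inList (D.simple i) t ∈ G) (h2 : ∀ t, φ t = t → xG hp.inList (D.neg (D.simple i)) t ∈ G)
    (hX : ∀ g : G, g ∈ X ↔ ∃ t, φ t = t ∧ g.1 = xG hp.inList (D.simple i) t)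
    (hT : ∀ g : G, g.1 ∈ D.diagonalSubgroup K → g ∈ T) : TwoCls T X := by
  have hr := simple_lt hp.inList (lt_rank hp i)
  let F₀ : Subfield K := RingHom.eqLocusField φ (RingHom.id K)
  have hF : ∀ t : F₀, φ t.1 = t.1 := fun t => t.2
  have hn : ∀ c : K, φ c = c → nG hp.inList (D.simple i) c ∈ G := by
    intro c hc
    rw [nG_def]
    have h3 := h2 (-c⁻¹) (by rw [map_neg, map_inv₀, hc])
    exact mul_mem (h1 c hc) (mul_mem h3 (h1 c hc))
  refine twoCls_of_field (F := F₀) (fun t => ⟨xG hp.inList (D.simple i) t.1, h1 _ (hF t)⟩)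
    (Subtype.ext (xG_zero hp.inList _)) ?_ ?_ ?_ ?_
  · intro t ht
    exact Subtype.ext ((xG_eq_one_iff hp.inList hr t.1).1 (congrArg Subtype.val ht))
  · intro t
    exact (hX _).2 ⟨t.1, hF t, rfl⟩
  · intro u hu
    obtain ⟨t, ht, e⟩ := (hX u).1 hu
    exact ⟨⟨t, ht⟩, Subtype.ext e⟩
  · intro c hc
    have hc' : c.1 ≠ 0 := fun h => hc (Subtype.ext h)
    have hG' : hG hp.inList (D.simple i) c.1 ∈ G := by
      rw [hG_def]
      exact mul_mem (hn _ (hF c)) (hn _ (by rw [map_neg, map_one]))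
    refine ⟨⟨hG hp.inList (D.simple i) c.1, hG'⟩, hT _ (hG_mem_diagonal hp.inList hr hc'), fun t => ?_⟩
    apply Subtype.ext
    show hG hp.inList (D.simple i) c.1 * xG hp.inList (D.simple i) t.1 * (hG hp.inList (D.simple i) c.1)⁻¹ =
      xG hp.inList (D.simple i) (c.1 ^ 2 * t.1)
    rw [Cfsg.Agent.ChevalleyStructure.BruhatSplit.hG_simple_conj hp.inList (lt_rank hp i) hr hc',
      RootVec.cartan_simple_self hp.checked (lt_rank hp i)]
    norm_cast

end Twisted

open Cfsg.Agent.Nodes.RGDTwE6 in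
theorem twoCls_twE6 {K : Type u} [Field K] [Fintype K] {q : ℕ} {φ : K →+* K} (hφ : ∀ x, φ x = x ^ q) :
    TwoCls (Nodes.RGDTwE6.T K q) (Nodes.RGDTwE6.X φ q (sr 1)) := by
  have e1 : chevE6.simple ((3 : Fin 6) : ℕ) = 39 := by decide +kernel
  have e2 : chevE6.neg (chevE6.simple ((3 : Fin 6) : ℕ)) = 32 := by decide +kernel
  refine twoCls_single Nodes.RGDTwE6.hp (3 : Fin 6) φ _ _ _ ?_ ?_ ?_ ?_
  · intro t ht
    rw [e1]
    exact TwE6Basic.single_mem (K := K) (q := q) (by rw [← hφ, ht]) (by decide)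
  · intro t ht
    rw [e2]
    exact TwE6Basic.single_mem (K := K) (q := q) (by rw [← hφ, ht]) (by decide)
  · intro g
    unfold Nodes.RGDTwE6.X
    rw [Subgroup.mem_subgroupOf, R_pos, Subgroup.mem_inf, e1]
    constructor
    · rintro ⟨h1, h2⟩
      have h3 : TwE6BN.rs K (TwE6Basic.posE 1) ≤ chevE6.rootSubgroup K 39 := by
        refine TwE6BN.rs_le fun r hr t => ?_
        have hr' : r = 39 := by
          have : TwE6Basic.posE 1 = [39] := rfl
          rw [this] at hr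
          exact List.mem_singleton.1 hr
        subst hr'
        exact xG_mem_rootSubgroup _ _ _
      obtain ⟨t, ht⟩ := (mem_rootSubgroup_iff TwE6Basic.hE6 39 g.1).1 (h3 h1)
      refine ⟨t, ?_, ht⟩
      rw [TwE6Basic.mem_fix, ht] at h2
      have h4 := TwE6Basic.sg_x_class φ (i := 1) (r := (39 : Fin 72)) (by decide) t
      have h5 : (TwE6Basic.rho (39 : Fin 72)).val = 39 := by decide +kernel
      rw [h5] at h4
      exact TwE6Basic.x_injective (by norm_num) (h4.symm.trans h2)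
    · rintro ⟨t, ht, e⟩
      have h5 : (TwE6Basic.rho (39 : Fin 72)).val = 39 := by decide +kernel
      refine ⟨?_, ?_⟩
      · rw [e]
        exact TwE6BN.x_mem_rs (by decide) t
      · rw [TwE6Basic.mem_fix, e]
        have h4 := TwE6Basic.sg_x_class φ (i := 1) (r := (39 : Fin 72)) (by decide) t
        rw [h5, ht] at h4
        exact h4
  · intro g hg
    unfold Nodes.RGDTwE6.T
    rw [Subgroup.mem_subgroupOf]
    exact ⟨hg, g.2⟩

open Cfsg.Agent.Nodes.RGDTwD4 in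
theorem twoCls_twD4 {K : Type u} [Field K] [Fintype K] {q : ℕ} {φ : K →+* K} (hφ : ∀ x, φ x = x ^ q) :
    TwoCls (Nodes.RGDTwD4.T K q) (Nodes.RGDTwD4.X φ q (sr 0)) := by
  have e1 : chevD4.simple ((1 : Fin 4) : ℕ) = 14 := by decide +kernel
  have e2 : chevD4.neg (chevD4.simple ((1 : Fin 4) : ℕ)) = 9 := by decide +kernel
  have hrho : ∀ t : K, D4Fixed.sig φ (xG Nodes.RGDTwD4.hp.inList 14 t) = xG Nodes.RGDTwD4.hp.inList 14 (φ t) := by
    intro t
    have h := D4U.sig_xG φ (r := 14) (s := 14) (c := 1) (by norm_num) (by decide +kernel) (by decide +kernel) t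
    rw [Int.cast_one, one_mul] at h
    exact h
  refine twoCls_single Nodes.RGDTwD4.hp (1 : Fin 4) φ _ _ _ ?_ ?_ ?_ ?_
  · intro t ht
    rw [e1]
    exact D4Fixed.x14_mem (K := K) (q := q) (by rw [← hφ, ht])
  · intro t ht
    rw [e2]
    exact D4Fixed.x9_mem (K := K) (q := q) (by rw [← hφ, ht])
  · intro g
    unfold Nodes.RGDTwD4.X
    rw [Subgroup.mem_subgroupOf, R0, Subgroup.mem_inf, e1]
    constructor
    · rintro ⟨h1, h2⟩
      have h3 : D4U.RS K [14] ≤ chevD4.rootSubgroup K 14 := by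
        refine TwistedU.rspan_le _ fun r hr t => ?_
        have hr' : r = 14 := List.mem_singleton.1 hr
        subst hr'
        exact xG_mem_rootSubgroup Nodes.RGDTwD4.hp.inList _ _
      obtain ⟨t, ht⟩ := (mem_rootSubgroup_iff Nodes.RGDTwD4.hp.inList 14 g.1).1 (h3 h1)
      refine ⟨t, ?_, ht⟩
      rw [D4Fixed.mem_fix, ht, hrho] at h2
      exact xG_injective (F := K) Nodes.RGDTwD4.hp.inList (by decide +kernel) h2
    · rintro ⟨t, ht, e⟩
      refine ⟨?_, ?_⟩
      · rw [e]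
        exact TwistedU.mem_rspan _ (S := {k | k ∈ [14]}) (List.mem_singleton.2 rfl) t
      · rw [D4Fixed.mem_fix, e, hrho, ht]
  · intro g hg
    unfold Nodes.RGDTwD4.T
    rw [Subgroup.mem_subgroupOf]
    exact ⟨hg, g.2⟩

theorem rgdc_twE6 {K : Type u} [Field K] [Fintype K] {q : ℕ} (hq : IsPrimePow q) (hK : Fintype.card K = q ^ 2)
    (p : ℕ) [CharP K p] : HasRGDC p ↥(Lie.twistedE6 K q) := by
  have : Fact p.Prime := ⟨CharP.char_is_prime K p⟩
  obtain ⟨φ, hφ, hqq⟩ := ChevalleyStructure.TwE6Basic.exists_frob hq hK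
  exact ⟨4, CoxeterMatrix.F₄, 1, _, Nodes.RGDTwE6.isCartan, _, _, _,
    Nodes.RGDFold.finite_W (hp := Nodes.RGDTwE6.hp) CoxeterMatrix.F₄.toCoxeterSystem Nodes.RGDTwE6.isCartan Nodes.RGDTwE6.foldData,
    Nodes.RGDTwE6.rgd _ hφ hqq p, Nodes.RGDTwE6.G1_eq_top _ hφ hqq, twoCls_twE6 hφ, by decide +kernel⟩

theorem rgdc_twD4 {K : Type u} [Field K] [Fintype K] {q : ℕ} (hq : IsPrimePow q) (hK : Fintype.card K = q ^ 3)
    (p : ℕ) [CharP K p] : HasRGDC p ↥(Lie.twistedD4 K q) := by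
  have : Fact p.Prime := ⟨CharP.char_is_prime K p⟩
  obtain ⟨φ, hφ⟩ := ChevalleyStructure.D4Fixed.exists_frob hq hK
  exact ⟨2, CoxeterMatrix.G₂, 0, _, Nodes.RGDTwD4.isCartan, _, _, _,
    Nodes.RGDFold.finite_W (hp := Nodes.RGDTwD4.hp) CoxeterMatrix.G₂.toCoxeterSystem Nodes.RGDTwD4.isCartan Nodes.RGDTwD4.foldData,
    Nodes.RGDTwD4.rgd _ hK hφ p, Nodes.RGDTwD4.G1_eq_top _ hK hφ, twoCls_twD4 hφ, by decide +kernel⟩

theorem rgdc_of_tw {p : ℕ} {G : Type*} [Group G] (hG : IsTwistedE6D4Char p G) : HasRGDC p G := by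
  obtain ⟨K, _, _, _, q, hq, ⟨hK, ⟨e⟩⟩ | ⟨hK, ⟨e⟩⟩⟩ := hG
  · exact (rgdc_twE6 hq hK p).of_equiv e.symm
  · exact (rgdc_twD4 hq hK p).of_equiv e.symm

end Cfsg.Agent.H566
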