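import Cfsg.Agent.H566.PairSeven

/-!
# Reduction of integral representations modulo a prime (helper566, for S4350)

* `Faithful` reduction modulo `l` of a finite group of order prime to `l`;
* `pair_weyl` : no subgroup of odd order `s ^ a * t ^ b` (`s < t`) of the Weyl groups of type `E6`, `E7`, `E8` contains
  a Sylow `s`-subgroup, unless `b = 0`.
-/

set_option autoImplicit false

namespace Cfsg.Agent.H566.PairW

open Subgroup

/-! ### Minkowski's lemma -/

theorem one_add_pow' {A : Type*} [Ring A] (N : A) (n : ℕ) : ∃ Q : A, (1 + N) ^ n = 1 + (n : ℤ) • N + N * N * Q := by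
  induction n with
  | zero => exact ⟨0, by simp⟩
  | succ n ih =>
    obtain ⟨Q, hQ⟩ := ih
    refine ⟨(n : ℤ) • 1 + Q + Q * N, ?_⟩
    rw [pow_succ, hQ]
    push_cast
    rw [add_smul, one_smul]
    simp only [mul_add, add_mul, one_mul, mul_one, smul_mul_assoc, mul_smul_comm, mul_assoc]
    abel

/-- `g = 1 + l N'`, `g ^ p = 1` implies `g = 1`, `p ≠ l` primes, in a torsion free separated ring -/
theorem minkowski {r l p : ℕ} (hl : l.Prime) (hp : p.Prime) (hlp : l ≠ p) {g : Matrix (Fin r) (Fin r) ℤ}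
    (hg : g ^ p = 1) (h : ∀ i j, (l : ℤ) ∣ (g - 1) i j) : g = 1 := by
  set N : Matrix (Fin r) (Fin r) ℤ := g - 1 with hN
  have hgN : g = 1 + N := by rw [hN]; abel
  obtain ⟨Q, hQ⟩ := one_add_pow' N p
  rw [← hgN, hg] at hQ
  have hpN : (p : ℤ) • N = - (N * N * Q) := by
    have h1 : (p : ℤ) • N + N * N * Q = 0 := by
      have h2 := hQ.symm
      rw [add_assoc, add_eq_left] at h2
      exact h2
    exact eq_neg_of_add_eq_zero_left h1
  have hcop : IsCoprime (p : ℤ) (l : ℤ) := Nat.isCoprime_iff_coprime.2 ((Nat.coprime_primes hp hl).2 (Ne.symm hlp))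
  obtain ⟨a, b, hab⟩ := hcop
  have key : ∀ k : ℕ, 1 ≤ k → ∃ N' : Matrix (Fin r) (Fin r) ℤ, N = ((l : ℤ) ^ k) • N' := by
    intro k hk
    induction k, hk using Nat.le_induction with
    | base =>
      choose f hf using h
      refine ⟨Matrix.of f, ?_⟩
      ext i j
      rw [Matrix.smul_apply, pow_one, smul_eq_mul]
      exact hf i j
    | succ k hk ih =>
      obtain ⟨N', hN'⟩ := ih
      have hl0 : ((l : ℤ) ^ k) ≠ 0 := pow_ne_zero _ (by exact_mod_cast hl.ne_zero)
      have h1 : (p : ℤ) • N' = ((l : ℤ) ^ k) • (-(N' * N' * Q)) := by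
        have h2 : ((l : ℤ) ^ k) • ((p : ℤ) • N') = ((l : ℤ) ^ k) • (((l : ℤ) ^ k) • (-(N' * N' * Q))) := by
          rw [smul_comm, ← hN', hpN, hN']
          simp only [smul_mul_assoc, mul_smul_comm, smul_neg]
        exact smul_right_injective _ hl0 h2
      refine ⟨(a * (l : ℤ) ^ (k - 1)) • (-(N' * N' * Q)) + b • N', ?_⟩
      have h3 : N' = (l : ℤ) • ((a * (l : ℤ) ^ (k - 1)) • (-(N' * N' * Q)) + b • N') := by
        have h4 : N' = a • ((p : ℤ) • N') + b • ((l : ℤ) • N') := by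
          rw [smul_smul, smul_smul, ← add_smul, hab, one_smul]
        have h5 : (l : ℤ) ^ k = (l : ℤ) * (l : ℤ) ^ (k - 1) := by
          rw [← pow_succ']; congr 1; omega
        conv_lhs => rw [h4, h1]
        rw [smul_add, smul_smul, smul_smul, smul_smul, smul_smul, h5]
        congr 2 <;> ring
      rw [pow_succ, mul_smul, ← h3]
      exact hN'
  have hN0 : N = 0 := by
    ext i j
    rw [Matrix.zero_apply]
    by_contra hne
    obtain ⟨N', hN'⟩ := key ((N i j).natAbs + 1) (by omega)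
    have h1 : ((l : ℤ) ^ ((N i j).natAbs + 1)) ∣ N i j := ⟨N' i j, by
      conv_lhs => rw [hN']
      rfl⟩
    have h2 : l ^ ((N i j).natAbs + 1) ∣ (N i j).natAbs := by
      have := Int.natAbs_dvd_natAbs.2 h1
      rwa [Int.natAbs_pow, Int.natAbs_natCast] at this
    have h3 := Nat.le_of_dvd (Int.natAbs_pos.2 hne) h2
    have h4 : (N i j).natAbs + 1 < l ^ ((N i j).natAbs + 1) := Nat.lt_pow_self hl.one_lt
    omega
  rw [hgN, hN0, add_zero]

/-! ### reduction -/

variable {M : Type*} [Group M]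

/-- reduction modulo `l` of an integral representation -/
noncomputable def red (r l : ℕ) (f : M →* Module.End ℤ (Fin r → ℤ)) : M →* Module.End (ZMod l) (Fin r → ZMod l) :=
  (Matrix.toLinAlgEquiv' (R := ZMod l) (n := Fin r)).toMonoidHom.comp
    ((RingHom.mapMatrix (Int.castRingHom (ZMod l)) : Matrix (Fin r) (Fin r) ℤ →+* _).toMonoidHom.comp
      ((LinearMap.toMatrixAlgEquiv' (R := ℤ) (n := Fin r)).toMonoidHom.comp f))

theorem red_faith [Finite M] {r l : ℕ} (hl : l.Prime) (hM : ¬ l ∣ Nat.card M) {f : M →* Module.End ℤ (Fin r → ℤ)}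
    (hf : Function.Injective f) {g : M} (hg : red r l f g = 1) : g = 1 := by
  by_contra hne
  -- an element of prime order
  have hz : orderOf g ≠ 1 := fun h => hne (orderOf_eq_one_iff.1 h)
  set p := (orderOf g).minFac with hp
  have hpp : p.Prime := Nat.minFac_prime hz
  have hpd : p ∣ orderOf g := Nat.minFac_dvd _
  set x : M := g ^ (orderOf g / p) with hx
  have hxo : orderOf x = p := by
    rw [hx, orderOf_pow_of_dvd (Nat.div_pos (Nat.le_of_dvd (orderOf_pos g) hpd) hpp.pos).ne' (Nat.div_dvd_of_dvd hpd)]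
    exact Nat.div_div_self hpd (orderOf_pos g).ne'
  have hxr : red r l f x = 1 := by rw [hx, map_pow, hg, one_pow]
  have hlp : l ≠ p := by
    intro h
    apply hM
    rw [h, ← hxo]
    exact orderOf_dvd_natCard x
  set A : Matrix (Fin r) (Fin r) ℤ := LinearMap.toMatrixAlgEquiv' (f x) with hA
  have hAp : A ^ p = 1 := by
    rw [hA, ← map_pow, ← map_pow, ← hxo, pow_orderOf_eq_one, map_one, map_one]
  have hmap : A.map (Int.castRingHom (ZMod l)) = 1 := by
    have h1 : Matrix.toLinAlgEquiv' (R := ZMod l) (n := Fin r) (A.map (Int.castRingHom (ZMod l))) = 1 := hxr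
    rw [← map_one (Matrix.toLinAlgEquiv' (R := ZMod l) (n := Fin r))] at h1
    exact (Matrix.toLinAlgEquiv' (R := ZMod l) (n := Fin r)).injective h1
  have hA1 : A = 1 := by
    refine minkowski hl hpp hlp hAp fun i j => ?_
    have h1 := congrFun (congrFun hmap i) j
    have h2 : ((1 : Matrix (Fin r) (Fin r) ℤ) i j : ZMod l) = (1 : Matrix (Fin r) (Fin r) (ZMod l)) i j := by
      rw [Matrix.one_apply, Matrix.one_apply]
      split <;> simp
    rw [← h2, Matrix.map_apply] at h1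
    rw [Matrix.sub_apply]
    exact (ZMod.intCast_eq_intCast_iff_dvd_sub _ _ _).1 h1.symm
  have h1 : f x = 1 := by
    rw [← map_one (LinearMap.toMatrixAlgEquiv' (R := ℤ) (n := Fin r))] at hA1
    exact (LinearMap.toMatrixAlgEquiv' (R := ℤ) (n := Fin r)).injective hA1
  have h2 : x = 1 := hf (h1.trans (map_one f).symm)
  rw [h2, orderOf_one] at hxo
  exact hpp.one_lt.ne hxo

theorem exists_pow_mul {n s t : ℕ} (hn : n ≠ 0) (hs : s.Prime) (h : ∀ l : ℕ, l.Prime → l ∣ n → l = s ∨ l = t) :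
    ∃ a b, n = s ^ a * t ^ b := by
  obtain ⟨a, m, hm, rfl⟩ := Nat.exists_eq_pow_mul_and_not_dvd hn s hs.ne_one
  refine ⟨a, m.primeFactorsList.length, ?_⟩
  congr 1
  have hm0 : m ≠ 0 := by
    rintro rfl
    exact hm (dvd_zero s)
  refine Nat.eq_prime_pow_of_unique_prime_dvd hm0 fun {d} hd hdm => ?_
  rcases h d hd (hdm.mul_left _) with rfl | rfl
  · exact absurd hdm hm
  · rfl

theorem le_of_not_dvd {s a v W : ℕ} (h : s ^ a ∣ W) (h' : ¬ s ^ (v + 1) ∣ W) : a ≤ v := by
  by_contra hcon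
  exact h' ((pow_dvd_pow s (by omega)).trans h)

/-- **The pair lemma for `W(E6)`, `W(E7)`, `W(E8)`.** -/
theorem pair_weyl [Finite M] [Group.IsSolvable M] {r W : ℕ}
    (hrW : (r = 6 ∧ W = 51840) ∨ (r = 7 ∧ W = 2903040) ∨ (r = 8 ∧ W = 696729600))
    (f : M →* Module.End ℤ (Fin r → ℤ)) (hf : Function.Injective f) {s t : ℕ} (hs : s.Prime) (ht : t.Prime)
    (hs2 : s ≠ 2) (hst : s < t) (hM : ∀ l : ℕ, l.Prime → l ∣ Nat.card M → l = s ∨ l = t) {k : ℕ}
    (hk : s ^ k ∣ Nat.card M) (hk' : ¬ s ^ (k + 1) ∣ W) (hW : Nat.card M ∣ W) : ¬ t ∣ Nat.card M := by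
  intro htd
  obtain ⟨a, b, hab⟩ := exists_pow_mul Nat.card_pos.ne' hs hM
  have hs3 : 3 ≤ s := by
    have := hs.two_le
    omega
  have htW : t ∣ W := htd.trans hW
  have ht57 : t = 5 ∨ t = 7 := by
    have h1 : t ∣ 2 ^ 14 * (3 ^ 5 * (5 ^ 2 * 7)) := by
      refine htW.trans ?_
      rcases hrW with ⟨-, rfl⟩ | ⟨-, rfl⟩ | ⟨-, rfl⟩ <;> norm_num
    rcases ht.dvd_mul.1 h1 with h2 | h2
    · have := (Nat.prime_dvd_prime_iff_eq ht Nat.prime_two).1 (ht.dvd_of_dvd_pow h2)
      omega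
    rcases ht.dvd_mul.1 h2 with h2 | h2
    · have := (Nat.prime_dvd_prime_iff_eq ht Nat.prime_three).1 (ht.dvd_of_dvd_pow h2)
      omega
    rcases ht.dvd_mul.1 h2 with h2 | h2
    · exact Or.inl ((Nat.prime_dvd_prime_iff_eq ht (by norm_num)).1 (ht.dvd_of_dvd_pow h2))
    · exact Or.inr ((Nat.prime_dvd_prime_iff_eq ht (by norm_num)).1 h2)
  have hs35 : s = 3 ∨ (s = 5 ∧ t = 7) := by
    have h4 : s ≠ 4 := by rintro rfl; norm_num at hs
    have h6 : s ≠ 6 := by rintro rfl; norm_num at hs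
    omega
  have hsaM : s ^ a ∣ Nat.card M := by rw [hab]; exact Dvd.intro _ rfl
  have htbM : t ^ b ∣ Nat.card M := by rw [hab]; exact Dvd.intro_left _ rfl
  have hsa : s ^ a ∣ W := hsaM.trans hW
  have htb : t ^ b ∣ W := htbM.trans hW
  have hcst : Nat.Coprime s t := (Nat.coprime_primes hs ht).2 hst.ne
  have hka : k ≤ a := by
    rw [hab] at hk
    have h1 := (Nat.Coprime.pow k b hcst).dvd_of_dvd_mul_right hk
    exact (Nat.pow_dvd_pow_iff_le_right hs.one_lt).1 h1
  have hb0 : b ≠ 0 := by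
    rintro rfl
    rw [pow_zero, mul_one] at hab
    rw [hab] at htd
    have := (Nat.prime_dvd_prime_iff_eq ht hs).1 (ht.dvd_of_dvd_pow htd)
    omega
  have hkv : ∀ v, s ^ v ∣ W → v ≤ a := by
    intro v hv
    refine le_trans ?_ hka
    by_contra hcon
    exact hk' ((pow_dvd_pow s (by omega)).trans hv)
  -- the action
  have act : ∀ l : ℕ, l.Prime → ¬ l ∣ Nat.card M → ∃ _ : DistribMulAction M (Fin r → ZMod l), Faith M (Fin r → ZMod l) := by
    intro l hl hlM
    refine ⟨DistribMulAction.compHom (Fin r → ZMod l) (red r l f), fun g hg => red_faith hl hlM hf ?_⟩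
    exact LinearMap.ext fun v => hg v
  have hcardV : ∀ l : ℕ, l ≠ 0 → Nat.card (Fin r → ZMod l) = l ^ r := by
    intro l hl
    rw [Nat.card_fun, Nat.card_zmod, Nat.card_eq_fintype_card, Fintype.card_fin]
  have hcop : ∀ l : ℕ, l.Prime → l ≠ s → l ≠ t → ¬ l ∣ Nat.card M := fun l hl h1 h2 h =>
    (hM l hl h).elim h1 h2
  rcases hs35 with rfl | ⟨rfl, rfl⟩
  · -- `s = 3`
    obtain ⟨_, hF⟩ := act 2 Nat.prime_two (hcop 2 Nat.prime_two (by norm_num) (by omega))
    have hV := hcardV 2 (by norm_num)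
    have ha4 : (r ≤ 7 ∧ a = 4) ∨ (r = 8 ∧ a = 5) := by
      rcases hrW with ⟨rfl, rfl⟩ | ⟨rfl, rfl⟩ | ⟨rfl, rfl⟩
      · exact Or.inl ⟨by norm_num, le_antisymm (le_of_not_dvd hsa (by norm_num)) (hkv 4 (by norm_num))⟩
      · exact Or.inl ⟨by norm_num, le_antisymm (le_of_not_dvd hsa (by norm_num)) (hkv 4 (by norm_num))⟩
      · exact Or.inr ⟨rfl, le_antisymm (le_of_not_dvd hsa (by norm_num)) (hkv 5 (by norm_num))⟩
    rcases ht57 with rfl | rfl
    · have hb2 : b ≤ 2 := by
        rcases hrW with ⟨rfl, rfl⟩ | ⟨rfl, rfl⟩ | ⟨rfl, rfl⟩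
        · exact le_of_not_dvd htb (by norm_num)
        · exact le_of_not_dvd htb (by norm_num)
        · exact le_of_not_dvd htb (by norm_num)
      exact no_five hF hV ha4 hab hb0 hb2
    · have hb1 : b = 1 := by
        have h1 : b ≤ 1 := by
          rcases hrW with ⟨rfl, rfl⟩ | ⟨rfl, rfl⟩ | ⟨rfl, rfl⟩
          · exact le_of_not_dvd htb (by norm_num)
          · exact le_of_not_dvd htb (by norm_num)
          · exact le_of_not_dvd htb (by norm_num)
        omega
      rw [hb1, pow_one] at hab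
      exact no_seven hF hV ha4 hab
  · -- `s = 5`, `t = 7`
    obtain ⟨_, hF⟩ := act 3 Nat.prime_three (hcop 3 Nat.prime_three (by norm_num) (by norm_num))
    have hV := hcardV 3 (by norm_num)
    have hr8 : r ≤ 8 := by omega
    have hb1 : b = 1 := by
      have h1 : b ≤ 1 := by
        rcases hrW with ⟨rfl, rfl⟩ | ⟨rfl, rfl⟩ | ⟨rfl, rfl⟩
        · exact le_of_not_dvd htb (by norm_num)
        · exact le_of_not_dvd htb (by norm_num)
        · exact le_of_not_dvd htb (by norm_num)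
      omega
    rw [hb1, pow_one] at hab
    have ha1 : 1 ≤ a := by
      apply hkv 1
      rcases hrW with ⟨rfl, rfl⟩ | ⟨rfl, rfl⟩ | ⟨rfl, rfl⟩ <;> norm_num
    have ha2 : a ≤ 2 := by
      rcases hrW with ⟨rfl, rfl⟩ | ⟨rfl, rfl⟩ | ⟨rfl, rfl⟩
      · exact le_of_not_dvd hsa (by norm_num)
      · exact le_of_not_dvd hsa (by norm_num)
      · exact le_of_not_dvd hsa (by norm_num)
    exact no_fs hF hr8 hV (by omega) (by omega) hab

end Cfsg.Agent.H566.PairW
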