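import Cfsg.Agent.H566.PairLat
import Cfsg.Agent.S0144
import Cfsg.Agent.S1093
import Cfsg.Agent.ChevalleyStructure.CoxeterGeomTypes

/-!
# `{s, t}`-subgroups of `W(E6)`, `W(E7)`, `W(E8)` (helper566)

A subgroup of `W` whose order involves only the odd primes `s < t` and is divisible by the full power of `s` in `|W|` is an
`s`-group (S4350, exceptional rows).
-/

set_option autoImplicit false

namespace Cfsg.Agent.H566.WeylST

open Cfsg Cfsg.Agent.ChevalleyStructure.CoxeterGeom Cfsg.Agent.ChevalleyStructure.CoxeterGeomTypes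
open Cfsg.Agent.H566.PairW

theorem wl_gen {l : ℕ} {M : CoxeterMatrix (Fin l)} {A : Fin l → Fin l → ℤ} (hA : IsCartan M A) {W : ℕ}
    (hrW : (l = 6 ∧ W = 51840) ∨ (l = 7 ∧ W = 2903040) ∨ (l = 8 ∧ W = 696729600)) (hW : Nat.card M.Group = W)
    {s t : ℕ} (hs : s.Prime) (ht : t.Prime) (hs2 : s ≠ 2) (hst : s < t) {k : ℕ} (hk' : ¬ s ^ (k + 1) ∣ W)
    (H : Subgroup M.Group) (hq : ∀ q : ℕ, q.Prime → q ∣ Nat.card H → q = s ∨ q = t) (h : s ^ k ∣ Nat.card H) :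
    ¬ t ∣ Nat.card H := by
  have hW0 : W ≠ 0 := by
    rcases hrW with ⟨-, rfl⟩ | ⟨-, rfl⟩ | ⟨-, rfl⟩ <;> norm_num
  have hfin : Finite M.Group := Nat.finite_of_card_ne_zero (by rw [hW]; exact hW0)
  obtain ⟨a, b, hab⟩ := exists_pow_mul (Nat.card_pos (α := H)).ne' hs hq
  have hsol : Group.IsSolvable H := Cfsg.Agent.S0144.result s t a b hs ht hab
  refine pair_weyl (M := H) hrW ((rep M.toCoxeterSystem hA).comp H.subtype) ?_ hs ht hs2 hst hq h hk' ?_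
  · exact (rep_injective M.toCoxeterSystem hA).comp H.subtype_injective
  · rw [← hW]
    exact H.card_subgroup_dvd_card

theorem card_E6 : Nat.card CoxeterMatrix.E₆.Group = 51840 :=
  Cfsg.Agent.S1093.result (⟨6, CoxeterMatrix.E₆⟩, 51840) (by simp)
theorem card_E7 : Nat.card CoxeterMatrix.E₇.Group = 2903040 :=
  Cfsg.Agent.S1093.result (⟨7, CoxeterMatrix.E₇⟩, 2903040) (by simp)
theorem card_E8 : Nat.card CoxeterMatrix.E₈.Group = 696729600 :=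
  Cfsg.Agent.S1093.result (⟨8, CoxeterMatrix.E₈⟩, 696729600) (by simp)

theorem wl_E6_35 (H : Subgroup CoxeterMatrix.E₆.Group) (hq : ∀ q : ℕ, q.Prime → q ∣ Nat.card H → q = 3 ∨ q = 5)
    (h : 3 ^ 4 ∣ Nat.card H) : ¬ 5 ∣ Nat.card H :=
  wl_gen isCartan_E6 (Or.inl ⟨rfl, rfl⟩) card_E6 (by norm_num) (by norm_num) (by norm_num) (by norm_num) (by norm_num)
    H hq h

theorem wl_E7_35 (H : Subgroup CoxeterMatrix.E₇.Group) (hq : ∀ q : ℕ, q.Prime → q ∣ Nat.card H → q = 3 ∨ q = 5)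
    (h : 3 ^ 4 ∣ Nat.card H) : ¬ 5 ∣ Nat.card H :=
  wl_gen isCartan_E7 (Or.inr (Or.inl ⟨rfl, rfl⟩)) card_E7 (by norm_num) (by norm_num) (by norm_num) (by norm_num)
    (by norm_num) H hq h

theorem wl_E7_37 (H : Subgroup CoxeterMatrix.E₇.Group) (hq : ∀ q : ℕ, q.Prime → q ∣ Nat.card H → q = 3 ∨ q = 7)
    (h : 3 ^ 4 ∣ Nat.card H) : ¬ 7 ∣ Nat.card H :=
  wl_gen isCartan_E7 (Or.inr (Or.inl ⟨rfl, rfl⟩)) card_E7 (by norm_num) (by norm_num) (by norm_num) (by norm_num)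
    (by norm_num) H hq h

theorem wl_E7_57 (H : Subgroup CoxeterMatrix.E₇.Group) (hq : ∀ q : ℕ, q.Prime → q ∣ Nat.card H → q = 5 ∨ q = 7)
    (h : 5 ^ 1 ∣ Nat.card H) : ¬ 7 ∣ Nat.card H :=
  wl_gen isCartan_E7 (Or.inr (Or.inl ⟨rfl, rfl⟩)) card_E7 (by norm_num) (by norm_num) (by norm_num) (by norm_num)
    (by norm_num) H hq h

theorem wl_E8_35 (H : Subgroup CoxeterMatrix.E₈.Group) (hq : ∀ q : ℕ, q.Prime → q ∣ Nat.card H → q = 3 ∨ q = 5)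
    (h : 3 ^ 5 ∣ Nat.card H) : ¬ 5 ∣ Nat.card H :=
  wl_gen isCartan_E8 (Or.inr (Or.inr ⟨rfl, rfl⟩)) card_E8 (by norm_num) (by norm_num) (by norm_num) (by norm_num)
    (by norm_num) H hq h

theorem wl_E8_37 (H : Subgroup CoxeterMatrix.E₈.Group) (hq : ∀ q : ℕ, q.Prime → q ∣ Nat.card H → q = 3 ∨ q = 7)
    (h : 3 ^ 5 ∣ Nat.card H) : ¬ 7 ∣ Nat.card H :=
  wl_gen isCartan_E8 (Or.inr (Or.inr ⟨rfl, rfl⟩)) card_E8 (by norm_num) (by norm_num) (by norm_num) (by norm_num)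
    (by norm_num) H hq h

theorem wl_E8_57 (H : Subgroup CoxeterMatrix.E₈.Group) (hq : ∀ q : ℕ, q.Prime → q ∣ Nat.card H → q = 5 ∨ q = 7)
    (h : 5 ^ 2 ∣ Nat.card H) : ¬ 7 ∣ Nat.card H :=
  wl_gen isCartan_E8 (Or.inr (Or.inr ⟨rfl, rfl⟩)) card_E8 (by norm_num) (by norm_num) (by norm_num) (by norm_num)
    (by norm_num) H hq h

end Cfsg.Agent.H566.WeylST
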