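import Cfsg.Agent.H554.BS.RegOm
import Cfsg.Agent.H566.OmForm

/-!
# The torus elements of order dividing `q ≥ 5` are regular: `F4`, `E7`, `E8` (helper566)

* `Tq hp q` : the subgroup of the elements `t` of the torus with `t ^ q = 1`;
* `omOK_F4`, `omOK_E7`, `omOK_E8` : `OmOK hp hk p q (Tq hp q)` for the primes `q ≥ 5`, `q ≠ p`.
-/

set_option autoImplicit false
set_option linter.unusedSectionVars false
set_option maxRecDepth 100000

namespace Cfsg.Agent.H566.OmFE

open CoxeterSystem Cfsg Cfsg.Lie Cfsg.Lie.ChevalleyDatum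
open Cfsg.Agent.ChevalleyStructure Cfsg.Agent.ChevalleyStructure.Elts Cfsg.Agent.ChevalleyStructure.CoxeterGeom
  Cfsg.Agent.ChevalleyStructure.CoxeterGeomTypes Cfsg.Agent.ChevalleyStructure.NPerm
open Cfsg.Agent.Tits.Roots Cfsg.Agent.Tits.Core Cfsg.Agent.Nodes Cfsg.Agent.Nodes.Reps Cfsg.Agent.Nodes.BNOf
  Cfsg.Agent.Nodes.RGDChev Cfsg.Agent.Nodes.Bruhat Cfsg.Agent.Nodes.NormalForm
open Cfsg.Agent.KFacts.RgdField Cfsg.Agent.KFacts.RgdChevCoord
open Cfsg.Agent.BpExc Cfsg.Agent.BpExc.TorCent Cfsg.Agent.BpExc.TorChev Cfsg.Agent.BpExc.Tow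
  Cfsg.Agent.BpExc.TowChev Cfsg.Agent.BpExc.Fr Cfsg.Agent.BpExc.Pair Cfsg.Agent.BpExc.LangFr Cfsg.Agent.GpExc.Field
  Cfsg.Agent.BpExc.TorAll
open Cfsg.Agent.H795.LangT Cfsg.Agent.H129.TorusChar Cfsg.Agent.H554.BS Cfsg.Agent.H566.OmForm
open Cfsg.Agent.ChevalleyStructure.RootVec (rt)
open scoped commutatorElement

universe u

/-! ### the tables -/

/-- the coefficients are at most 6, and not all divisible by 5; a root whose coefficients other than the `i`-th are
divisible by 5 is `±` the `i`-th simple root -/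
def tabS (D : ChevalleyDatum) (l : ℕ) : Bool :=
  (List.range D.nroots).all fun r =>
    ((List.range l).all fun j => decide (-6 ≤ rt D r j) && decide (rt D r j ≤ 6)) &&
      (((List.range l).any fun j => decide (rt D r j % 5 ≠ 0)) &&
        (List.range l).all fun i =>
          (!((List.range l).all fun j => decide (j = i) || decide (rt D r j % 5 = 0))) ||
            (decide (r = D.simple i) || decide (r = D.neg (D.simple i))))

theorem tabS_F4 : tabS chevF4 4 = true := by decide +kernel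
theorem tabS_E7 : tabS chevE7 7 = true := by decide +kernel
theorem tabS_E8 : tabS chevE8 8 = true := by decide +kernel

/-- strongly orthogonal partners of the simple roots -/
def tabP (D : ChevalleyDatum) (L : List ℕ) : Bool :=
  (List.range L.length).all fun i => pairOK D (D.simple i) (L.getD i 0)

theorem tabP_F4 : tabP chevF4 [0, 0, 0, 2] = true := by decide +kernel
theorem tabP_E7 : tabP chevE7 [2, 0, 0, 0, 0, 0, 0] = true := by decide +kernel
theorem tabP_E8 : tabP chevE8 [0, 0, 0, 0, 0, 0, 0, 2] = true := by decide +kernel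

theorem tabS_le {D : ChevalleyDatum} {l : ℕ} (h : tabS D l = true) {r : ℕ} (hr : r < D.nroots) {j : ℕ} (hj : j < l) :
    -6 ≤ rt D r j ∧ rt D r j ≤ 6 := by
  have h1 := List.all_eq_true.1 h r (List.mem_range.2 hr)
  rw [Bool.and_eq_true] at h1
  have h2 := List.all_eq_true.1 h1.1 j (List.mem_range.2 hj)
  rw [Bool.and_eq_true, decide_eq_true_iff, decide_eq_true_iff] at h2
  exact h2

theorem tabS_ne {D : ChevalleyDatum} {l : ℕ} (h : tabS D l = true) {r : ℕ} (hr : r < D.nroots) :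
    ∃ j < l, rt D r j % 5 ≠ 0 := by
  have h1 := List.all_eq_true.1 h r (List.mem_range.2 hr)
  rw [Bool.and_eq_true, Bool.and_eq_true] at h1
  obtain ⟨j, hj, hj'⟩ := List.any_eq_true.1 h1.2.1
  exact ⟨j, List.mem_range.1 hj, by simpa using hj'⟩

theorem tabS_simple {D : ChevalleyDatum} {l : ℕ} (h : tabS D l = true) {r : ℕ} (hr : r < D.nroots) {i : ℕ} (hi : i < l)
    (h5 : ∀ j < l, j ≠ i → rt D r j % 5 = 0) : r = D.simple i ∨ r = D.neg (D.simple i) := by
  have h1 := List.all_eq_true.1 h r (List.mem_range.2 hr)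
  rw [Bool.and_eq_true, Bool.and_eq_true] at h1
  have h2 := List.all_eq_true.1 h1.2.2 i (List.mem_range.2 hi)
  rw [Bool.or_eq_true, Bool.or_eq_true, decide_eq_true_iff, decide_eq_true_iff] at h2
  refine h2.resolve_left fun h3 => ?_
  rw [Bool.not_eq_true', ← Bool.not_eq_true] at h3
  apply h3
  rw [List.all_eq_true]
  intro j hj
  rw [Bool.or_eq_true, decide_eq_true_iff, decide_eq_true_iff]
  by_cases hji : j = i
  · exact Or.inl hji
  · exact Or.inr (h5 j (List.mem_range.1 hj) hji)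

theorem tabP_pok {D : ChevalleyDatum} {L : List ℕ} (h : tabP D L = true) {i : ℕ} (hi : i < L.length) :
    ∃ s', POK D (D.simple i) s' :=
  ⟨_, POK.of (List.all_eq_true.1 h i (List.mem_range.2 hi))⟩

theorem mod_five {q : ℕ} (hq : q.Prime) (h5 : 5 ≤ q) {x : ℤ} (h1 : -6 ≤ x) (h2 : x ≤ 6) (hx : (q : ℤ) ∣ x) :
    x % 5 = 0 := by
  rcases h5.eq_or_lt with h | h
  · rw [← h] at hx
    exact Int.emod_eq_zero_of_dvd hx
  · have h7 : 7 ≤ q := by
      by_contra hcon
      have : q = 6 := by omega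
      rw [this] at hq
      exact absurd hq (by norm_num)
    have h0 : x = 0 := by
      obtain ⟨c, hc⟩ := hx
      have hq7 : (7 : ℤ) ≤ q := by exact_mod_cast h7
      rcases lt_trichotomy c 0 with h8 | h8 | h8
      · have : (q : ℤ) * c ≤ q * (-1) := mul_le_mul_of_nonneg_left (by omega) (by omega)
        omega
      · rw [hc, h8, mul_zero]
      · have : (q : ℤ) * 1 ≤ q * c := mul_le_mul_of_nonneg_left (by omega) (by omega)
        omega
    rw [h0]
    rfl

/-! ### the elements of order dividing `q` -/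

section General

variable {D : ChevalleyDatum} {l : ℕ} {M : CoxeterMatrix (Fin l)} (hp : IsType D l M) {k : Type u} [Field k]

/-- the elements `t` of the torus with `t ^ q = 1` -/
def Tq (hp : IsType D l M) {k : Type u} [Field k] (q : ℕ) : Subgroup ↥(D.group k) where
  carrier := {t | t ∈ TT D k ∧ t ^ q = 1}
  one_mem' := ⟨one_mem _, one_pow q⟩
  mul_mem' := by
    rintro s t ⟨hs, hs'⟩ ⟨ht, ht'⟩
    exact ⟨mul_mem hs ht, by rw [(show Commute s t from TTab hp s hs t ht).mul_pow, hs', ht', one_mul]⟩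
  inv_mem' := by
    rintro s ⟨hs, hs'⟩
    exact ⟨inv_mem hs, by rw [inv_pow, hs', inv_one]⟩

variable {hp}

theorem mem_Tq {q : ℕ} {t : ↥(D.group k)} : t ∈ Tq hp q ↔ t ∈ TT D k ∧ t ^ q = 1 := Iff.rfl

variable (hp)

theorem exists_tq [IsAlgClosed k] {d : ℕ} {B : Fin l → Fin l → ℤ} (hB : InvC D l d B) (hd : d ≠ 0) {q : ℕ} {ζ : k}
    (hz : ζ ^ q = 1) (hz0 : ζ ≠ 0) (f : (Fin l → ℤ) →+ ℤ) : ∃ t ∈ Tq hp (k := k) q, ∀ x, cX hp t x = ζ ^ f x := by
  have hφ : IsMC (fun x : Fin l → ℤ => ζ ^ f x) := ⟨by rw [map_zero, zpow_zero], fun x y => by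
    rw [map_add, zpow_add₀ hz0]⟩
  obtain ⟨t, ht, h⟩ := exists_cX hp hB hd hφ (fun i => IsAlgClosed.exists_pow_nat_eq _ (Nat.pos_of_ne_zero hd))
  refine ⟨t, ⟨ht, ?_⟩, h⟩
  refine cX_inj hp (pow_mem ht q) (one_mem _) fun i => ?_
  rw [cX_pow hp ht, h, cX_one, ← zpow_natCast, ← zpow_mul, mul_comm, zpow_mul, zpow_natCast, hz, one_zpow]

theorem finite_Tq {q : ℕ} (hq : 0 < q) : Finite (Tq hp (k := k) q) := by
  classical
  have hfin : Finite {x : k // x ^ q = 1} := by
    refine Set.Finite.to_subtype (Set.Finite.subset (Finset.finite_toSet (Polynomial.nthRoots q (1 : k)).toFinset) ?_)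
    intro x hx
    rw [Finset.mem_coe, Multiset.mem_toFinset, Polynomial.mem_nthRoots hq]
    exact hx
  refine Finite.of_injective (fun (t : Tq hp (k := k) q) (i : Fin l) =>
    (⟨cX hp t.1 (sr i), by rw [← cX_pow hp t.2.1, t.2.2, cX_one]⟩ : {x : k // x ^ q = 1})) ?_
  intro s t hst
  exact Subtype.ext (cX_inj hp s.2.1 t.2.1 fun i => congrArg Subtype.val (congrFun hst i))

/-- the minors of two characters trivial on a subgroup of corank one -/
theorem minor [IsAlgClosed k] {d : ℕ} {B : Fin l → Fin l → ℤ} (hB : InvC D l d B) (hd : d ≠ 0) {q : ℕ} (hq : q.Prime)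
    {ζ : k} (hζ : IsPrimitiveRoot ζ q) {R : Subgroup ↥(D.group k)} (hpair : PairP q (Tq hp q) R) {a a' : Fin l → ℤ}
    (ha : ∀ h ∈ R, cX hp h a = 1) (ha' : ∀ h ∈ R, cX hp h a' = 1) (f g : (Fin l → ℤ) →+ ℤ) :
    (q : ℤ) ∣ f a * g a' - f a' * g a := by
  have hz0 : ζ ≠ 0 := hζ.ne_zero hq.ne_zero
  obtain ⟨t, ht, htf⟩ := exists_tq hp hB hd hζ.pow_eq_one hz0 f
  obtain ⟨s, hs, hsg⟩ := exists_tq hp hB hd hζ.pow_eq_one hz0 g
  obtain ⟨α, β, hab, hm⟩ := hpair t ht s hs
  have key : ∀ b, (∀ h ∈ R, cX hp h b = 1) → (q : ℤ) ∣ α * f b + β * g b := by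
    intro b hb
    have h1 := hb _ hm
    rw [cX_mul hp (pow_mem ht.1 α) (pow_mem hs.1 β), cX_pow hp ht.1, cX_pow hp hs.1, htf, hsg, ← zpow_natCast,
      ← zpow_natCast, ← zpow_mul, ← zpow_mul, ← zpow_add₀ hz0] at h1
    have h2 := (hζ.zpow_eq_one_iff_dvd _).1 h1
    have e : (α : ℤ) * f b + β * g b = f b * α + g b * β := by ring
    rw [e]
    exact h2
  have h1 := key a ha
  have h2 := key a' ha'
  have hqi : Prime (q : ℤ) := Nat.prime_iff_prime_int.1 hq
  have h3 : (q : ℤ) ∣ α * (f a * g a' - f a' * g a) := by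
    have : (α : ℤ) * (f a * g a' - f a' * g a) = (α * f a + β * g a) * g a' - (α * f a' + β * g a') * g a := by ring
    rw [this]
    exact dvd_sub (h1.mul_right _) (h2.mul_right _)
  have h4 : (q : ℤ) ∣ β * (f a * g a' - f a' * g a) := by
    have : (β : ℤ) * (f a * g a' - f a' * g a) = (α * f a' + β * g a') * f a - (α * f a + β * g a) * f a' := by ring
    rw [this]
    exact dvd_sub (h2.mul_right _) (h1.mul_right _)
  by_contra hcon
  exact hab ⟨Int.natCast_dvd_natCast.1 ((hqi.dvd_or_dvd h3).resolve_right hcon),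
    Int.natCast_dvd_natCast.1 ((hqi.dvd_or_dvd h4).resolve_right hcon)⟩

/-- the coordinates -/
def co (l : ℕ) (j : Fin l) : (Fin l → ℤ) →+ ℤ := Pi.evalAddMonoidHom (fun _ : Fin l => ℤ) j

theorem co_apply (j : Fin l) (x : Fin l → ℤ) : co l j x = x j := rfl

/-- the pairing -/
def pr (A : Fin l → Fin l → ℤ) (i : Fin l) : (Fin l → ℤ) →+ ℤ where
  toFun := pairing A i
  map_zero' := by
    unfold pairing
    exact Finset.sum_eq_zero fun j _ => by rw [Pi.zero_apply, mul_zero]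
  map_add' := pairing_add A i

theorem pr_apply (A : Fin l → Fin l → ℤ) (i : Fin l) (x : Fin l → ℤ) : pr A i x = pairing A i x := rfl

theorem exists_zeta [IsAlgClosed k] {p : ℕ} [Fact p.Prime] [CharP k p] {q : ℕ} (hq : q.Prime) (hqp : q ≠ p) :
    ∃ ζ : k, IsPrimitiveRoot ζ q := by
  have hp' : p.Prime := Fact.out
  have h0 : NeZero ((q : ℕ) : k) := ⟨by
    rw [Ne, CharP.cast_eq_zero_iff k p]
    intro h
    exact hqp ((Nat.prime_dvd_prime_iff_eq hp' hq).1 h).symm⟩
  exact HasEnoughRootsOfUnity.exists_primitiveRoot k q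

variable (hk : LocFin k) {p : ℕ} [Fact p.Prime] [CharP k p]

theorem omOK_gen [IsAlgClosed k] {d : ℕ} {B : Fin l → Fin l → ℤ} (hB : InvC D l d B) (hd : d ≠ 0) {e : Fin l → ℤ}
    (F : Fm (cartanOf D l) e) (hS : tabS D l = true) {L : List ℕ} (hL : L.length = l) (hP : tabP D L = true)
    (hl : 0 < l) {q : ℕ} (hq : q.Prime) (h5 : 5 ≤ q) (hqp : q ≠ p) : OmOK hp hk p q (Tq hp q) := by
  obtain ⟨ζ, hζ⟩ := exists_zeta (k := k) (p := p) hq hqp
  have hz0 : ζ ≠ 0 := hζ.ne_zero hq.ne_zero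
  refine ⟨fun t ht => ht.1, finite_Tq hp hq.pos, fun t ht => ht.2, ?_, ?_, ?_⟩
  · -- no root is trivial
    intro r hr
    obtain ⟨j, hj, hj5⟩ := tabS_ne hS hr
    obtain ⟨t, ht, h1⟩ := exists_tq hp hB hd hζ.pow_eq_one hz0 (co l ⟨j, hj⟩)
    refine ⟨t, ht, fun h2 => hj5 ?_⟩
    rw [← cX_vec hp ht.1 hr, h1, hζ.zpow_eq_one_iff_dvd, co_apply] at h2
    obtain ⟨b1, b2⟩ := tabS_le hS hr hj
    exact mod_five hq h5 b1 b2 h2
  · -- the hyperplanes
    intro R hR hpair
    by_cases hex : ∃ a, IsRoot M.toCoxeterSystem hp.isCartan a ∧ ∀ h ∈ R, ch hp a h = 1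
    · obtain ⟨a, ha, haR⟩ := hex
      obtain ⟨v, i, hvi⟩ := ha
      obtain ⟨s', hs'⟩ := tabP_pok hP (i := (i : ℕ)) (by rw [hL]; exact i.2)
      refine ⟨v⁻¹, D.simple i, s', hs', fun a' ha' ha'R => ?_⟩
      have hb := ha'.act v⁻¹
      obtain ⟨r, hr, hrb⟩ := (isRoot_iff hp M.toCoxeterSystem _).1 hb
      refine ⟨r, ?_, hrb.symm⟩
      have hva : rep M.toCoxeterSystem hp.isCartan v⁻¹ a = sr i := by
        rw [hvi, ← rep_mul_apply, inv_mul_cancel, map_one, Module.End.one_apply]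
      have hroot : IsRoot M.toCoxeterSystem hp.isCartan a := ⟨v, i, hvi⟩
      have hmin : ∀ j : Fin l, j ≠ i → (q : ℤ) ∣ rt D r j := by
        intro j hj
        have h1 := minor hp hB hd hq hζ (R := R) hpair (a := a) (a' := a')
          (fun h hh => by rw [cX_root hp M.toCoxeterSystem (hR hh).1 hroot]; exact haR h hh)
          (fun h hh => by rw [cX_root hp M.toCoxeterSystem (hR hh).1 ha']; exact ha'R h hh)
          ((co l i).comp (rep M.toCoxeterSystem hp.isCartan v⁻¹).toAddMonoidHom)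
          ((co l j).comp (rep M.toCoxeterSystem hp.isCartan v⁻¹).toAddMonoidHom)
        simp only [AddMonoidHom.comp_apply, LinearMap.toAddMonoidHom_coe, hva, co_apply, sr_self, sr_ne hj,
          mul_zero, sub_zero, one_mul, ← hrb] at h1
        exact h1
      have h6 := tabS_simple hS hr i.2 (fun j hj hji => by
        obtain ⟨b1, b2⟩ := tabS_le hS hr hj
        exact mod_five hq h5 b1 b2 (hmin ⟨j, hj⟩ (fun h => hji (congrArg Fin.val h))))
      rcases h6 with h6 | h6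
      · exact Or.inl h6
      · exact Or.inr (Or.inl h6)
    · obtain ⟨s', hs'⟩ := tabP_pok hP (i := 0) (by rw [hL]; exact hl)
      refine ⟨1, D.simple 0, s', hs', fun a' ha' ha'R => absurd ⟨a', ha', ha'R⟩ hex⟩
  · -- quadratic action
    intro w b hb hquad
    refine F.w_one hp.isCartan hq h5 w fun i => ?_
    obtain ⟨t, ht, h1⟩ := exists_tq hp hB hd hζ.pow_eq_one hz0 (pr (cartanOf D l) i)
    have ht1 : b * t * b⁻¹ ∈ TT D k := rp_conj_mem hp hk hb ht.1
    have ht2 : b * (b * t * b⁻¹) * b⁻¹ ∈ TT D k := rp_conj_mem hp hk hb ht1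
    have e0 : t * (b * (b * t * b⁻¹) * b⁻¹) = (b * t * b⁻¹) * (b * t * b⁻¹) := by
      have h2 := hquad t ht
      have h3 : ⁅⁅t, b⁆, b⁆ = t * (b * t * b⁻¹)⁻¹ * (b * (b * t * b⁻¹) * b⁻¹) * (b * t * b⁻¹)⁻¹ := by
        simp only [commutatorElement_def]; group
      rw [h3] at h2
      have c1 : (b * t * b⁻¹)⁻¹ * (b * (b * t * b⁻¹) * b⁻¹) = (b * (b * t * b⁻¹) * b⁻¹) * (b * t * b⁻¹)⁻¹ :=
        TTab hp _ (inv_mem ht1) _ ht2
      rw [mul_assoc t, c1, ← mul_assoc t, mul_assoc (t * _), ← mul_inv_rev] at h2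
      exact mul_inv_eq_one.1 h2
    have hx := congrArg (fun y => cX hp y (rep M.toCoxeterSystem hp.isCartan w (Pi.single i 1))) e0
    simp only [cX_mul hp ht.1 ht2, cX_mul hp ht1 ht1] at hx
    rw [cX_rp' hp hk hb ht1, cX_rp' hp hk hb ht.1] at hx
    have hy : cX hp (b * t * b⁻¹) (Pi.single i 1) = cX hp t (rep M.toCoxeterSystem hp.isCartan w⁻¹ (Pi.single i 1)) := by
      have h2 := cX_rp' hp hk hb ht.1 (rep M.toCoxeterSystem hp.isCartan w⁻¹ (Pi.single i 1))
      rw [← rep_mul_apply, mul_inv_cancel, map_one, Module.End.one_apply] at h2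
      exact h2
    rw [hy, h1, h1, h1, ← zpow_add₀ hz0, ← zpow_add₀ hz0] at hx
    have e2 : pr (cartanOf D l) i (Pi.single i 1) = 2 := by
      rw [pr_apply, pairing_single, hp.isCartan.diag, mul_one]
    have h7 : ζ ^ (pr (cartanOf D l) i (rep M.toCoxeterSystem hp.isCartan w (Pi.single i 1)) - 4 +
        pr (cartanOf D l) i (rep M.toCoxeterSystem hp.isCartan w⁻¹ (Pi.single i 1))) = 1 := by
      rw [e2] at hx
      have h8 : ζ ^ (pr (cartanOf D l) i (rep M.toCoxeterSystem hp.isCartan w (Pi.single i 1)) - 4 +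
        pr (cartanOf D l) i (rep M.toCoxeterSystem hp.isCartan w⁻¹ (Pi.single i 1))) * ζ ^ ((2 : ℤ) + 2) = ζ ^ ((2 : ℤ) + 2) := by
        rw [← zpow_add₀ hz0, ← hx]
        congr 1
        ring
      exact (mul_eq_right₀ (zpow_ne_zero _ hz0)).1 h8
    exact (hζ.zpow_eq_one_iff_dvd _).1 h7

end General

section Rows

variable {k : Type u} [Field k] [IsAlgClosed k] (hk : LocFin k) {p : ℕ} [Fact p.Prime] [CharP k p]

theorem cartan_F4 : cartanOf chevF4 4 = A4 := by
  funext i j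
  revert i j
  decide +kernel

theorem cartan_E7 : cartanOf chevE7 7 = WeylTwo.A7 := by
  funext i j
  revert i j
  decide +kernel

theorem cartan_E8 : cartanOf chevE8 8 = WeylTwo.A8 := by
  funext i j
  revert i j
  decide +kernel

theorem omOK_F4 {M : CoxeterMatrix (Fin 4)} (hp : IsType chevF4 4 M) {q : ℕ} (hq : q.Prime) (h5 : 5 ≤ q)
    (hqp : q ≠ p) : OmOK hp hk p q (Tq hp (k := k) q) :=
  omOK_gen hp hk invC_F4 (by norm_num) (e := ![1, 1, 2, 2]) (by rw [cartan_F4]; exact fm4) tabS_F4 rfl tabP_F4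
    (by norm_num) hq h5 hqp

theorem omOK_E7 {M : CoxeterMatrix (Fin 7)} (hp : IsType chevE7 7 M) {q : ℕ} (hq : q.Prime) (h5 : 5 ≤ q)
    (hqp : q ≠ p) : OmOK hp hk p q (Tq hp (k := k) q) :=
  omOK_gen hp hk invC_E7 (by norm_num) (e := fun _ => 1) (by rw [cartan_E7]; exact fm7) tabS_E7 rfl tabP_E7
    (by norm_num) hq h5 hqp

theorem omOK_E8 {M : CoxeterMatrix (Fin 8)} (hp : IsType chevE8 8 M) {q : ℕ} (hq : q.Prime) (h5 : 5 ≤ q)
    (hqp : q ≠ p) : OmOK hp hk p q (Tq hp (k := k) q) :=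
  omOK_gen hp hk invC_E8 (by norm_num) (e := fun _ => 1) (by rw [cartan_E8]; exact fm8) tabS_E8 rfl tabP_E8
    (by norm_num) hq h5 hqp

end Rows

end Cfsg.Agent.H566.OmFE
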