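import Mathlib
import Cfsg.Agent.H566.RgdFam

/-!
# `PSU_3(q)` has rich coprime fixed points (helper566)

* `copRich_of_rgd_one` : root group data of rank one and a characteristic subgroup `Z` of `U` with two classes;
* `copRich_PSU3`.
-/

set_option autoImplicit false
set_option linter.unusedSectionVars false

namespace Cfsg.Agent.H566

open Subgroup Cfsg.Agent.Schreier.Tools Cfsg.Agent.Schreier.BNSch
open CoxeterSystem Cfsg.Agent.ChevalleyStructure.CoxeterGeom Cfsg.Agent.Tits.Roots Cfsg.Agent.Tits.Core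
  Cfsg.Agent.Tits.RootComb Cfsg.Agent.Nodes.Comb Cfsg.Agent.Nodes.Reps Cfsg.Agent.Nodes.BNOf Cfsg.Agent.FixBN
open scoped commutatorElement

/-- subgroups of a group with two classes -/
theorem TwoCls.mono {Y : Type*} [Group Y] {T X Z : Subgroup Y} (h : TwoCls T X) (hZ : Z ≤ X) (hne : Z ≠ ⊥) :
    TwoCls T Z := by
  obtain ⟨⟨z, hz⟩, hz0⟩ := Subgroup.ne_bot_iff_exists_ne_one.1 hne
  have hz1 : z ≠ 1 := fun e => hz0 (Subtype.ext e)
  obtain ⟨u₀, h0, h0', u₁, h1, h1', h2⟩ := h.out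
  have key : ∀ u₀ : Y, ∃ v ∈ Z, v ≠ 1 ∧ ∀ u ∈ Z, u ≠ 1 → (∃ b ∈ T, b * u₀ * b⁻¹ = u) → ∃ b ∈ T, b * v * b⁻¹ = u := by
    intro u₀
    by_cases hex : ∃ v ∈ Z, v ≠ 1 ∧ ∃ b ∈ T, b * u₀ * b⁻¹ = v
    · obtain ⟨v, hv, hv1, b, hb, e⟩ := hex
      refine ⟨v, hv, hv1, ?_⟩
      rintro u - - ⟨c, hc, e'⟩
      refine ⟨c * b⁻¹, mul_mem hc (inv_mem hb), ?_⟩
      rw [← e, ← e']; group
    · exact ⟨z, hz, hz1, fun u hu hu1 h => absurd ⟨u, hu, hu1, h⟩ hex⟩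
  obtain ⟨v₀, a1, a2, a3⟩ := key u₀
  obtain ⟨v₁, b1, b2, b3⟩ := key u₁
  refine ⟨v₀, a1, a2, v₁, b1, b2, fun u hu hu1 => ?_⟩
  exact (h2 u (hZ hu) hu1).imp (a3 u hu hu1) (b3 u hu hu1)

section Rgd

variable {I W Y : Type*} [Fintype I] [DecidableEq I] [Group W] [Group Y] {M : CoxeterMatrix I}
  {cs : CoxeterSystem M W} {A : I → I → ℤ} {h : IsCartan M A} {p : ℕ} {T : Subgroup Y} {n : I → Y}
  {X : (I → ℤ) → Subgroup Y}

theorem root_rank_one [Subsingleton I] (i : I) {x : I → ℤ} (hx : IsRoot cs h x) : x = sr i ∨ x = -sr i := by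
  obtain ⟨w, j, rfl⟩ := hx
  obtain rfl : j = i := Subsingleton.elim _ _
  obtain ⟨ω, rfl⟩ := cs.wordProd_surjective w
  induction ω with
  | nil => rw [wordProd_nil, map_one, Module.End.one_apply]; exact Or.inl rfl
  | cons k ω ih =>
    obtain rfl : k = j := Subsingleton.elim _ _
    rw [wordProd_cons, rep_mul_apply]
    rcases ih with e | e
    · rw [e, rep_simple_sr]; exact Or.inr rfl
    · rw [e, map_neg, rep_simple_sr, neg_neg]; exact Or.inl rfl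

theorem V_rank_one [Subsingleton I] (i : I) : RGD.Sup X (RGD.PosNe cs h i) = ⊥ := by
  rw [eq_bot_iff]
  refine RGD.Sup_le ?_
  rintro z ⟨hz, hz0, hzi⟩
  exfalso
  rcases root_rank_one (cs := cs) (h := h) i hz with e | e
  · exact hzi e
  · have h1 : (0 : ℤ) ≤ -(sr i i) := by
      have := hz0 i
      rw [e] at this
      exact this
    rw [sr_self] at h1
    omega

/-- **Root group data of rank one.** -/
theorem copRich_of_rgd_one [Subsingleton I] [Finite W] [Finite Y] [IsSimpleGroup Y] (hp : p.Prime) (R : RGD cs h p T n X)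
    (hgen : RGD.B cs h T X ⊔ NN cs R.nsys = ⊤) (h2 : 2 ∣ Nat.card Y) (i : I)
    {Z : Subgroup Y} (hZX : Z ≤ X (sr i)) (hZ : ∀ A : Subgroup (MulAut Y), Stab A (X (sr i)) → Stab A Z)
    (hTZ : TwoCls T Z) : CopRich Y := by
  have : Fact p.Prime := ⟨hp⟩
  have hne : (R.bnPair hgen).S.Nonempty := ⟨n i, i, rfl⟩
  have hS := SplitRGD.split_of_rgd hp R hgen (Cfsg.Agent.Tits.OfBN.normalCore_eq_bot (R.bnPair hgen) hne)
  obtain ⟨m, hm, hH⟩ := hS.tor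
  have hN := NodeRGD.node R hgen i
  have hV : RGD.Sup X (RGD.PosNe cs h i) = ⊥ := V_rank_one i
  have hU : RGD.Sup X (RGD.Pos cs h) = X (sr i) := by
    rw [R.Upos_eq i, hV, sup_bot_eq]
  refine copRich_of_bn' (R.bnPair hgen) (p := p) (RGD.Sup X (RGD.Pos cs h)) hS.isP h2 hS.le hS.norm hS.cover m hm hH
    hS.node (s := n i) ⟨i, rfl⟩ hN ?_ (Z := Z) (by rw [hU]; exact hZX) (by rw [hU]; exact hZ) ?_
  · intro C hC hB
    refine stab_of_card_le_two (R.bnPair hgen) ?_ hC hB ⟨i, rfl⟩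
    have h1 : (R.bnPair hgen).rank = Fintype.card I := R.bnPair_rank hgen
    have h3 : Fintype.card I ≤ 1 := Fintype.card_le_one_iff_subsingleton.2 inferInstance
    have h4 : Nat.card (R.bnPair hgen).S = Fintype.card I := h1
    omega
  · rw [hV]
    obtain ⟨u₀, h0, h0', u₁, h1, h1', h3⟩ := hTZ.out
    refine ⟨u₀, h0, fun e => h0' (Subgroup.mem_bot.1 e), u₁, h1, fun e => h1' (Subgroup.mem_bot.1 e), ?_⟩
    intro u hu huV
    have hu1 : u ≠ 1 := fun e => huV (Subgroup.mem_bot.2 e)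
    have key : ∀ w, (∃ b ∈ T, b * w * b⁻¹ = u) → Orb (R.bnPair hgen).B ⊥ w u := by
      rintro w ⟨b, hb, hw⟩
      refine ⟨b, RGD.T_le_B hb, ?_⟩
      rw [hw, inv_mul_cancel]
      exact one_mem _
    exact (h3 u hu hu1).imp (key u₀) (key u₁)

/-- the commutator subgroup of an invariant subgroup -/
theorem Stab.commutator {K : Type*} [Group K] {A : Subgroup (MulAut K)} {U : Subgroup K} (hU : Stab A U) :
    Stab A ⁅U, U⁆ := by
  intro α hα x hx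
  have h1 : ⁅U, U⁆.map α.toMonoidHom ≤ ⁅U, U⁆ := by
    rw [Subgroup.map_commutator]
    refine Subgroup.commutator_mono ?_ ?_
    · rintro _ ⟨u, hu, rfl⟩
      exact hU α hα u hu
    · rintro _ ⟨u, hu, rfl⟩
      exact hU α hα u hu
  exact h1 ⟨x, hx, rfl⟩

end Rgd

section Witt

open Cfsg.Agent.Nodes Cfsg.Agent.Nodes.WittAll Cfsg.Agent.Nodes.WittU Cfsg.Agent.Nodes.WittInst
  Cfsg.Agent.Nodes.WittRoot Cfsg.Agent.Nodes.WittRGD
  Cfsg.Agent.TitsThree.Siegel Cfsg.Agent.TitsThree.SiegelGen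
  Cfsg.Agent.TitsThree.WittFrame Cfsg.Agent.TitsThree.WBridge Cfsg.Agent.TitsThree.WittWeyl
  Cfsg.Agent.TitsThree.FrameCN

variable {F : Type*} [Field F] {V : Type*} [AddCommGroup V] [Module F V] {H : HForm F V} {n : ℕ}
  {Fr : Frame H (Fin n)}

/-- the root elements with trivial `V0`-part -/
def ZZ (Fr : Frame H (Fin n)) (x : Fin n × Bool) : Subgroup (V ≃ₗ[F] V) where
  carrier := {g | ∃ p : Fr.Adm, p.w = 0 ∧ g = Fr.Z x p}
  mul_mem' := by
    rintro _ _ ⟨p, hp, rfl⟩ ⟨q, hq, rfl⟩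
    exact ⟨p * q, by rw [Frame.Adm.mul_w, hp, hq, add_zero], (Fr.Z_mul _ _ _).symm⟩
  one_mem' := ⟨1, rfl, (Fr.Z_one _).symm⟩
  inv_mem' := by
    rintro _ ⟨p, hp, rfl⟩
    exact ⟨p⁻¹, by rw [Frame.Adm.inv_w, hp, neg_zero], (Fr.Z_inv _ _).symm⟩

/-- `h(p, q) = n(p) n(q)⁻¹` -/
noncomputable def hZ (Fr : Frame H (Fin n)) (x : Fin n × Bool) (p q : Fr.Adm) : V ≃ₗ[F] V :=
  nZ Fr x p * (nZ Fr x q)⁻¹

theorem hZ_b (x : Fin n × Bool) {p q : Fr.Adm} (hp : p.c ≠ 0) (hq : q.c ≠ 0) :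
    hZ Fr x p q (Fr.b x) = (p.c * q.c⁻¹) • Fr.b x := by
  have h3 := Fr.η_ne x
  have h1 : nZ Fr x q ((Fr.η x * q.c)⁻¹ • Fr.b (neg x)) = Fr.b x := by
    rw [map_smul, nZ_apply_neg Fr x q hq, _root_.smul_smul, inv_mul_cancel₀ (mul_ne_zero h3 hq), _root_.one_smul]
  have h2 : (nZ Fr x q)⁻¹ (Fr.b x) = (Fr.η x * q.c)⁻¹ • Fr.b (neg x) := by
    have : (nZ Fr x q)⁻¹ (nZ Fr x q ((Fr.η x * q.c)⁻¹ • Fr.b (neg x))) = (Fr.η x * q.c)⁻¹ • Fr.b (neg x) := by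
      rw [← Cfsg.Agent.TitsThree.WittWeyl.mul_apply', inv_mul_cancel]; rfl
    rwa [h1] at this
  rw [hZ, Cfsg.Agent.TitsThree.WittWeyl.mul_apply', h2, map_smul, nZ_apply_neg Fr x p hp, _root_.smul_smul]
  congr 1
  field_simp

theorem isIso_hZ (x : Fin n × Bool) (p q : Fr.Adm) : H.IsIso (hZ Fr x p q) := by
  unfold hZ
  exact HForm.IsIso.mul H (isIso_nZ Fr _ _) (HForm.IsIso.inv H (isIso_nZ Fr _ _))

theorem Z_injective (x : Fin n × Bool) {p : Fr.Adm} (hw : p.w = 0) (h1 : Fr.Z x p = 1) : p.c = 0 := by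
  have h2 : Fr.Z x p (Fr.b (neg x)) = Fr.b (neg x) := by rw [h1]; rfl
  by_contra hc
  rw [Z_apply, hw, smul_zero, H.zero_right] at h2
  simp only [mul_zero, zero_smul, sub_zero, add_zero] at h2
  have h3 : (p.c * H.h (Fr.b (neg x)) (Fr.b x)) • Fr.b x = 0 := by
    have := h2
    rw [add_eq_left] at this
    exact this
  rw [Fr.hb_neg_self] at h3
  exact (smul_eq_zero.1 h3).elim (mul_ne_zero hc (Fr.η_ne x)) (b_ne_zero x)

/-- Two classes of root elements with trivial `V0`-part. -/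
theorem twoCls_ZZ [Finite F] {T : Subgroup (V ≃ₗ[F] V)} (x : Fin n × Bool)
    (hT : ∀ p q : Fr.Adm, p.c ≠ 0 → q.c ≠ 0 → hZ Fr x p q ∈ T) {p₀ : Fr.Adm} (hc : p₀.c ≠ 0)
    (hone : ∀ q : Fr.Adm, q.w = 0 → H.σ (q.c * p₀.c⁻¹) = q.c * p₀.c⁻¹) (hmul : ∀ t : F, H.σ t = t →
      ∃ q : Fr.Adm, q.w = 0 ∧ q.c = t * p₀.c) : TwoCls T (ZZ Fr x) := by
  let F₀ : Subfield F := RingHom.eqLocusField H.σ (RingHom.id F)
  have hF : ∀ t : F₀, H.σ t.1 = t.1 := fun t => t.2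
  choose q hq0 hqc using fun t : F₀ => hmul t.1 (hF t)
  have hext : ∀ a b : Fr.Adm, a.w = 0 → b.w = 0 → a.c = b.c → a = b := fun a b h1 h2 h3 =>
    Frame.Adm.ext (h1.trans h2.symm) h3
  refine twoCls_of_field (F := F₀) (fun t => Fr.Z x (q t)) ?_ ?_ (fun t => ⟨q t, hq0 t, rfl⟩) ?_ ?_
  · have h1 : q 0 = 1 := hext _ _ (hq0 _) rfl (by rw [hqc]; simp)
    show Fr.Z x (q 0) = 1
    rw [h1, Fr.Z_one]
  · intro t ht
    have h1 := Z_injective x (hq0 t) ht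
    rw [hqc] at h1
    exact Subtype.ext ((mul_eq_zero.1 h1).resolve_right hc)
  · rintro _ ⟨p, hp, rfl⟩
    refine ⟨⟨p.c * p₀.c⁻¹, hone p hp⟩, ?_⟩
    show Fr.Z x p = Fr.Z x (q ⟨p.c * p₀.c⁻¹, hone p hp⟩)
    congr 1
    refine hext _ _ hp (hq0 _) ?_
    rw [hqc]
    field_simp
  · intro c hc'
    have hc1 : c.1 ≠ 0 := fun h => hc' (Subtype.ext h)
    have hqc1 : (q c).c ≠ 0 := by rw [hqc]; exact mul_ne_zero hc1 hc
    refine ⟨hZ Fr x (q c) p₀, hT _ _ hqc1 hc, fun t => ?_⟩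
    have h1 : hZ Fr x (q c) p₀ (Fr.b x) = c.1 • Fr.b x := by
      rw [hZ_b x hqc1 hc, hqc, mul_assoc, mul_inv_cancel₀ hc, mul_one]
    show hZ Fr x (q c) p₀ * Fr.Z x (q t) * (hZ Fr x (q c) p₀)⁻¹ = Fr.Z x (q (c ^ 2 * t))
    rw [conj_Z Fr (isIso_hZ x _ _) h1 (q t) (q t) (by rw [hq0, map_zero]) rfl]
    congr 1
    refine hext _ _ ?_ (hq0 _) ?_
    · rw [Frame.Adm.smul_w, hq0, smul_zero]
    · rw [Frame.Adm.smul_c, hqc, hqc, H.σσ, hF]
      show c.1 * c.1 * (t.1 * p₀.c) = (c ^ 2 * t).1 * p₀.c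
      show c.1 * c.1 * (t.1 * p₀.c) = (c.1 ^ 2 * t.1) * p₀.c
      ring

end Witt

section PSU3

open Cfsg.Agent.LieClassical.HermBasic Cfsg.Agent.LieClassical.HermSiegel
open Cfsg.Agent.Nodes Cfsg.Agent.Nodes.WittAll Cfsg.Agent.Nodes.WittU Cfsg.Agent.Nodes.WittInst
  Cfsg.Agent.Nodes.WittRoot Cfsg.Agent.Nodes.WittRGD
  Cfsg.Agent.TitsThree.Siegel Cfsg.Agent.TitsThree.SiegelGen
  Cfsg.Agent.TitsThree.WittFrame Cfsg.Agent.TitsThree.WBridge Cfsg.Agent.TitsThree.WittWeyl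
  Cfsg.Agent.TitsThree.FrameCN Cfsg.Agent.TitsThree.KSideU Cfsg.Agent.TitsThree.KSideUDesc

theorem copRich_PSU3 {F : Type*} [Field F] [Fintype F] {q : ℕ} (hF : Fintype.card F = q ^ 2) {p : ℕ}
    [Fact p.Prime] [CharP F p] (hs : IsSimpleGroup (Cfsg.PSU 3 F q)) [Finite (Cfsg.PSU 3 F q)]
    (h2 : 2 ∣ Nat.card (Cfsg.PSU 3 F q)) : CopRich (Cfsg.PSU 3 F q) := by
  obtain ⟨W, hW⟩ := exists_wframe (N := 3) (m := 1) hF (Or.inr rfl)
  set Fr := toFrame W with hFr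
  obtain ⟨p0, hp0, hp0w⟩ : ∃ p : Fr.Adm, p.c ≠ 0 ∧ p.w = 0 := exists_adm hF W
  have hA0 : Amb Fr (IU F q 3) := amb_U hF W
  have hA : AmbT Fr p (IU F q 3) := AmbT.of_amb hA0 p
  let M : Model Fr (Cfsg.PSU 3 F q) := TitsThree.KInstU.model hF (le_refl 3) W
  have hMI : M.I = IU F q 3 := rfl
  have hWf : Finite (CoxeterMatrix.B 1).Group := TypeC.finite_W (CoxeterMatrix.B 1).toCoxeterSystem
  set cs := (CoxeterMatrix.B 1).toCoxeterSystem with hcs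
  have R := rgdC_model M (p := p) hA hp0 cs
  have R0 := RGDLib.rgd_restrict (rgdC hA hp0 cs) M.I (fun x _ => hA.rg_le x) (fun i => WittAll.nn_mem hA p0 i)
  have hgen : RGD.B cs (TypeC.isCartan 1) (WittModel.T M) (WittModel.X M) ⊔ NN cs R.nsys = ⊤ := by
    rw [eq_top_iff, ← WittModel.G1_eq_top M one_pos cs]
    exact Nodes.RGDLib.rgd_G1_le R
  have hnx : TypeC.nx (0 : Fin 1) = ((0 : Fin 1), true) := by
    unfold TypeC.nx; rw [dif_neg (by simp)]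
  have hrg : rg Fr (sr 0) = ZG Fr ((0 : Fin 1), true) := by
    rw [rg_sr, hnx, PG_self]
  -- the root elements with trivial `V0`-part
  have hZle : ZZ Fr ((0 : Fin 1), true) ≤ rg Fr (sr 0) := by
    rw [hrg]
    rintro _ ⟨p, -, rfl⟩
    exact ⟨p, rfl⟩
  have hok : ∀ c : F, c + c ^ q = 0 → (PU hF 3).ok 0 c := by
    intro c hc
    rw [ok_iff, hc, herm_zero_left, neg_zero]
  have hc0 : ∀ r : Fr.Adm, r.w = 0 → r.c ^ q = - r.c := by
    intro r hr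
    have h1 := (ok_iff (N := 3) hF).1 r.ok.2
    rw [hr, herm_zero_left, neg_zero] at h1
    exact eq_neg_of_add_eq_zero_right h1
  have hcl : TwoCls (Tor Fr M.I) (ZZ Fr ((0 : Fin 1), true)) := by
    refine twoCls_ZZ _ ?_ hp0 ?_ ?_
    · intro r r' hr hr'
      have hi : ¬ (((0 : Fin 1) : ℕ) + 1 < 1) := by simp
      exact WittAll.tor_of_mono (i := (0 : Fin 1)) (WittAll.nZ_mem hA _ _) (WittAll.nZ_mem hA _ _) (mono_nZ hi hr)
        (mono_nZ hi hr')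
    · intro r hr
      show (r.c * p0.c⁻¹) ^ q = r.c * p0.c⁻¹
      rw [mul_pow, inv_pow, hc0 r hr, hc0 p0 hp0w, inv_neg, neg_mul_neg]
    · intro t ht
      have ht' : t ^ q = t := ht
      refine ⟨⟨0, t * p0.c, W.V0.zero_mem, hok _ ?_⟩, rfl, rfl⟩
      rw [mul_pow, ht', hc0 p0 hp0w]
      ring
  have hcl' : TwoCls (WittModel.T M) (((ZZ Fr ((0 : Fin 1), true)).subgroupOf M.I).map M.φ) := by
    refine (hcl.subgroupOf M.I (fun g hg => hg.1) (hZle.trans (hA.rg_le _))).map _ fun u hu h1 => ?_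
    exact eq_one_of_central R0 (i := 0) (hZle hu) (WittAll.ker_le_center M h1)
  -- commutators
  have hcomm : ⁅WittModel.X M (sr 0), WittModel.X M (sr 0)⁆ ≤ ((ZZ Fr ((0 : Fin 1), true)).subgroupOf M.I).map M.φ := by
    rw [Subgroup.commutator_le]
    intro a ha b hb
    obtain ⟨g, hg, hg', rfl⟩ := (WittModel.mem_X M).1 ha
    obtain ⟨k, hk, hk', rfl⟩ := (WittModel.mem_X M).1 hb
    rw [← map_commutatorElement]
    refine Subgroup.mem_map_of_mem _ ?_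
    rw [Subgroup.mem_subgroupOf]
    show ⁅g, k⁆ ∈ ZZ Fr ((0 : Fin 1), true)
    rw [hrg] at hg' hk'
    obtain ⟨r, rfl⟩ := hg'
    obtain ⟨r', rfl⟩ := hk'
    refine ⟨⁅r, r'⁆, ?_, ?_⟩
    · rw [commutatorElement_def]
      simp only [Frame.Adm.mul_w, Frame.Adm.inv_w]
      abel
    · rw [commutatorElement_def, commutatorElement_def, Fr.Z_mul, Fr.Z_mul, Fr.Z_mul, Fr.Z_inv, Fr.Z_inv]
  have hne : ⁅WittModel.X M (sr 0), WittModel.X M (sr 0)⁆ ≠ ⊥ := by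
    intro hbot
    -- an element of `V0`
    set v : Fin 3 → F := Pi.single 2 1 with hv
    have hV0 : v ∈ W.V0 := by
      apply mem_V0_of_orth W
      · intro i
        show hermForm 3 F q v (W.e i) = 0
        have h1 := (hW i 2 (by simp) (by simp)).1
        rw [hv, herm_single_left, h1, zero_pow_q hF, mul_zero]
      · intro i
        show hermForm 3 F q v (W.f i) = 0
        have h1 := (hW i 2 (by simp) (by simp)).2
        rw [hv, herm_single_left, h1, zero_pow_q hF, mul_zero]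
    have hvv : hermForm 3 F q v v = 1 := by
      rw [hv, herm_single_left, Pi.single_eq_same, one_pow, mul_one]
    obtain ⟨c, hc⟩ := (PU hF 3).ex v
    let r : Fr.Adm := ⟨v, c, hV0, hc⟩
    obtain ⟨l, hl⟩ := exists_not_fixed hF
    let r' : Fr.Adm := Frame.Adm.smul l r
    have hmem : ∀ s : Fr.Adm, ∃ hs : Fr.Z ((0 : Fin 1), true) s ∈ M.I, M.φ ⟨_, hs⟩ ∈ WittModel.X M (sr 0) := by
      intro s
      have h1 : Fr.Z ((0 : Fin 1), true) s ∈ M.I := hA.Z_mem _ _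
      exact ⟨h1, WittModel.mem_X_of M h1 (by rw [hrg]; exact ⟨s, rfl⟩)⟩
    obtain ⟨h1, h1'⟩ := hmem r
    obtain ⟨h3, h3'⟩ := hmem r'
    have h4 : ⁅M.φ ⟨_, h1⟩, M.φ ⟨_, h3⟩⁆ ∈ ⁅WittModel.X M (sr 0), WittModel.X M (sr 0)⁆ :=
      Subgroup.commutator_mem_commutator h1' h3'
    rw [hbot, Subgroup.mem_bot, ← map_commutatorElement] at h4
    have h5 : (⁅(⟨_, h1⟩ : M.I), ⟨_, h3⟩⁆ : M.I) = 1 := by
      refine eq_one_of_central R0 (i := 0) ?_ (WittAll.ker_le_center M h4)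
      rw [Subgroup.mem_subgroupOf]
      show ⁅Fr.Z ((0 : Fin 1), true) r, Fr.Z ((0 : Fin 1), true) r'⁆ ∈ rg Fr (sr 0)
      rw [hrg]
      refine ⟨⁅r, r'⁆, ?_⟩
      rw [commutatorElement_def, commutatorElement_def, Fr.Z_mul, Fr.Z_mul, Fr.Z_mul, Fr.Z_inv, Fr.Z_inv]
    have h6 : ⁅Fr.Z ((0 : Fin 1), true) r, Fr.Z ((0 : Fin 1), true) r'⁆ = 1 := congrArg Subtype.val h5
    have h7 : Fr.Z ((0 : Fin 1), true) ⁅r, r'⁆ = 1 := by
      rw [← h6, commutatorElement_def, commutatorElement_def, Fr.Z_mul, Fr.Z_mul, Fr.Z_mul, Fr.Z_inv, Fr.Z_inv]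
    have hw0 : (⁅r, r'⁆ : Fr.Adm).w = 0 := by
      rw [commutatorElement_def]
      simp only [Frame.Adm.mul_w, Frame.Adm.inv_w]
      abel
    have h8 := Z_injective _ hw0 h7
    have h9 : ⁅r, r'⁆ = 1 := Frame.Adm.ext hw0 h8
    rw [commutatorElement_eq_one_iff_mul_comm] at h9
    have h10 := congrArg Frame.Adm.c h9
    rw [Frame.Adm.mul_c, Frame.Adm.mul_c] at h10
    have e1 : (HU hF 3).h r'.w r.w = l := by
      show hermForm 3 F q (l • v) v = l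
      rw [herm_smul_left, hvv, mul_one]
    have e2 : (HU hF 3).h r.w r'.w = l ^ q := by
      show hermForm 3 F q v (l • v) = l ^ q
      rw [herm_smul_right, hvv, mul_one]
    rw [e1, e2, HU_ε] at h10
    apply hl
    linear_combination h10
  exact copRich_of_rgd_one (Fact.out : p.Prime) R hgen h2 0
    (hcomm.trans (Subgroup.map_mono (Subgroup.comap_mono hZle)))
    (fun A hA => hA.commutator) (hcl'.mono hcomm hne)

end PSU3

end Cfsg.Agent.H566
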