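import Mathlib
import Cfsg.Agent.H566.RankOneU
import Cfsg.Agent.FixBN.ReeSplit
import Cfsg.Agent.LieRecognition.SzMatrix
import Cfsg.Agent.S1162

/-!
# `Sz(q)` and `²G₂(q)` have rich coprime fixed points (helper566)
-/

set_option autoImplicit false
set_option linter.unusedSectionVars false

namespace Cfsg.Agent.H566

open Subgroup Cfsg.Agent.Schreier.Tools Cfsg.Agent.Schreier.BNSch Cfsg.Agent.FixBN Cfsg.Agent.FixBN.ReeSplit
open scoped commutatorElement

/-- **Split (B, N)-pairs of rank one.** -/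
theorem copRich_of_split_one {K : Type*} [Group K] [Finite K] (P : Cfsg.BNPair K) {p : ℕ} (hp : p.Prime)
    {U : Subgroup K} (hS : Split P p U) (h2 : 2 ∣ Nat.card K) {s : K} (hs : s ∈ P.S) (hr : Nat.card P.S ≤ 2)
    (hone : ∀ u ∈ U, s⁻¹ * u * s ∈ P.B → u = 1) {Z : Subgroup K} (hZU : Z ≤ U)
    (hZ : ∀ A : Subgroup (MulAut K), Stab A U → Stab A Z) (hTZ : TwoCls P.B Z) : CopRich K := by
  have : Fact p.Prime := ⟨hp⟩
  obtain ⟨m, hm, hH⟩ := hS.tor
  obtain ⟨V, hN⟩ := hS.node s hs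
  have hV : V = ⊥ := by
    rw [eq_bot_iff]
    intro v hv
    exact Subgroup.mem_bot.2 (hone v (hN.le hv) (hS.le (hN.le (hN.conj_s v hv))))
  subst hV
  refine copRich_of_bn' P (p := p) U hS.isP h2 hS.le hS.norm hS.cover m hm hH hS.node hs hN
    (fun C hC hB => stab_of_card_le_two P hr hC hB hs) hZU hZ ?_
  obtain ⟨u₀, h0, h0', u₁, h1, h1', h3⟩ := hTZ.out
  refine ⟨u₀, h0, fun e => h0' (Subgroup.mem_bot.1 e), u₁, h1, fun e => h1' (Subgroup.mem_bot.1 e), ?_⟩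
  intro u hu huV
  have hu1 : u ≠ 1 := fun e => huV (Subgroup.mem_bot.2 e)
  have key : ∀ w, (∃ b ∈ P.B, b * w * b⁻¹ = u) → Orb P.B ⊥ w u := by
    rintro w ⟨b, hb, hw⟩
    refine ⟨b, hb, ?_⟩
    rw [hw, inv_mul_cancel]
    exact one_mem _
  exact (h3 u hu hu1).imp (key u₀) (key u₁)

/-! ### The Suzuki groups -/

section Sz

open Cfsg.Agent.LieRecognition.SzMatrix

variable {F : Type*} [Field F] {θ : F →+* F} {e : ℕ}

/-- The monomial subgroup. -/
def szN (H : Good F θ e) : Subgroup ↥(Cfsg.Lie.Sz F e) where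
  carrier := {g | (∃ a, g = H.d a) ∨ ∃ a, g = H.d a * H.w}
  mul_mem' := by
    rintro _ _ (⟨a, rfl⟩ | ⟨a, rfl⟩) (⟨b, rfl⟩ | ⟨b, rfl⟩)
    · exact Or.inl ⟨a * b, H.d_mul a b⟩
    · exact Or.inr ⟨a * b, by rw [← H.d_mul, mul_assoc]⟩
    · exact Or.inr ⟨a * b⁻¹, by rw [← H.d_mul, mul_assoc, H.w_mul_d, mul_assoc]⟩
    · refine Or.inl ⟨a * b⁻¹, ?_⟩
      rw [← H.d_mul]
      calc H.d a * H.w * (H.d b * H.w) = H.d a * (H.w * H.d b) * H.w := by group
        _ = H.d a * H.d b⁻¹ * (H.w * H.w) := by rw [H.w_mul_d]; group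
        _ = _ := by rw [H.w_mul_w, mul_one]
  one_mem' := Or.inl ⟨1, H.d_one.symm⟩
  inv_mem' := by
    rintro _ (⟨a, rfl⟩ | ⟨a, rfl⟩)
    · exact Or.inl ⟨a⁻¹, H.d_inv a⟩
    · refine Or.inr ⟨a, ?_⟩
      rw [_root_.mul_inv_rev, H.w_inv, H.d_inv, H.w_mul_d, inv_inv]

theorem sz_mem_inf (H : Good F θ e) {g : ↥(Cfsg.Lie.Sz F e)} (hB : g ∈ H.borel) (hN : g ∈ szN H) :
    ∃ a, g = H.d a := by
  rcases hN with h1 | ⟨a, rfl⟩
  · exact h1
  · exfalso
    apply H.w_not_mem_borel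
    have h1 := mul_mem (inv_mem (H.d_mem_borel a)) hB
    rwa [inv_mul_cancel_left] at h1

theorem sz_bruhat (H : Good F θ e) (g : ↥(Cfsg.Lie.Sz F e)) :
    g ∈ H.borel ∨ ∃ b ∈ H.borel, ∃ b' ∈ H.borel, g = b * H.w * b' := by
  by_cases hg : g ∈ H.borel
  · exact Or.inl hg
  · obtain ⟨s, hs, h⟩ := H.bruhat_sz g hg
    exact Or.inr ⟨s, H.unip_le_borel hs, _, h, by group⟩

theorem sz_u_one_ne (H : Good F θ e) : H.u 1 0 ≠ 1 := by
  rw [← H.u_zero]
  exact fun h => one_ne_zero (H.u_inj h).1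

/-- The (B,N)-pair. -/
def szBN (H : Good F θ e) : Cfsg.BNPair ↥(Cfsg.Lie.Sz F e) :=
  rankOne H.borel (szN H) H.w (Or.inr ⟨1, by rw [H.d_one, one_mul]⟩)
    (by rw [H.w_mul_w]; exact one_mem _) (sz_bruhat H)
    (by
      rintro g (⟨a, rfl⟩ | ⟨a, rfl⟩)
      · exact Or.inl (H.d_mem_borel a)
      · exact Or.inr ⟨H.d a, ⟨H.d_mem_borel a, Or.inl ⟨a, rfl⟩⟩, rfl⟩)
    (by
      rintro t ⟨ht1, ht2⟩
      obtain ⟨a, rfl⟩ := sz_mem_inf H ht1 ht2
      rw [H.w_mul_d, mul_inv_cancel_right]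
      exact H.d_mem_borel _)
    (by
      refine ⟨H.u 1 0, H.u_mem_borel 1 0, fun hn => ?_⟩
      rw [← H.w_inv] at hn
      have h2 : (H.w)⁻¹ * H.u 1 0 * H.w ∈ H.borel := by
        have : (H.w)⁻¹ * H.u 1 0 * (H.w)⁻¹ = (H.w)⁻¹ * H.u 1 0 * H.w := by rw [H.w_inv]
        rwa [this] at hn
      exact sz_u_one_ne H (H.inter_trivial _ (H.u_mem_unip 1 0) h2))

theorem sz_split [Fintype F] {m : ℕ} (hF : Fintype.card F = 2 ^ (2 * m + 1)) (H : Good F θ e)
    (hs : IsSimpleGroup ↥(Cfsg.Lie.Sz F e)) : Split (szBN H) 2 H.unip := by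
  have : Fact (Nat.Prime 2) := ⟨Nat.prime_two⟩
  refine ⟨H.unip_le_borel, H.borel_normalizes, ?_, ?_, ⟨Fintype.card F - 1, ?_, ?_⟩, ?_, ?_⟩
  · apply IsPGroup.of_card (n := (2 * m + 1) * 2)
    rw [H.card_unip, Nat.card_eq_fintype_card, hF, ← pow_mul]
  · intro b hb
    obtain ⟨a, c, k, rfl⟩ := (H.mem_borel_iff' b).1 hb
    refine ⟨H.u a c, H.u_mem_unip a c, ?_⟩
    rw [inv_mul_cancel_left]
    exact Or.inl ⟨k, rfl⟩
  · rw [hF]
    have h1 : 2 ∣ 2 ^ (2 * m + 1) := dvd_pow_self 2 (by omega)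
    have h2 : 0 < 2 ^ (2 * m + 1) := by positivity
    omega
  · intro g hB hN
    obtain ⟨a, rfl⟩ := sz_mem_inf H hB hN
    have h1 : ∀ k : ℕ, H.d a ^ k = H.d (a ^ k) := by
      intro k
      induction k with
      | zero => rw [pow_zero, pow_zero, H.d_one]
      | succ k ih => rw [pow_succ, ih, pow_succ, H.d_mul]
    rw [h1]
    have h2 : a ^ (Fintype.card F - 1) = 1 := by
      have h3 : Nat.card Fˣ = Fintype.card F - 1 := by rw [Nat.card_units, Nat.card_eq_fintype_card]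
      rw [← h3]
      exact pow_card_eq_one'
    rw [h2, H.d_one]
  · intro s hs'
    have hs'' : s = H.w := hs'
    subst hs''
    refine ⟨⊥, bot_le, ⟨H.u 1 0, H.u_mem_unip 1 0, fun h1 => sz_u_one_ne H (Subgroup.mem_bot.1 h1)⟩, ?_, ?_, ?_⟩
    · intro b _ v hv
      rw [Subgroup.mem_bot] at hv ⊢
      rw [hv]; group
    · intro v hv
      rw [Subgroup.mem_bot] at hv ⊢
      rw [hv]; group
    · intro u hu hB
      rw [Subgroup.mem_bot]
      exact H.inter_trivial u hu hB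
  · rcases hs.eq_bot_or_eq_top_of_normal (szBN H).B.normalCore inferInstance with h | h
    · exact h
    · exfalso
      have h1 : (szBN H).B = ⊤ := by
        rw [eq_top_iff, ← h]
        exact Subgroup.normalCore_le _
      apply H.w_not_mem_borel
      have h2 : H.w ∈ (szBN H).B := by rw [h1]; trivial
      exact h2

/-- the elements `u(0, b)` -/
def szZ (H : Good F θ e) : Subgroup ↥(Cfsg.Lie.Sz F e) where
  carrier := {g | ∃ b, g = H.u 0 b}
  mul_mem' := by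
    rintro _ _ ⟨a, rfl⟩ ⟨b, rfl⟩
    exact ⟨a + b, by rw [H.u_mul, zero_mul, add_zero, add_zero]⟩
  one_mem' := ⟨0, H.u_zero.symm⟩
  inv_mem' := by
    rintro _ ⟨b, rfl⟩
    exact ⟨b, by rw [H.u_inv, zero_mul, add_zero]⟩

theorem sz_comm (H : Good F θ e) (a b c d : F) : ⁅H.u a b, H.u c d⁆ = H.u 0 (a * θ c + c * θ a) := by
  rw [commutatorElement_def, mul_inv_eq_iff_eq_mul, mul_inv_eq_iff_eq_mul, H.u_mul, H.u_mul, H.u_mul]
  congr 1
  · ring
  · rw [zero_mul]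
    linear_combination (-(c * θ a)) * H.two

theorem sz_twoCls [Finite F] (H : Good F θ e) : TwoCls (szBN H).B (szZ H) := by
  have h1 : H.u 0 1 ≠ 1 := by
    rw [← H.u_zero]
    exact fun h => one_ne_zero (H.u_inj h).2
  refine ⟨H.u 0 1, ⟨1, rfl⟩, h1, H.u 0 1, ⟨1, rfl⟩, h1, ?_⟩
  rintro _ ⟨b, rfl⟩ hb
  left
  have hb0 : b ≠ 0 := by
    rintro rfl
    exact hb H.u_zero
  have hθ : Function.Surjective θ := Finite.injective_iff_surjective.1 θ.injective
  obtain ⟨k, hk⟩ := hθ b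
  have hk0 : k ≠ 0 := by
    rintro rfl
    rw [map_zero] at hk
    exact hb0 hk.symm
  refine ⟨H.d (Units.mk0 k hk0), H.d_mem_borel _, ?_⟩
  rw [H.d_mul_u, mul_inv_cancel_right, zero_mul, zero_mul, one_mul]
  show H.u 0 (θ k) = H.u 0 b
  rw [hk]

theorem copRich_Sz [Fintype F] {m : ℕ} (hm : 1 ≤ m) (hF : Fintype.card F = 2 ^ (2 * m + 1)) (H : Good F θ e)
    (hs : IsSimpleGroup ↥(Cfsg.Lie.Sz F e)) [Finite ↥(Cfsg.Lie.Sz F e)] (h2 : 2 ∣ Nat.card ↥(Cfsg.Lie.Sz F e)) :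
    CopRich ↥(Cfsg.Lie.Sz F e) := by
  refine copRich_of_split_one (szBN H) Nat.prime_two (sz_split hF H hs) h2 (s := H.w) rfl ?_ ?_
    (Z := ⁅H.unip, H.unip⁆) ?_ (fun A hA => hA.commutator) ((sz_twoCls H).mono ?_ ?_)
  · show Nat.card ({H.w} : Set _) ≤ 2
    rw [Nat.card_eq_fintype_card]
    simp
  · intro u hu hB
    exact H.inter_trivial u hu hB
  · exact Subgroup.commutator_le_self _
  · rw [Subgroup.commutator_le]
    intro x hx y hy
    obtain ⟨a, b, rfl⟩ := (H.mem_unip_iff x).1 hx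
    obtain ⟨c, d, rfl⟩ := (H.mem_unip_iff y).1 hy
    exact ⟨_, sz_comm H a b c d⟩
  · intro hbot
    -- `θ` is not the identity
    have hθ : ∀ c, θ c = c := by
      intro c
      have h1 := Subgroup.commutator_mem_commutator (H.u_mem_unip 1 0) (H.u_mem_unip c 0)
      rw [hbot, Subgroup.mem_bot, sz_comm, ← H.u_zero] at h1
      have h3 := (H.u_inj h1).2
      rw [map_one, one_mul, mul_one] at h3
      linear_combination h3 - c * H.two
    have h1 : ∀ c : F, c = 0 ∨ c = 1 := by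
      intro c
      have h3 := H.sq c
      rw [hθ, hθ] at h3
      have h4 : c * (c - 1) = 0 := by linear_combination -h3
      rcases mul_eq_zero.1 h4 with h5 | h5
      · exact Or.inl h5
      · exact Or.inr (sub_eq_zero.1 h5)
    classical
    have h3 : Fintype.card F ≤ 2 := by
      rw [← Finset.card_univ]
      have : (Finset.univ : Finset F) ⊆ {0, 1} := by
        intro c _
        rcases h1 c with rfl | rfl <;> simp
      exact (Finset.card_le_card this).trans Finset.card_le_two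
    rw [hF] at h3
    have h4 : 2 ^ 3 ≤ 2 ^ (2 * m + 1) := Nat.pow_le_pow_right (by norm_num) (by omega)
    omega

end Sz

/-! ### The Ree groups `²G₂(q)` -/

section Ree

open Cfsg.Agent.LieRecognition.ReeAbs Cfsg.Agent.LieRecognition.ReeSylowThree

variable {K : Type*} [Field K] {G : Type*} [Group G] {m : ℕ} {U : K → K → K → G} {h : Kˣ → G} {n : G}

theorem ree_pow [Fintype K] (hK : Fintype.card K = 3 ^ (2 * m + 1)) (a : Kˣ) (ha : a ^ (2 * 3 ^ (m + 1) + 3) = 1) :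
    a = 1 := by
  have hc : Nat.card Kˣ = 3 ^ (2 * m + 1) - 1 := by rw [Nat.card_units, Nat.card_eq_fintype_card, hK]
  have h1 : a ^ (3 ^ (2 * m + 1)) = a := by
    have h2 : a ^ (3 ^ (2 * m + 1) - 1) = 1 := by
      rw [← hc]; exact pow_card_eq_one'
    have h3 : 3 ^ (2 * m + 1) = (3 ^ (2 * m + 1) - 1) + 1 := by
      have : 0 < 3 ^ (2 * m + 1) := by positivity
      omega
    rw [h3, pow_succ, h2, one_mul]
  -- `a ^ 3 = b`
  have hcop : (orderOf a).Coprime 3 := by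
    have h4 : orderOf a ∣ 3 ^ (2 * m + 1) - 1 := by
      rw [← hc]; exact orderOf_dvd_natCard a
    rw [Nat.coprime_comm, Nat.Prime.coprime_iff_not_dvd Nat.prime_three]
    intro h5
    have h6 := h5.trans h4
    have h7 : 3 ∣ 3 ^ (2 * m + 1) := dvd_pow_self 3 (by omega)
    have h8 : 1 ≤ 3 ^ (2 * m + 1) := Nat.one_le_pow _ _ (by norm_num)
    have h9 := Nat.dvd_sub h7 h6
    rw [Nat.sub_sub_self h8] at h9
    omega
  have h2 : a ^ (2 * 3 ^ m + 1) = 1 := by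
    rw [← orderOf_dvd_iff_pow_eq_one] at ha ⊢
    have e : 2 * 3 ^ (m + 1) + 3 = (2 * 3 ^ m + 1) * 3 := by ring
    rw [e] at ha
    exact hcop.dvd_of_dvd_mul_right ha
  set t : ℕ := 3 ^ m with ht
  have h3 : a ^ (2 * t) = a⁻¹ := by
    rw [pow_succ] at h2
    exact eq_inv_of_mul_eq_one_left h2
  have h4 : a ^ (4 * t ^ 2) = a := by
    have e : 4 * t ^ 2 = (2 * t) * (2 * t) := by ring
    rw [e, pow_mul, h3, inv_pow, h3, inv_inv]
  have h5 : a ^ (3 * t ^ 2) = a := by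
    have e : 3 * t ^ 2 = 3 ^ (2 * m + 1) := by rw [ht]; ring
    rw [e, h1]
  have h6 : a ^ (12 * t ^ 2) = a ^ 4 := by
    have e : 12 * t ^ 2 = (3 * t ^ 2) * 4 := by ring
    rw [e, pow_mul, h5]
  have h7 : a ^ (12 * t ^ 2) = a ^ 3 := by
    have e : 12 * t ^ 2 = (4 * t ^ 2) * 3 := by ring
    rw [e, pow_mul, h4]
  rw [h6, pow_succ] at h7
  exact mul_eq_left.1 h7

/-- the elements `U 0 0 v` -/
def reeZ (D : Data m U h n) : Subgroup G where
  carrier := {g | ∃ v, g = U 0 0 v}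
  mul_mem' := by
    rintro _ _ ⟨a, rfl⟩ ⟨b, rfl⟩
    exact ⟨a + b, by rw [D.U_mul]; simp⟩
  one_mem' := ⟨0, D.U_zero.symm⟩
  inv_mem' := by
    rintro _ ⟨b, rfl⟩
    refine ⟨-b, ?_⟩
    rw [inv_eq_iff_mul_eq_one, D.U_mul, ← D.U_zero]
    simp

theorem ree_twoCls [Fintype K] (hK : Fintype.card K = 3 ^ (2 * m + 1)) (D : Data m U h n) :
    TwoCls (ReeSplit.bnPair D).B (reeZ D) := by
  have h1 : U 0 0 1 ≠ 1 := by
    rw [← D.U_zero]
    exact fun h => one_ne_zero (U_injective D h).2.2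
  refine ⟨U 0 0 1, ⟨1, rfl⟩, h1, U 0 0 1, ⟨1, rfl⟩, h1, ?_⟩
  rintro _ ⟨b, rfl⟩ hb
  left
  have hb0 : b ≠ 0 := by
    rintro rfl
    exact hb D.U_zero
  have hinj : Function.Injective fun a : Kˣ => a ^ (2 * 3 ^ (m + 1) + 3) := by
    intro a c hac
    have h2 : (a * c⁻¹) ^ (2 * 3 ^ (m + 1) + 3) = 1 := by
      have h3 : a ^ (2 * 3 ^ (m + 1) + 3) = c ^ (2 * 3 ^ (m + 1) + 3) := hac
      rw [mul_pow, inv_pow, h3, mul_inv_cancel]
    exact mul_inv_eq_one.1 (ree_pow hK _ h2)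
  obtain ⟨a, ha⟩ := Finite.injective_iff_surjective.1 hinj (Units.mk0 b hb0)
  refine ⟨h a, ReeSplit.h_mem_bSub D a, ?_⟩
  rw [D.h_U, mul_inv_cancel_right, mul_zero, mul_zero, mul_one]
  have h2 : (a : K) ^ (2 * 3 ^ (m + 1) + 3) = b := by
    have := congrArg Units.val ha
    rwa [Units.val_pow_eq_pow_val, Units.val_mk0] at this
  rw [h2]

theorem ree_comm_one (D : Data m U h n) (t u v t' u' v' : K) : ∃ w, ⁅U t u v, U t' u' v'⁆ =
    U 0 (t' * t ^ (3 ^ (m + 1)) - t * t' ^ (3 ^ (m + 1))) w := by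
  set T := t ^ (3 ^ (m + 1)) with hT
  set T' := t' ^ (3 ^ (m + 1)) with hT'
  refine ⟨-(u * t') - t ^ 2 * T' + t * t' * T' + (t' * T - t * T') * t' + ((t' * T - t * T') + u') * t + t' ^ 2 * T -
    t' * t * T, ?_⟩
  rw [commutatorElement_def, mul_inv_eq_iff_eq_mul, mul_inv_eq_iff_eq_mul, D.U_mul, D.U_mul, D.U_mul, ← hT, ← hT']
  congr 1
  · ring
  · ring
  · ring

theorem ree_comm_two (D : Data m U h n) (u v t' u' v' : K) : ⁅U 0 u v, U t' u' v'⁆ = U 0 0 (-(u * t')) := by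
  rw [commutatorElement_def, mul_inv_eq_iff_eq_mul, mul_inv_eq_iff_eq_mul, D.U_mul, D.U_mul, D.U_mul]
  congr 1
  · ring
  · have h3 : (0 : K) ^ (3 ^ (m + 1)) = 0 := zero_pow (by positivity)
    simp only [zero_mul, mul_zero, h3]
    ring
  · have h3 : (0 : K) ^ (3 ^ (m + 1)) = 0 := zero_pow (by positivity)
    simp only [zero_mul, mul_zero, h3]
    ring

theorem copRich_Ree [Fintype K] [Finite G] (hm : 1 ≤ m) (hK : Fintype.card K = 3 ^ (2 * m + 1)) (D : Data m U h n)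
    (h2 : 2 ∣ Nat.card G) : CopRich G := by
  have hne : ∀ u ∈ uSub D, n⁻¹ * u * n ∈ (ReeSplit.bnPair D).B → u = 1 := by
    intro u hu hb
    rw [D.n_inv] at hb
    exact ReeSplit.eq_one_of_conj D hu hb
  have hc1 : ⁅⁅uSub D, uSub D⁆, uSub D⁆ ≤ reeZ D := by
    have h1 : ⁅uSub D, uSub D⁆ ≤ (show Subgroup G from
        { carrier := {g | ∃ u v, g = U 0 u v}
          mul_mem' := by
            rintro _ _ ⟨a, b, rfl⟩ ⟨c, d, rfl⟩
            exact ⟨_, _, by rw [D.U_mul, add_zero]⟩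
          one_mem' := ⟨0, 0, D.U_zero.symm⟩
          inv_mem' := by
            rintro _ ⟨a, b, rfl⟩
            refine ⟨-a, -b, ?_⟩
            rw [inv_eq_iff_mul_eq_one, D.U_mul, ← D.U_zero]
            simp }) := by
      rw [Subgroup.commutator_le]
      rintro _ ⟨t, u, v, rfl⟩ _ ⟨t', u', v', rfl⟩
      obtain ⟨w, hw⟩ := ree_comm_one D t u v t' u' v'
      exact ⟨_, w, hw⟩
    rw [Subgroup.commutator_le]
    rintro x hx _ ⟨t', u', v', rfl⟩
    obtain ⟨u, v, rfl⟩ := h1 hx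
    exact ⟨_, ree_comm_two D u v t' u' v'⟩
  refine copRich_of_split_one (ReeSplit.bnPair D) Nat.prime_three (ReeSplit.split hK D) h2 (s := n) rfl ?_ hne
    (Z := ⁅⁅uSub D, uSub D⁆, uSub D⁆) ?_ (fun A hA => ?_) ((ree_twoCls hK D).mono hc1 ?_)
  · show Nat.card ({n} : Set _) ≤ 2
    rw [Nat.card_eq_fintype_card]
    simp
  · exact (Subgroup.commutator_mono (Subgroup.commutator_le_self _) le_rfl).trans (Subgroup.commutator_le_self _)
  · intro α hα x hx
    have h0 := hA.commutator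
    have h1 : ⁅⁅uSub D, uSub D⁆, uSub D⁆.map α.toMonoidHom ≤ ⁅⁅uSub D, uSub D⁆, uSub D⁆ := by
      rw [Subgroup.map_commutator]
      refine Subgroup.commutator_mono ?_ ?_
      · rintro _ ⟨u, hu, rfl⟩
        exact h0 α hα u hu
      · rintro _ ⟨u, hu, rfl⟩
        exact hA α hα u hu
    exact h1 ⟨x, hx, rfl⟩
  · intro hbot
    have hθ : ∀ c : K, c ^ (3 ^ (m + 1)) = c := by
      intro c
      obtain ⟨w, hw⟩ := ree_comm_one D 1 0 0 c 0 0
      have h1 := Subgroup.commutator_mem_commutator (show U 1 0 0 ∈ uSub D from ⟨1, 0, 0, rfl⟩)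
        (show U c 0 0 ∈ uSub D from ⟨c, 0, 0, rfl⟩)
      rw [hw] at h1
      have h3 := Subgroup.commutator_mem_commutator h1 (show U 1 0 0 ∈ uSub D from ⟨1, 0, 0, rfl⟩)
      rw [hbot, Subgroup.mem_bot, ree_comm_two D, ← D.U_zero] at h3
      have h4 := (U_injective D h3).2.2
      rw [one_pow] at h4
      linear_combination h4
    -- `x ^ (3 ^ (m + 1)) = x` has at most `3 ^ (m + 1)` solutions
    have hcard : Fintype.card K ≤ 3 ^ (m + 1) := by
      classical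
      have h1 : (Finset.univ : Finset K) ⊆ (Polynomial.X ^ (3 ^ (m + 1)) - Polynomial.X : Polynomial K).roots.toFinset := by
        intro c _
        rw [Multiset.mem_toFinset, Polynomial.mem_roots (FiniteField.X_pow_card_sub_X_ne_zero K (Nat.one_lt_pow (by omega) (by norm_num)))]
        simp [hθ c]
      rw [← Finset.card_univ]
      refine (Finset.card_le_card h1).trans ((Multiset.toFinset_card_le _).trans ?_)
      refine (Polynomial.card_roots' _).trans ?_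
      rw [FiniteField.X_pow_card_sub_X_natDegree_eq K (Nat.one_lt_pow (by omega) (by norm_num))]
    rw [hK] at hcard
    have h5 := (Nat.pow_le_pow_iff_right (by norm_num : 1 < 3)).1 hcard
    omega

end Ree

end Cfsg.Agent.H566
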