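import Mathlib

/-!
# Counting fixed points of an element of prime order acting by conjugation (helper566)

* `card_modEq` : an element `x` with `x ^ l = 1` (`l` prime) normalising the finite set `S` : `|S| ≡ |C_S(x)| mod l`;
* `pgroup_card` : if moreover `S = Q` is a `p`-subgroup and `x` commutes with no element of order `p`, then `|Q| ≡ 1 mod l`;
* `exists_socle` : a nontrivial `p`-subgroup normalised by `x` contains a nontrivial elementary abelian one, normalised by
  the same elements.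
-/

set_option autoImplicit false

namespace Cfsg.Agent.H566.RowMod

open Subgroup

variable {K : Type*} [Group K]

theorem card_modEq {x : K} {l : ℕ} [hl : Fact l.Prime] (hx : x ^ l = 1) (S : Set K) [Finite S]
    (hS : ∀ s ∈ S, x * s * x⁻¹ ∈ S) : Nat.card S ≡ Nat.card {s : S // x * s = s * x} [MOD l] := by
  classical
  have := Fintype.ofFinite S
  let f : Function.End S := fun s => ⟨x * s * x⁻¹, hS s s.2⟩
  have hpow : ∀ (n : ℕ) (s : S), (((f ^ n : Function.End S) s : S) : K) = x ^ n * s * (x ^ n)⁻¹ := by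
    intro n
    induction n with
    | zero =>
      intro s
      rw [pow_zero, pow_zero]
      show (s : K) = _
      simp
    | succ n ih =>
      intro s
      rw [pow_succ' f n]
      show x * (((f ^ n : Function.End S) s : S) : K) * x⁻¹ = _
      rw [ih]
      group
  have hf : f ^ l ^ 1 = 1 := by
    rw [pow_one]
    funext s
    apply Subtype.ext
    rw [hpow, hx]
    show _ = (s : K)
    simp
  have h1 := Equiv.Perm.card_fixedPoints_modEq hf
  rw [← Nat.card_eq_fintype_card, ← Nat.card_eq_fintype_card] at h1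
  have h2 : Nat.card ↑(Function.fixedPoints f) = Nat.card {s : S // x * s = s * x} := by
    refine Nat.card_congr (Equiv.subtypeEquivRight fun s => ?_)
    show f s = s ↔ _
    rw [Subtype.ext_iff]
    show x * (s : K) * x⁻¹ = s ↔ _
    rw [mul_inv_eq_iff_eq_mul]
  rw [h2] at h1
  exact h1

theorem exists_commute {x : K} {l : ℕ} [hl : Fact l.Prime] (hx : x ^ l = 1) (S : Set K) [Finite S]
    (hS : ∀ s ∈ S, x * s * x⁻¹ ∈ S) (hc : ¬ l ∣ Nat.card S) : ∃ s ∈ S, x * s = s * x := by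
  by_contra hcon
  push Not at hcon
  apply hc
  have h1 := card_modEq hx S hS
  have h2 : Nat.card {s : S // x * s = s * x} = 0 := by
    have : IsEmpty {s : S // x * s = s * x} := ⟨fun s => hcon _ s.1.2 s.2⟩
    exact Nat.card_of_isEmpty
  rw [h2] at h1
  exact (Nat.modEq_zero_iff_dvd).1 h1

/-- an element `≠ 1` of a `p`-group has a power of order `p` -/
theorem exists_pow_orderOf {p : ℕ} [hp : Fact p.Prime] {y : K} {k : ℕ} (hy : y ^ p ^ k = 1) (hy1 : y ≠ 1) :
    ∃ n : ℕ, orderOf (y ^ n) = p := by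
  obtain ⟨i, -, hi⟩ := (Nat.dvd_prime_pow hp.1).1 (orderOf_dvd_of_pow_eq_one hy)
  have hi0 : i ≠ 0 := by
    rintro rfl
    rw [pow_zero, orderOf_eq_one_iff] at hi
    exact hy1 hi
  obtain ⟨j, rfl⟩ := Nat.exists_eq_succ_of_ne_zero hi0
  refine ⟨p ^ j, ?_⟩
  rw [orderOf_pow_of_dvd (pow_ne_zero _ hp.1.ne_zero), hi, pow_succ, Nat.mul_div_cancel_left _ (pow_pos hp.1.pos _)]
  rw [hi, pow_succ]
  exact Dvd.intro _ rfl

/-- A `p`-subgroup normalised by an element of prime order `l` commuting with no element of order `p`. -/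
theorem pgroup_card [Finite K] {x : K} {l p : ℕ} [hl : Fact l.Prime] [hp : Fact p.Prime] (hx : x ^ l = 1)
    {Q : Subgroup K} (hcen : ∀ y ∈ Q, orderOf y = p → x * y ≠ y * x) (hQ : IsPGroup p Q)
    (hn : x ∈ normalizer (Q : Set K)) : Nat.card Q ≡ 1 [MOD l] := by
  have h1 := card_modEq hx (Q : Set K) (fun s hs => (mem_normalizer_iff.1 hn s).1 hs)
  have h2 : Nat.card {s : (Q : Set K) // x * s = s * x} = 1 := by
    rw [Nat.card_eq_one_iff_unique]
    have key : ∀ s : (Q : Set K), x * s = s * x → (s : K) = 1 := by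
      intro s hs
      by_contra hne
      obtain ⟨k, hk⟩ := hQ s
      have hk' : (s : K) ^ p ^ k = 1 := by
        have := congrArg Subtype.val hk
        simpa using this
      obtain ⟨n, hn⟩ := exists_pow_orderOf hk' hne
      exact hcen _ (Q.pow_mem s.2 n) hn ((show Commute x (s : K) from hs).pow_right n).eq
    refine ⟨⟨fun a b => Subtype.ext (Subtype.ext ?_)⟩, ⟨⟨⟨1, Q.one_mem⟩, by simp⟩⟩⟩
    rw [key a.1 a.2, key b.1 b.2]
  rw [h2] at h1
  exact h1

/-- `Ω₁(Z(Q))`, as a subgroup of `K`. -/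
def soc (p : ℕ) (Q : Subgroup K) : Subgroup K where
  carrier := {y | y ∈ Q ∧ (∀ q ∈ Q, q * y = y * q) ∧ y ^ p = 1}
  one_mem' := ⟨Q.one_mem, fun q _ => by simp, one_pow p⟩
  mul_mem' := by
    rintro a b ⟨ha, ha1, ha2⟩ ⟨hb, hb1, hb2⟩
    refine ⟨Q.mul_mem ha hb, fun q hq => ?_, ?_⟩
    · rw [← mul_assoc, ha1 q hq, mul_assoc, hb1 q hq, mul_assoc]
    · rw [(show Commute a b from hb1 a ha).mul_pow, ha2, hb2, one_mul]
  inv_mem' := by
    rintro a ⟨ha, ha1, ha2⟩
    refine ⟨Q.inv_mem ha, fun q hq => ?_, by rw [inv_pow, ha2, inv_one]⟩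
    exact ((show Commute q a from ha1 q hq).inv_right).eq

theorem soc_le (p : ℕ) (Q : Subgroup K) : soc p Q ≤ Q := fun _ h => h.1

theorem soc_comm {p : ℕ} {Q : Subgroup K} {a b : K} (ha : a ∈ soc p Q) (hb : b ∈ soc p Q) : a * b = b * a :=
  hb.2.1 a ha.1

theorem soc_pow {p : ℕ} {Q : Subgroup K} {a : K} (ha : a ∈ soc p Q) : a ^ p = 1 := ha.2.2

theorem soc_ne_bot [Finite K] {p : ℕ} [hp : Fact p.Prime] {Q : Subgroup K} (hQ : IsPGroup p Q) (h : Q ≠ ⊥) :
    soc p Q ≠ ⊥ := by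
  have : Nontrivial ↥Q := (Subgroup.nontrivial_iff_ne_bot Q).2 h
  have h1 : Nontrivial (center ↥Q) := hQ.center_nontrivial
  obtain ⟨⟨z, hz⟩, hz1⟩ := exists_ne (1 : center ↥Q)
  have hz1' : (z : K) ≠ 1 := fun hh => hz1 (Subtype.ext (Subtype.ext hh))
  obtain ⟨k, hk⟩ := hQ z
  have hk' : (z : K) ^ p ^ k = 1 := by
    have := congrArg Subtype.val hk
    simpa using this
  obtain ⟨n, hn⟩ := exists_pow_orderOf hk' hz1'
  intro hb
  have h2 : (z : K) ^ n ∈ soc p Q := by
    refine ⟨Q.pow_mem z.2 n, fun q hq => ?_, by rw [← hn]; exact pow_orderOf_eq_one _⟩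
    have h3 := congrArg Subtype.val ((mem_center_iff.1 hz) ⟨q, hq⟩)
    exact ((show Commute q (z : K) from h3).pow_right n).eq
  rw [hb, mem_bot] at h2
  rw [h2, orderOf_one] at hn
  exact hp.1.one_lt.ne hn

theorem soc_normalizer {p : ℕ} {Q : Subgroup K} {x : K} (hx : x ∈ normalizer (Q : Set K)) :
    x ∈ normalizer (soc p Q : Set K) := by
  have key : ∀ z : K, z ∈ normalizer (Q : Set K) → ∀ y ∈ soc p Q, z * y * z⁻¹ ∈ soc p Q := by
    rintro z hz y ⟨h1, h2, h3⟩
    refine ⟨(mem_normalizer_iff.1 hz y).1 h1, fun q hq => ?_, ?_⟩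
    · have hz' := inv_mem hz
      have h4 := h2 _ ((mem_normalizer_iff.1 hz' q).1 hq)
      rw [inv_inv] at h4
      calc q * (z * y * z⁻¹) = z * (z⁻¹ * q * z * y) * z⁻¹ := by group
        _ = z * (y * (z⁻¹ * q * z)) * z⁻¹ := by rw [h4]
        _ = z * y * z⁻¹ * q := by group
    · rw [conj_pow, h3]; group
  rw [mem_normalizer_iff]
  intro y
  refine ⟨key x hx y, fun h => ?_⟩
  have h1 := key x⁻¹ (inv_mem hx) _ h
  have h2 : x⁻¹ * (x * y * x⁻¹) * x⁻¹⁻¹ = y := by group
  rwa [h2] at h1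

theorem soc_isPGroup {p : ℕ} {Q : Subgroup K} (hQ : IsPGroup p Q) : IsPGroup p (soc p Q) :=
  hQ.to_le (soc_le p Q)

end Cfsg.Agent.H566.RowMod
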