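import Cfsg.Agent.H512.SylNum
import Cfsg.Agent.S0333
import Cfsg.Agent.S0324
import Cfsg.Agent.OddCyclic.ClaimC.SzIso
import Cfsg.Agent.H947.El.Ree
import Cfsg.Agent.H566.RowMod

/-!
# S3932-F: the Suzuki and Ree groups have a Sylow number divisible by `p` (helper566)
-/

set_option autoImplicit false

namespace Cfsg.Agent.H566.SylRankOne

open Subgroup Cfsg Cfsg.Agent.H512.SylNum

theorem row_of_norm {G : Type*} [Group G] [Finite G] {p l : ℕ} [hp : Fact p.Prime] [hl : Fact l.Prime] (R : Sylow l G)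
    (h : ¬ p ∣ Nat.card (normalizer ((R : Subgroup G) : Set G))) (hd : p ∣ Nat.card G) : Row p G := by
  refine ⟨l, hl, ?_⟩
  rw [R.card_eq_index_normalizer]
  rw [← (normalizer ((R : Subgroup G) : Set G)).card_mul_index] at hd
  exact (hp.out.dvd_mul.1 hd).resolve_left h

/-- a TI torus `U` with `C(u) = U` -/
theorem row_of_cc {G : Type*} [Group G] [Finite G] {p l : ℕ} [hp : Fact p.Prime] [hl : Fact l.Prime] {U : Subgroup G}
    (hU : ∀ u ∈ U, u ≠ 1 → centralizer {u} = U) (hlU : l ∣ Nat.card U) (hli : ¬ l ∣ U.index)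
    (h : ¬ p ∣ Nat.card (normalizer (U : Set G))) (hd : p ∣ Nat.card G) : Row p G := by
  obtain ⟨P⟩ : Nonempty (Sylow l U) := inferInstance
  have hP : IsPGroup l ((P : Subgroup U).map U.subtype) := P.2.map _
  obtain ⟨R, hR⟩ := hP.exists_le_sylow
  have hcP : Nat.card ((P : Subgroup U).map U.subtype) = Nat.card R := by
    rw [← Nat.card_congr ((P : Subgroup U).equivMapOfInjective _ U.subtype_injective).toEquiv]
    show Nat.card P = Nat.card R
    rw [P.card_eq_multiplicity, R.card_eq_multiplicity, ← U.card_mul_index,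
      Nat.factorization_mul Nat.card_pos.ne' Subgroup.index_ne_zero_of_finite, Finsupp.add_apply,
      Nat.factorization_eq_zero_of_not_dvd hli, add_zero]
  have hRe : (P : Subgroup U).map U.subtype = R := eq_of_le_of_card_ge hR hcP.ge
  have hRU : (R : Subgroup G) ≤ U := by
    rw [← hRe]
    exact map_subtype_le _
  refine row_of_norm R (fun hd' => h (hd'.trans (card_dvd_of_le ?_))) hd
  intro n hn
  have hRne : (R : Subgroup G) ≠ ⊥ := card_sylow_ne_one (hlU.trans (card_subgroup_dvd_card U)) R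
  obtain ⟨x, hxR, hx1⟩ := (Subgroup.ne_bot_iff_exists_ne_one.1 hRne).elim fun x hx =>
    (⟨x, x.2, fun h => hx (Subtype.ext h)⟩ : ∃ x ∈ (R : Subgroup G), x ≠ 1)
  have h1 := hU x (hRU hxR) hx1
  have h2 : n * x * n⁻¹ ∈ (R : Subgroup G) := (mem_normalizer_iff.1 hn x).1 hxR
  have h3 := hU _ (hRU h2) (fun h => hx1 (conj_eq_one_iff.1 h))
  apply mem_normalizer_fintype
  intro u hu
  have hu' : u ∈ centralizer {x} := by rw [h1]; exact hu
  show n * u * n⁻¹ ∈ U
  rw [← h3, mem_centralizer_singleton_iff]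
  have h4 := mem_centralizer_singleton_iff.1 hu'
  calc n * u * n⁻¹ * (n * x * n⁻¹) = n * (u * x) * n⁻¹ := by group
    _ = n * (x * u) * n⁻¹ := by rw [h4]
    _ = n * x * n⁻¹ * (n * u * n⁻¹) := by group

/-! ### Suzuki groups -/

theorem num_sz (m : ℕ) (hm : 1 ≤ m) : ∃ q r : ℕ, q = 2 ^ (2 * m + 1) ∧ r = 2 ^ (m + 1) ∧ 8 ≤ q ∧ 2 ∣ q ∧ 2 ∣ r ∧ r * 2 ≤ q ∧
    r * r = 2 * q := by
  refine ⟨_, _, rfl, rfl, ?_, dvd_pow_self 2 (by omega), dvd_pow_self 2 (by omega), ?_, ?_⟩
  · calc 8 = 2 ^ 3 := by norm_num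
      _ ≤ 2 ^ (2 * m + 1) := Nat.pow_le_pow_right (by norm_num) (by omega)
  · rw [← pow_succ]
    exact Nat.pow_le_pow_right (by norm_num) (by omega)
  · rw [← pow_add, ← pow_succ']
    congr 1
    omega

theorem row_szm {F : Type*} [Field F] [Fintype F] {m : ℕ} (hm : 1 ≤ m) (hF : Fintype.card F = 2 ^ (2 * m + 1)) {p : ℕ}
    [hp : Fact p.Prime] (hp2 : p ≠ 2) (hd : p ∣ Nat.card (Cfsg.Sz F m)) : Row p (Cfsg.Sz F m) := by
  obtain ⟨q, r, hq, hr, h8, h2q, h2r, hrq, hrr⟩ := num_sz m hm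
  have hfin : Finite (Cfsg.Sz F m) := inferInstance
  have hcardG := Cfsg.Agent.S0324.result hm hF
  have h333 := Cfsg.Agent.S0333.result hm hF
  rw [← hq] at hcardG h333
  rw [← hr] at h333
  have e2 : q ^ 2 + 1 = (q + r + 1) * (q - r + 1) := by
    zify [show r ≤ q by omega]
    have : (r : ℤ) * r = 2 * q := by exact_mod_cast hrr
    nlinarith
  -- common prime divisors
  have hcom : ∀ l : ℕ, l.Prime → l ∣ q + r + 1 → l ∣ q - r + 1 → l = 2 := by
    intro l hl h1 h2
    have h3 : l ∣ 2 * r := by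
      have := (Nat.dvd_sub h1 h2)
      rwa [show q + r + 1 - (q - r + 1) = 2 * r by omega] at this
    rw [hr, ← pow_succ'] at h3
    exact (Nat.prime_dvd_prime_iff_eq hl Nat.prime_two).1 (hl.dvd_of_dvd_pow h3)
  -- the main step
  have key : ∀ k k' : ℕ, k ∈ ({q + r + 1, q - r + 1} : Set ℕ) → k * k' = q ^ 2 + 1 → k ≠ 1 →
      (∀ l : ℕ, l.Prime → l ∣ k → l ∣ k' → l = 2) → ¬ p ∣ k → Row p (Cfsg.Sz F m) := by
    intro k k' hk hkk hk1 hco hpk
    obtain ⟨U, -, hcU, hUc, hN⟩ := h333 k hk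
    have hl : (k.minFac).Prime := Nat.minFac_prime hk1
    have hlk : k.minFac ∣ k := Nat.minFac_dvd k
    set l := k.minFac with hldef
    have hlf : Fact l.Prime := ⟨hl⟩
    have hlq1 : l ∣ q ^ 2 + 1 := hkk ▸ hlk.mul_right k'
    have hl2 : l ≠ 2 := by
      rintro h
      rw [h] at hlq1
      have h4 : 2 ∣ q ^ 2 := h2q.trans (dvd_pow_self q (by norm_num))
      omega
    have hidx : U.index = q ^ 2 * k' * (q - 1) := by
      have h1 := U.card_mul_index
      rw [hcU, hcardG, ← hkk] at h1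
      have hk0 : 0 < k := by
        rcases Nat.eq_zero_or_pos k with h0 | h0
        · rw [h0, zero_mul] at hkk; omega
        · exact h0
      exact Nat.eq_of_mul_eq_mul_left hk0 (by rw [h1]; ring)
    refine row_of_cc (l := l) hUc (hcU ▸ hlk) ?_ ?_ hd
    · rw [hidx]
      intro h
      rcases hl.dvd_mul.1 h with h | h
      · rcases hl.dvd_mul.1 h with h | h
        · have h5 := (Nat.dvd_add_right h).1 hlq1
          exact hl.one_lt.ne' (Nat.dvd_one.1 h5)
        · exact hl2 (hco l hl hlk h)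
      · have h5 : l ∣ (q - 1) * (q + 1) := h.mul_right _
        have h6 : l ∣ q ^ 2 + 1 - (q - 1) * (q + 1) := Nat.dvd_sub hlq1 h5
        have h7 : q ^ 2 + 1 - (q - 1) * (q + 1) = 2 := by
          obtain ⟨c, rfl⟩ := Nat.exists_eq_add_of_le (show 1 ≤ q by omega)
          rw [Nat.add_sub_cancel_left]
          ring_nf
          omega
        rw [h7] at h6
        exact hl2 ((Nat.prime_dvd_prime_iff_eq hl Nat.prime_two).1 h6)
    · rw [hN]
      intro h
      rcases hp.out.dvd_mul.1 h with h | h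
      · rw [show (4 : ℕ) = 2 ^ 2 by norm_num] at h
        exact hp2 ((Nat.prime_dvd_prime_iff_eq hp.out Nat.prime_two).1 (hp.out.dvd_of_dvd_pow h))
      · exact hpk h
  by_cases h1 : p ∣ q + r + 1
  · have h2 : ¬ p ∣ q - r + 1 := fun h2 => hp2 (hcom p hp.out h1 h2)
    exact key (q - r + 1) (q + r + 1) (by simp) (by rw [mul_comm, ← e2]) (by omega)
      (fun l hl h3 h4 => hcom l hl h4 h3) h2
  · exact key (q + r + 1) (q - r + 1) (by simp) e2.symm (by omega) hcom h1

theorem row_sz {G : Type*} [Group G] (h : Cfsg.Lie.IsoSuzuki G) {p : ℕ} [hp : Fact p.Prime] (hp2 : p ≠ 2)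
    (hd : p ∣ Nat.card G) : Row p G := by
  obtain ⟨F, _, _, m, hm, hF, ⟨e⟩⟩ := h
  obtain ⟨f⟩ := Cfsg.Agent.OddCyclic.ClaimC.SzIso.iso hm hF
  have hfin : Finite (Cfsg.Sz F m) := inferInstance
  refine Row.congr (f.trans e.symm) (row_szm hm hF hp2 ?_)
  rwa [Nat.card_congr (f.trans e.symm).toEquiv]

/-! ### Ree groups -/

theorem exists_omega {G : Type*} [Group G] [Finite G] {l : ℕ} [hl : Fact l.Prime] {R : Subgroup G} (hRl : IsPGroup l R)
    (hR : R ≠ ⊥) (hc : IsCyclic R) :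
    ∃ E : Subgroup G, Nat.card E = l ∧ IsPGroup l E ∧ normalizer (R : Set G) ≤ normalizer (E : Set G) := by
  refine ⟨RowMod.soc l R, ?_, RowMod.soc_isPGroup hRl, fun x hx => RowMod.soc_normalizer hx⟩
  have h1 : IsCyclic (RowMod.soc l R) := isCyclic_of_injective (Subgroup.inclusion (RowMod.soc_le l R))
    (Subgroup.inclusion_injective _)
  have h2 : Monoid.exponent (RowMod.soc l R) ∣ l := by
    rw [Monoid.exponent_dvd_iff_forall_pow_eq_one]
    intro y
    exact Subtype.ext (RowMod.soc_pow y.2)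
  rw [IsCyclic.exponent_eq_card] at h2
  rcases (Nat.dvd_prime hl.out).1 h2 with h3 | h3
  · exact absurd (Subgroup.card_eq_one.1 h3) (RowMod.soc_ne_bot hRl hR)
  · exact h3

theorem row_ree {G : Type*} [Group G] (h : Cfsg.Lie.IsoRee G) {p : ℕ} [hp : Fact p.Prime] (hp5 : 5 ≤ p)
    (hd : p ∣ Nat.card G) : Row p G := by
  obtain ⟨K, iK, iK', m, hm, hK, ⟨e⟩⟩ := h
  obtain ⟨ρ, n⟩ := Cfsg.Agent.H947.El.exists_reeN m hm
  have F := Cfsg.Agent.H947.El.reeF hm hK n
  have hfin : Finite ↥(Cfsg.Lie.twistedG2 K (3 ^ m)) := inferInstance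
  refine Row.congr e.symm ?_
  have hd' : p ∣ Nat.card ↥(Cfsg.Lie.twistedG2 K (3 ^ m)) := by rwa [← Nat.card_congr e.toEquiv]
  have hrm := F.hr
  set q := 3 ^ (2 * m + 1) with hq
  set r := 3 ^ (m + 1) with hr
  have q27 := n.q27
  have rq := n.rq
  have rr := n.rr
  have q2 := n.q2
  have r2 := n.r2
  have q3 := n.q3
  have r3 := n.r3
  have cube := n.cube
  have fac := n.fac
  have hr3 : 3 ≤ r := Nat.le_of_dvd (by positivity) r3
  have hcom : ∀ l : ℕ, l.Prime → l ∣ q + r + 1 → l ∣ q - r + 1 → l < 5 := by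
    intro l hl h1 h2
    have h3 : l ∣ 2 * r := by
      have := (Nat.dvd_sub h1 h2)
      rwa [show q + r + 1 - (q - r + 1) = 2 * r by omega] at this
    rcases hl.dvd_mul.1 h3 with h3 | h3
    · have := Nat.le_of_dvd (by norm_num) h3
      omega
    · rw [hr] at h3
      have := Nat.le_of_dvd (by norm_num) (hl.dvd_of_dvd_pow h3)
      omega
  have key : ∀ k k' : ℕ, (k = q - r + 1 ∧ k' = q + r + 1) ∨ (k = q + r + 1 ∧ k' = q - r + 1) → ¬ p ∣ k →
      Row p ↥(Cfsg.Lie.twistedG2 K (3 ^ m)) := by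
    intro k k' hkk hpk
    have hk1 : k ≠ 1 := by omega
    have hprod : q ^ 2 - q + 1 = k * k' := by
      rw [fac]
      rcases hkk with ⟨rfl, rfl⟩ | ⟨rfl, rfl⟩ <;> ring
    have hl : (k.minFac).Prime := Nat.minFac_prime hk1
    have hlk : k.minFac ∣ k := Nat.minFac_dvd k
    set l := k.minFac with hldef
    have hlf : Fact l.Prime := ⟨hl⟩
    have hl2 : l ≠ 2 := by
      intro h
      rw [h] at hlk
      omega
    have hl3 : l ≠ 3 := by
      intro h
      rw [h] at hlk
      omega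
    have hl4 : l ≠ 4 := by
      intro h
      rw [h] at hl
      norm_num at hl
    have hl5 : 5 ≤ l := by
      have := hl.two_le
      omega
    have hlq : l ∣ q ^ 2 - q + 1 := by rw [hprod]; exact hlk.mul_right _
    have hlR : l ∣ Nat.card ↥(Cfsg.Lie.twistedG2 K (3 ^ m)) := by
      rw [F.card, cube]
      exact (hlq.mul_left _).mul_left _
    obtain ⟨R⟩ : Nonempty (Sylow l ↥(Cfsg.Lie.twistedG2 K (3 ^ m))) := inferInstance
    have hRne := card_sylow_ne_one hlR R
    have hcyc := F.cyc l hl (by omega) (R : Subgroup _) R.2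
    obtain ⟨E, hE, hEl, hNE⟩ := exists_omega R.2 hRne hcyc
    refine row_of_norm R (fun hd'' => ?_) hd'
    have h1 : p ∣ Nat.card (normalizer (E : Set ↥(Cfsg.Lie.twistedG2 K (3 ^ m)))) := hd''.trans (card_dvd_of_le hNE)
    obtain ⟨A, -, hEA, hA⟩ := F.norm l hl (by omega) E hE
    have hlA : l ∣ Nat.card A := hE ▸ card_dvd_of_le hEA
    have hqq : q ^ 2 - q + 1 = q * (q - 1) + 1 := by
      rw [Nat.mul_sub, mul_one, pow_two]
    rcases hA with ⟨hA, -⟩ | ⟨hA, -⟩ | ⟨hA, hN⟩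
    · have h2 : l ∣ q - 1 := hA ▸ hlA.mul_left 2
      rw [hqq] at hlq
      have h3 := (Nat.dvd_add_right (h2.mul_left q)).1 hlq
      exact hl.one_lt.ne' (Nat.dvd_one.1 h3)
    · have h2 : l ∣ q + 1 := hA ▸ hlA.mul_left 4
      have h3 : l ∣ (q + 1) * (q - 2) := h2.mul_right _
      have h4 : q ^ 2 - q + 1 = (q + 1) * (q - 2) + 3 := by
        rw [hqq]
        obtain ⟨c, hc⟩ := Nat.exists_eq_add_of_le (show 2 ≤ q by omega)
        rw [hc, show 2 + c - 1 = c + 1 by omega, show 2 + c - 2 = c by omega]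
        ring
      rw [h4] at hlq
      have h5 := Nat.le_of_dvd (by norm_num) ((Nat.dvd_add_right h3).1 hlq)
      omega
    · have hAk : Nat.card A = k := by
        have h2 : Nat.card A = k ∨ Nat.card A = k' := by
          rcases hkk with ⟨rfl, rfl⟩ | ⟨rfl, rfl⟩
          · exact hA
          · exact hA.symm
        refine h2.resolve_right fun h3 => ?_
        rw [h3] at hlA
        have h4 : l < 5 := by
          rcases hkk with ⟨rfl, rfl⟩ | ⟨rfl, rfl⟩
          · exact hcom l hl hlA hlk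
          · exact hcom l hl hlk hlA
        omega
      rw [hN, hAk] at h1
      rcases hp.out.dvd_mul.1 h1 with h2 | h2
      · rw [show (6 : ℕ) = 2 * 3 by norm_num] at h2
        rcases hp.out.dvd_mul.1 h2 with h3 | h3
        · have := Nat.le_of_dvd (by norm_num) h3
          omega
        · have := Nat.le_of_dvd (by norm_num) h3
          omega
      · exact hpk h2
  by_cases h1 : p ∣ q + r + 1
  · exact key (q - r + 1) (q + r + 1) (Or.inl ⟨rfl, rfl⟩) fun h2 => by
      have := hcom p hp.out h1 h2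
      omega
  · exact key (q + r + 1) (q - r + 1) (Or.inr ⟨rfl, rfl⟩) h1

end Cfsg.Agent.H566.SylRankOne
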