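import Mathlib
import Cfsg.Agent.H566.RgdExc
import Cfsg.Agent.H566.RankOneSR
import Cfsg.Agent.H566.TwFour

/-!
# The groups of Lie type have rich coprime fixed points (helper566)

* `copRich_of_lie` : `G` simple, `IsLieTypeChar p G`, of even order: `CopRich G`.
-/

set_option autoImplicit false
set_option linter.unusedSectionVars false

namespace Cfsg.Agent.H566

open Cfsg

theorem copRich_of_model {G M : Type*} [Group G] [Group M] [Finite G] [IsSimpleGroup G] (h2 : 2 ∣ Nat.card G)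
    (e : G ≃* M) (h : Finite M → IsSimpleGroup M → 2 ∣ Nat.card M → CopRich M) : CopRich G := by
  have h1 : Finite M := Finite.of_equiv G e.toEquiv
  have h3 : IsSimpleGroup M := e.symm.isSimpleGroup
  exact (h h1 h3 (by rwa [← Nat.card_congr e.toEquiv])).of_equiv e.symm

theorem copRich_of_rgdc {G M : Type*} [Group G] [Group M] [Finite G] [IsSimpleGroup G] (h2 : 2 ∣ Nat.card G)
    (e : G ≃* M) {p : ℕ} (hp : p.Prime) (h : HasRGDC p M) : CopRich G :=
  copRich_of_model h2 e fun _ _ h2 => h.copRich hp h2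

theorem copRich_of_lie {G : Type*} [Group G] [Finite G] [IsSimpleGroup G] (h2 : 2 ∣ Nat.card G) {p : ℕ}
    (hp : p.Prime) (h : IsLieTypeChar p G) : CopRich G := by
  have hpf : Fact p.Prime := ⟨hp⟩
  rcases h with h | h | h | h | h | h | h | h | ⟨-, h⟩ | ⟨-, h⟩ | ⟨-, h⟩
  · obtain ⟨F, _, _, _, n, hn, -, ⟨e⟩⟩ := h
    obtain ⟨n, rfl⟩ : ∃ k, n = k + 1 := ⟨n - 1, by omega⟩
    exact copRich_of_rgdc h2 e hp (rgdc_PSL n (by omega))
  · obtain ⟨F, _, _, _, m, hm, -, ⟨e⟩⟩ := h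
    exact copRich_of_rgdc h2 e hp (rgdc_PSp hm)
  · obtain ⟨F, _, _, _, n, q, hF, hn, -, ⟨e⟩⟩ := h
    rcases Nat.lt_or_ge n 4 with h4 | h4
    · obtain rfl : n = 3 := by omega
      exact copRich_of_model h2 e fun _ hs h2 => copRich_PSU3 (p := p) hF hs h2
    · exact copRich_of_rgdc h2 e hp (rgdc_PSU hF h4)
  · obtain ⟨F, _, _, _, m, hm, hodd, ⟨e⟩⟩ := h
    have h20 : (2 : F) ≠ 0 := by
      intro h20
      have h3 : CharP F 2 := CharTwo.of_one_ne_zero_of_two_eq_zero one_ne_zero h20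
      obtain ⟨n, -, hn⟩ := FiniteField.card F 2
      rw [hn] at hodd
      exact absurd hodd (by
        rw [Nat.not_odd_iff_even]
        exact even_two.pow_of_ne_zero n.ne_zero)
    exact copRich_of_rgdc h2 e hp (rgdc_PO_odd h20 (by omega))
  · obtain ⟨F, _, _, _, m, hm, ⟨e⟩⟩ := h
    obtain ⟨n, rfl⟩ : ∃ n, m = n + 4 := ⟨m - 4, by omega⟩
    exact copRich_of_rgdc h2 e hp (rgdc_PO_plus n)
  · obtain ⟨F, _, _, _, m, a, b, hm, hab, ⟨e⟩⟩ := h
    exact copRich_of_rgdc h2 e hp (rgdc_PO_minus hab (by omega))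
  · exact (rgdc_of_exc h).copRich hp h2
  · exact (rgdc_of_tw h).copRich hp h2
  · obtain ⟨K, i1, i2, m, hm, hK, ⟨e⟩⟩ := h
    have H := LieRecognition.SzMatrix.good hK
    exact copRich_of_model h2 e fun _ hs h2 => copRich_Sz hm hK H hs h2
  · obtain ⟨K, i1, i2, m, hm, hK, ⟨e⟩⟩ := h
    exact copRich_of_model h2 e fun _ hs h2 => copRich_twF4 hK h2
  · obtain ⟨K, i1, i2, m, hm, hK, ⟨e⟩⟩ := h
    obtain ⟨U, h, n, D⟩ := Cfsg.Agent.ChevalleyStructure.Ree.Data.exists_data hK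
    exact copRich_of_model h2 e fun _ hs h2 => copRich_Ree hm hK D h2

end Cfsg.Agent.H566
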