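import Cfsg.Agent.H566.PairTool
import Cfsg.Agent.H566.RowMod

/-!
# Counting vectors: the 3-subgroups commuting with an element of order 5 or 7 (helper566, for S4350)
-/

set_option autoImplicit false

namespace Cfsg.Agent.H566.PairW

open Subgroup

variable {M : Type*} [Group M] [Finite M] {V : Type*} [AddCommGroup V] [Finite V] [DistribMulAction M V]

omit [Finite M] [Finite V] in
theorem smul_fx_of_comm {P : Subgroup M} {x : M} (hx : ∀ g ∈ P, x * g = g * x) {v : V} (hv : v ∈ fx V P) :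
    x • v ∈ fx V P := by
  intro g hg
  rw [smul_smul, ← hx g hg, mul_smul, hv g hg]

omit [Finite M] [Finite V] in
theorem comm_zpowers {y g : M} (h : y * g = g * y) {x : M} (hx : x ∈ zpowers y) : x * g = g * x := by
  obtain ⟨k, rfl⟩ := mem_zpowers_iff.1 hx
  exact ((show Commute y g from h).zpow_left k).eq

omit [Finite M] [Finite V] in
/-- dimensions of `C_U(P)` modulo the order of `2` -/
theorem dim_five {p : ℕ} [hp : Fact p.Prime] (hp5 : p = 5) [Finite V] {P : Subgroup M} (hP : IsPGroup p P)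
    {U : AddSubgroup V} (hU : ∀ g ∈ P, ∀ v ∈ U, g • v ∈ U) {i j : ℕ} (hj8 : j ≤ 8) (hij : i ≤ j)
    (hj : Nat.card U = 2 ^ j) (hi : Nat.card ↥(U ⊓ fx V P) = 2 ^ i) : j % 4 = i % 4 := by
  subst hp5
  have h1 := modEq_inf hP U hU
  rw [hj, hi] at h1
  exact par_five j (by omega) i (by omega) h1

omit [Finite M] [Finite V] in
theorem dim_seven {p : ℕ} [hp : Fact p.Prime] (hp5 : p = 7) [Finite V] {P : Subgroup M} (hP : IsPGroup p P)
    {U : AddSubgroup V} (hU : ∀ g ∈ P, ∀ v ∈ U, g • v ∈ U) {i j : ℕ} (hj8 : j ≤ 8) (hij : i ≤ j)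
    (hj : Nat.card U = 2 ^ j) (hi : Nat.card ↥(U ⊓ fx V P) = 2 ^ i) : j % 3 = i % 3 := by
  subst hp5
  have h1 := modEq_inf hP U hU
  rw [hj, hi] at h1
  exact par_seven j (by omega) i (by omega) h1

omit [Finite M] [Finite V] in
theorem dim_three [Finite V] {P : Subgroup M} (hP : IsPGroup 3 P)
    {U : AddSubgroup V} (hU : ∀ g ∈ P, ∀ v ∈ U, g • v ∈ U) {i j : ℕ} (hj8 : j ≤ 8) (hij : i ≤ j)
    (hj : Nat.card U = 2 ^ j) (hi : Nat.card ↥(U ⊓ fx V P) = 2 ^ i) : j % 2 = i % 2 := by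
  have h3 : Fact (Nat.Prime 3) := ⟨Nat.prime_three⟩
  have h1 := modEq_inf hP U hU
  rw [hj, hi] at h1
  exact par_three j (by omega) i (by omega) h1

omit [Finite M] [Finite V] in
theorem card_le_card {U' U : AddSubgroup V} [Finite V] {i j : ℕ} (hi : Nat.card U' = 2 ^ i) (hj : Nat.card U = 2 ^ j)
    (h : U' ≤ U) : i ≤ j := by
  have h1 : Nat.card U' ≤ Nat.card U := Nat.card_le_card_of_injective _ (AddSubgroup.inclusion_injective h)
  rw [hi, hj] at h1
  exact (Nat.pow_le_pow_iff_right (by norm_num)).1 h1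

theorem not_nine' : ∀ c < 9, c ≠ 0 → c % 4 = 0 → ∀ j < 9, ¬ 9 ∣ 2 ^ (j + c) - 2 ^ j := by decide

/-- **a 3-group commuting with an element of order 5** -/
theorem card_le_five (hf : Faith M V) {r : ℕ} (hr : r ≤ 8) (hV : Nat.card V = 2 ^ r) {y : M} (hy : orderOf y = 5)
    {P : Subgroup M} (hP : IsPGroup 3 P) (hc : ∀ g ∈ P, y * g = g * y) :
    Nat.card P ≤ 27 ∧ (r ≤ 7 → Nat.card P ≤ 9) := by
  have h5 : Fact (Nat.Prime 5) := ⟨by norm_num⟩
  have h3 : Fact (Nat.Prime 3) := ⟨by norm_num⟩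
  have hY : IsPGroup 5 (zpowers y) := IsPGroup.of_card (n := 1) (by rw [Nat.card_zpowers, hy, pow_one])
  have hyY : y ∈ zpowers y := mem_zpowers y
  have hcY : ∀ g ∈ P, ∀ x ∈ zpowers y, g * x = x * g := fun g hg x hx => (comm_zpowers (hc g hg) hx).symm
  obtain ⟨k, hkr, hk⟩ := exists_pow_card Nat.prime_two hV (fx V (zpowers y))
  have hkne : k ≠ r := by
    rintro rfl
    have h1 : fx V (zpowers y) = ⊤ := AddSubgroup.eq_top_of_card_eq _ (by rw [hk, hV])
    have h2 := eq_bot_of_fx hf h1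
    rw [zpowers_eq_bot] at h2
    rw [h2, orderOf_one] at hy
    norm_num at hy
  have hkr4 : r % 4 = k % 4 := by
    refine dim_five rfl hY (U := (⊤ : AddSubgroup V)) (fun _ _ _ _ => AddSubgroup.mem_top _) hr hkr (by rw [AddSubgroup.card_top, hV]) ?_
    rw [top_inf_eq, hk]
  obtain ⟨v, -, hv, hcard⟩ := exists_st (k := 1) hP (U' := fx V (zpowers y)) (U := ⊤)
    (fun g hg v hv => smul_fx_of_comm (hcY g hg) hv) (fun _ _ _ _ => AddSubgroup.mem_top _) le_top (by
      rw [AddSubgroup.card_top, hV, hk, show (1 + 1 : ℕ) = 2 from rfl, show r = k + (r - k) by omega]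
      exact not_nine' _ (by omega) (by omega) (by omega) k (by omega))
  have hPv : IsPGroup 3 (st P v) := hP.to_le (st_le P v)
  obtain ⟨j, hjr, hj⟩ := exists_pow_card Nat.prime_two hV (fx V (st P v))
  obtain ⟨i, hir, hi⟩ := exists_pow_card Nat.prime_two hV (fx V (st P v) ⊓ fx V (zpowers y))
  have hij : i < j := lt_of_card_lt hi hj inf_le_left (mem_fx_st P v) (fun h => hv h.2)
  have hij4 : j % 4 = i % 4 :=
    dim_five rfl hY (U := fx V (st P v)) (fun g hg w hw => smul_fx_of_comm (P := st P v) (fun x hx => (hcY x hx.1 g hg).symm) hw) (by omega) hij.le hj hi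
  have hj2 : r % 2 = j % 2 := by
    refine dim_three hPv (U := (⊤ : AddSubgroup V)) (fun _ _ _ _ => AddSubgroup.mem_top _) hr hjr (by rw [AddSubgroup.card_top, hV]) ?_
    rw [top_inf_eq, hj]
  constructor
  · have h1 := card_le_of_codim hf hr hV 2 le_rfl _ hPv j hj (by omega)
    omega
  · intro hr7
    have h1 := card_le_of_codim hf hr hV 1 (by norm_num) _ hPv j hj (by omega)
    omega

theorem not_27 : ∀ j < 9, ¬ 27 ∣ 2 ^ (j + 6) - 2 ^ j := by decide

theorem not_3 : ∀ j < 9, ¬ 3 ∣ 2 ^ (j + 3) - 2 ^ j := by decide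

/-- **a 3-group commuting with an element of order 7** -/
theorem card_le_seven (hf : Faith M V) {r : ℕ} (hr : r ≤ 8) (hV : Nat.card V = 2 ^ r) {y : M} (hy : orderOf y = 7)
    {P : Subgroup M} (hP : IsPGroup 3 P) (hc : ∀ g ∈ P, y * g = g * y) :
    Nat.card P ≤ 27 ∧ (r ≤ 7 → Nat.card P ≤ 9) := by
  have h7 : Fact (Nat.Prime 7) := ⟨by norm_num⟩
  have h3 : Fact (Nat.Prime 3) := ⟨by norm_num⟩
  have hY : IsPGroup 7 (zpowers y) := IsPGroup.of_card (n := 1) (by rw [Nat.card_zpowers, hy, pow_one])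
  have hyY : y ∈ zpowers y := mem_zpowers y
  have hcY : ∀ g ∈ P, ∀ x ∈ zpowers y, g * x = x * g := fun g hg x hx => (comm_zpowers (hc g hg) hx).symm
  obtain ⟨k, hkr, hk⟩ := exists_pow_card Nat.prime_two hV (fx V (zpowers y))
  have hkne : k ≠ r := by
    rintro rfl
    have h1 : fx V (zpowers y) = ⊤ := AddSubgroup.eq_top_of_card_eq _ (by rw [hk, hV])
    have h2 := eq_bot_of_fx hf h1
    rw [zpowers_eq_bot] at h2
    rw [h2, orderOf_one] at hy
    norm_num at hy
  have hkr3 : r % 3 = k % 3 := by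
    refine dim_seven rfl hY (U := (⊤ : AddSubgroup V)) (fun _ _ _ _ => AddSubgroup.mem_top _) hr hkr (by rw [AddSubgroup.card_top, hV]) ?_
    rw [top_inf_eq, hk]
  have hinv : ∀ g ∈ P, ∀ v ∈ fx V (zpowers y), g • v ∈ fx V (zpowers y) :=
    fun g hg v hv => smul_fx_of_comm (hcY g hg) hv
  -- facts on a stabiliser
  have key : ∀ v : V, v ∉ fx V (zpowers y) → ∃ j i, Nat.card (fx V (st P v)) = 2 ^ j ∧ j ≤ r ∧ i < j ∧
      i ≤ k ∧ j % 3 = i % 3 ∧ r % 2 = j % 2 ∧ k % 2 = i % 2 := by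
    intro v hv
    have hPv : IsPGroup 3 (st P v) := hP.to_le (st_le P v)
    obtain ⟨j, hjr, hj⟩ := exists_pow_card Nat.prime_two hV (fx V (st P v))
    obtain ⟨i, hir, hi⟩ := exists_pow_card Nat.prime_two hV (fx V (st P v) ⊓ fx V (zpowers y))
    have hij : i < j := lt_of_card_lt hi hj inf_le_left (mem_fx_st P v) (fun h => hv h.2)
    have hij4 : j % 3 = i % 3 :=
      dim_seven rfl hY (U := fx V (st P v)) (fun g hg w hw => smul_fx_of_comm (P := st P v) (fun x hx => (hcY x hx.1 g hg).symm) hw) (by omega) hij.le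
        hj hi
    have hj2 : r % 2 = j % 2 := by
      refine dim_three hPv (U := (⊤ : AddSubgroup V)) (fun _ _ _ _ => AddSubgroup.mem_top _) hr hjr (by rw [AddSubgroup.card_top, hV]) ?_
      rw [top_inf_eq, hj]
    have hik : i ≤ k := card_le_card hi hk inf_le_right
    have hk2 : k % 2 = i % 2 := by
      refine dim_three hPv (U := fx V (zpowers y)) (fun g hg v hv => hinv g hg.1 v hv) (by omega) hik hk ?_
      rw [inf_comm, hi]
    exact ⟨j, i, hj, hjr, hij, hik, hij4, hj2, hk2⟩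
  have hcases : r = k + 3 ∨ r = k + 6 := by omega
  rcases hcases with h | h
  · obtain ⟨v, -, hv, hcard⟩ := exists_st (k := 0) hP (U' := fx V (zpowers y)) (U := ⊤)
      hinv (fun _ _ _ _ => AddSubgroup.mem_top _) le_top (by
        rw [AddSubgroup.card_top, hV, hk, h, zero_add, pow_one]
        exact not_3 k (by omega))
    obtain ⟨j, i, hj, hjr, hij, hik, h1, h2, h4⟩ := key v hv
    have hPv : IsPGroup 3 (st P v) := hP.to_le (st_le P v)
    have h5 := card_le_of_codim hf hr hV 2 le_rfl _ hPv j hj (by omega)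
    omega
  · obtain ⟨v, -, hv, hcard⟩ := exists_st (k := 2) hP (U' := fx V (zpowers y)) (U := ⊤)
      hinv (fun _ _ _ _ => AddSubgroup.mem_top _) le_top (by
        rw [AddSubgroup.card_top, hV, hk, h]
        exact not_27 k (by omega))
    obtain ⟨j, i, hj, hjr, hij, hik, h1, h2, h4⟩ := key v hv
    have hPv : IsPGroup 3 (st P v) := hP.to_le (st_le P v)
    constructor
    · have h5 := card_le_of_codim hf hr hV 1 (by norm_num) _ hPv j hj (by omega)
      omega
    · intro hr7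
      have h5 := card_le_of_codim hf hr hV 0 (by norm_num) _ hPv j hj (by omega)
      omega

end Cfsg.Agent.H566.PairW
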