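import Cfsg.Agent.H566.PairCent

/-!
# Counting vectors: elements of order 5 acting on 3-subgroups (helper566, for S4350)

* `frob` : Frobenius groups;
* `no_act` : an element of order 5 centralises every 3-subgroup of order at most `3 ^ 5` it normalises, if
  the group acts faithfully on `V` with `|V| ≤ 2 ^ 8`.
-/

set_option autoImplicit false

namespace Cfsg.Agent.H566.PairW

open Subgroup
open scoped commutatorElement

/-! ### an abstract lemma -/

section Abs

variable {G : Type*} [Group G] [Finite G]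

theorem abs_center (hG : Nat.card G = 3 ^ 5) (σ : MulAut G)
    (hinv : ∀ H : Subgroup G, (∀ h ∈ H, σ h ∈ H) → Nat.card H = 1 ∨ Nat.card H = 3 ∨ Nat.card H = 243)
    (hfix : Nat.card {g : G // σ g = g} = 3) : Nat.card (center G) = 3 := by
  have h3 : Fact (Nat.Prime 3) := ⟨Nat.prime_three⟩
  have hP : IsPGroup 3 G := IsPGroup.of_card hG
  have hnt : Nontrivial G := Finite.one_lt_card_iff_nontrivial.1 (by rw [hG]; norm_num)
  have hcn : Nontrivial (center G) := hP.center_nontrivial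
  rcases hinv (center G) (fun h hh => by
    rw [mem_center_iff] at hh ⊢
    intro g
    have := congrArg σ (hh (σ.symm g))
    simpa using this) with h | h | h
  · exact absurd h (Finite.one_lt_card_iff_nontrivial.2 hcn).ne'
  · exact h
  · exfalso
    have htop : center G = ⊤ := eq_top_of_card_eq _ (by rw [h, hG]; norm_num)
    have hcomm : ∀ a b : G, a * b = b * a := fun a b => by
      have : b ∈ center G := by rw [htop]; exact mem_top b
      exact mem_center_iff.1 this a
    let f : G →* G := MonoidHom.mk' (fun g => g⁻¹ * σ g) (fun a b => by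
      show (a * b)⁻¹ * σ (a * b) = a⁻¹ * σ a * (b⁻¹ * σ b)
      rw [map_mul, mul_inv_rev, hcomm b⁻¹ a⁻¹, mul_assoc, mul_assoc, ← mul_assoc b⁻¹, hcomm b⁻¹ (σ a), mul_assoc])
    have hf : ∀ g, f g = g⁻¹ * σ g := fun _ => rfl
    have hker : Nat.card f.ker = 3 := by
      rw [← hfix]
      refine Nat.card_congr (Equiv.subtypeEquivRight fun g => ?_)
      rw [MonoidHom.mem_ker, hf, inv_mul_eq_one, eq_comm]
    have h1 := f.ker.card_mul_index
    rw [index_ker, hker, hG] at h1
    have h2 := hinv f.range (by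
      rintro _ ⟨g, rfl⟩
      exact ⟨σ g, by rw [hf, hf, map_mul, map_inv]⟩)
    omega

theorem normal_inf_center {p : ℕ} [hp : Fact p.Prime] (hP : IsPGroup p G) {N : Subgroup G} (hN : N.Normal)
    (hne : N ≠ ⊥) : N ⊓ center G ≠ ⊥ := by
  intro hb
  have hPc : IsPGroup p (ConjAct G) := hP
  have h1 := hPc.card_modEq_card_fixedPoints N
  have h2 : Nat.card (MulAction.fixedPoints (ConjAct G) N) = 1 := by
    rw [Nat.card_eq_one_iff_unique]
    have key : ∀ n : N, n ∈ MulAction.fixedPoints (ConjAct G) N → n = 1 := by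
      intro n hn
      have h3 : (n : G) ∈ N ⊓ center G := by
        refine ⟨n.2, mem_center_iff.2 fun g => ?_⟩
        have h4 := congrArg Subtype.val (hn (ConjAct.toConjAct g))
        rw [ConjAct.Subgroup.val_conj_smul, ConjAct.toConjAct_smul] at h4
        exact mul_inv_eq_iff_eq_mul.1 h4
      rw [hb, mem_bot] at h3
      exact Subtype.ext h3
    refine ⟨⟨fun a b => Subtype.ext ?_⟩, ⟨⟨1, fun g => smul_one g⟩⟩⟩
    rw [key a.1 a.2, key b.1 b.2]
  rw [h2] at h1
  obtain ⟨k, hk⟩ := IsPGroup.iff_card.1 (hP.to_subgroup N)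
  have hk0 : k ≠ 0 := by
    rintro rfl
    rw [pow_zero, Subgroup.card_eq_one] at hk
    exact hne hk
  rw [hk] at h1
  have h3 : p ∣ 1 := by
    have h4 : p ∣ p ^ k := dvd_pow_self p hk0
    exact (Nat.modEq_zero_iff_dvd.1 (h1.symm.trans (Nat.modEq_zero_iff_dvd.2 h4)))
  exact hp.1.one_lt.ne' (Nat.dvd_one.1 h3)

theorem abs_A (hG : Nat.card G = 3 ^ 5) (σ : MulAut G)
    (hinv : ∀ H : Subgroup G, (∀ h ∈ H, σ h ∈ H) → Nat.card H = 1 ∨ Nat.card H = 3 ∨ Nat.card H = 243)
    (hfix : Nat.card {g : G // σ g = g} = 3) (A : Subgroup G) (hA : A ⊓ center G = ⊥) : Nat.card A < 27 := by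
  have h3 : Fact (Nat.Prime 3) := ⟨Nat.prime_three⟩
  have hP : IsPGroup 3 G := IsPGroup.of_card hG
  have hZ := abs_center hG σ hinv hfix
  have hmin : (Nat.card G).minFac = 3 := by
    rw [hG, Nat.Prime.pow_minFac Nat.prime_three (by norm_num)]
  by_contra hcon
  push Not at hcon
  -- a normal subgroup inside `A` is trivial
  have hsub : ∀ N : Subgroup G, N.Normal → N ≤ A → N = ⊥ := by
    intro N hN hNA
    by_contra hne
    apply normal_inf_center hP hN hne
    rw [eq_bot_iff, ← hA]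
    exact inf_le_inf_right _ hNA
  obtain ⟨a, ha⟩ := IsPGroup.iff_card.1 (hP.to_subgroup A)
  -- the product
  set B : Subgroup G := A ⊔ center G with hB
  have hAB : Nat.card B = Nat.card A * 3 := by
    have h1 : (center G).relIndex B = Nat.card A := by
      rw [hB, relIndex_sup_right, ← inf_relIndex_right, inf_comm, hA, relIndex_bot_left]
    have h2 := relIndex_mul_relIndex ⊥ (center G) B bot_le le_sup_right
    rw [relIndex_bot_left, relIndex_bot_left, h1, hZ] at h2
    rw [← h2, mul_comm]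
  have hBd : Nat.card B ∣ 3 ^ 5 := hG ▸ card_subgroup_dvd_card B
  have ha4 : a ≤ 4 := by
    rw [hAB, ha, ← pow_succ] at hBd
    have := (Nat.pow_dvd_pow_iff_le_right (by norm_num)).1 hBd
    omega
  have ha3 : 3 ≤ a := by
    rw [ha] at hcon
    exact (Nat.pow_le_pow_iff_right (a := 3) (by norm_num)).1 (show 3 ^ 3 ≤ 3 ^ a by omega)
  have hane : A ≠ ⊥ := by
    rintro h
    rw [h, Subgroup.card_bot] at hcon
    norm_num at hcon
  have ha' : a = 3 := by
    by_contra hne
    have h4 : a = 4 := by omega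
    have h5 : A.index = (Nat.card G).minFac := by
      have h6 := A.card_mul_index
      rw [ha, h4, hG] at h6
      rw [hmin]
      omega
    exact hane (hsub A (normal_of_index_eq_minFac_card h5) le_rfl)
  have hB81 : Nat.card B = 81 := by rw [hAB, ha, ha']; norm_num
  have hBi : B.index = 3 := by
    have h6 := B.card_mul_index
    rw [hB81, hG] at h6
    omega
  have hBn : B.Normal := normal_of_index_eq_minFac_card (by rw [hmin, hBi])
  -- `B` is abelian
  have hBcomm : ∀ x ∈ B, ∀ y ∈ B, x * y = y * x := by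
    have h1 : ⁅B, B⁆ ≤ A := by
      rw [commutator_le]
      intro x hx y hy
      obtain ⟨u, hu, z, hz, rfl⟩ := mem_sup_of_normal_right.1 hx
      obtain ⟨v, hv, w, hw, rfl⟩ := mem_sup_of_normal_right.1 hy
      rw [mem_center_iff] at hz hw
      have h2 : ⁅u * z, v * w⁆ = ⁅u, v⁆ := by
        rw [commutatorElement_def, commutatorElement_def, mul_inv_rev, mul_inv_rev]
        calc u * z * (v * w) * (z⁻¹ * u⁻¹) * (w⁻¹ * v⁻¹)
            = u * (z * (v * w) * z⁻¹) * u⁻¹ * (w⁻¹ * v⁻¹) := by group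
          _ = u * (v * w) * u⁻¹ * (w⁻¹ * v⁻¹) := by rw [← hz (v * w), mul_inv_cancel_right]
          _ = u * v * (w * u⁻¹ * w⁻¹) * v⁻¹ := by group
          _ = u * v * u⁻¹ * v⁻¹ := by rw [← hw u⁻¹, mul_inv_cancel_right]
      rw [h2]
      exact A.mul_mem (A.mul_mem (A.mul_mem hu hv) (A.inv_mem hu)) (A.inv_mem hv)
    have h2 := hsub ⁅B, B⁆ (commutator_normal B B) h1
    intro x hx y hy
    have h3 : ⁅x, y⁆ ∈ ⁅B, B⁆ := commutator_mem_commutator hx hy
    rw [h2, mem_bot, commutatorElement_eq_one_iff_mul_comm] at h3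
    exact h3
  -- the conjugate
  have hnot : ∃ b ∈ B, σ b ∉ B := by
    by_contra h
    push Not at h
    have := hinv B h
    omega
  obtain ⟨b, hb, hσb⟩ := hnot
  set B' : Subgroup G := B.map σ.toMonoidHom with hB'
  have hB'card : Nat.card B' = 81 := by
    rw [← hB81]
    exact Nat.card_congr (B.equivMapOfInjective _ σ.injective).symm.toEquiv
  have hB'i : B'.index = 3 := by
    have h6 := B'.card_mul_index
    rw [hB'card, hG] at h6
    omega
  have hB'comm : ∀ x ∈ B', ∀ y ∈ B', x * y = y * x := by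
    rintro _ ⟨x, hx, rfl⟩ _ ⟨y, hy, rfl⟩
    rw [← map_mul, ← map_mul, hBcomm x hx y hy]
  have htop : B ⊔ B' = ⊤ := by
    apply eq_top_of_card_eq
    have h1 : Nat.card ↥(B ⊔ B') ∣ 3 ^ 5 := hG ▸ card_subgroup_dvd_card _
    obtain ⟨m, hm5, hm⟩ := (Nat.dvd_prime_pow Nat.prime_three).1 h1
    have h2 : m = 5 := by
      by_contra hne
      have h3 : Nat.card ↥(B ⊔ B') ≤ Nat.card B := by
        rw [hm, hB81]
        exact Nat.pow_le_pow_right (n := 3) (by norm_num) (show m ≤ 4 by omega)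
      have h4 : B = B ⊔ B' := eq_of_le_of_card_ge le_sup_left h3
      apply hσb
      rw [h4]
      exact mem_sup_right ⟨b, hb, rfl⟩
    rw [hm, h2, hG]
  have hle : B ⊓ B' ≤ center G := by
    intro x hx
    have h1 : B ⊔ B' ≤ centralizer {x} := by
      refine sup_le (fun y hy => ?_) (fun y hy => ?_)
      · rw [mem_centralizer_singleton_iff]
        exact hBcomm y hy x hx.1
      · rw [mem_centralizer_singleton_iff]
        exact hB'comm y hy x hx.2
    rw [htop] at h1
    rw [mem_center_iff]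
    intro g
    exact mem_centralizer_singleton_iff.1 (h1 (mem_top g))
  have hidx : (B ⊓ B').index ≤ 9 := by
    have := index_inf_le (H := B) (K := B')
    rw [hBi, hB'i] at this
    exact this
  have h7 := (B ⊓ B').card_mul_index
  have h8 : Nat.card ↥(B ⊓ B') ≤ 3 := by
    rw [← hZ]
    exact card_le_of_le hle
  rw [hG] at h7
  have h9 : Nat.card ↥(B ⊓ B') * (B ⊓ B').index ≤ 3 * 9 := Nat.mul_le_mul h8 hidx
  omega

end Abs

/-! ### Frobenius groups -/

variable {M : Type*} [Group M] [Finite M] {V : Type*} [AddCommGroup V] [DistribMulAction M V]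

omit [Finite M] in
theorem sum_mem_fx (R : Subgroup M) [Fintype R] (w : V) : ∑ r : R, (r : M) • w ∈ fx V R := by
  intro s hs
  rw [Finset.smul_sum]
  simp_rw [smul_smul]
  exact (Equiv.mulLeft (⟨s, hs⟩ : R)).bijective.sum_comp (fun r : R => (r : M) • w)

theorem frob {t : ℕ} [ht : Fact t.Prime] {R : Subgroup M} {y : M} (hy : y ^ t = 1)
    (hn : y ∈ normalizer (R : Set M)) (hC : ∀ g ∈ R, y * g = g * y → g = 1)
    (hcop : Nat.Coprime (Nat.card R) (Nat.card V)) (hfix : fx V (zpowers y) ≤ fx V R) : fx V R = ⊤ := by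
  classical
  have := Fintype.ofFinite R
  let N : V → V := fun v => ∑ i ∈ Finset.range t, y ^ i • v
  have hN : ∀ v, N v ∈ fx V R := by
    intro v
    apply hfix
    have h1 : y • N v = N v := by
      show y • ∑ i ∈ Finset.range t, y ^ i • v = ∑ i ∈ Finset.range t, y ^ i • v
      rw [Finset.smul_sum]
      simp_rw [smul_smul, ← pow_succ']
      have h2 := Finset.sum_range_succ (fun i => y ^ i • v) t
      have h3 := Finset.sum_range_succ' (fun i => y ^ i • v) t
      rw [h2, hy, pow_zero] at h3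
      exact (add_right_cancel h3).symm
    intro g hg
    have h2 : zpowers y ≤ MulAction.stabilizer M (N v) := by
      rw [zpowers_le]
      exact h1
    exact h2 hg
  rw [eq_top_iff]
  intro v _
  have hconj : ∀ i : ℕ, ∀ g ∈ R, y ^ i * g * (y ^ i)⁻¹ ∈ R := fun i g hg =>
    (mem_normalizer_iff.1 (pow_mem hn i) g).1 hg
  have h1 : ∑ g : R, (g : M) • N ((g : M)⁻¹ • v) ∈ fx V R :=
    sum_mem fun g _ => by
      have h := hN ((g : M)⁻¹ • v)
      rw [h g g.2]
      exact h
  have h2 : ∑ g : R, (g : M) • N ((g : M)⁻¹ • v) =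
      ∑ i ∈ Finset.range t, ∑ g : R, ((g : M) * y ^ i * (g : M)⁻¹) • v := by
    rw [Finset.sum_comm]
    refine Finset.sum_congr rfl fun g _ => ?_
    show (g : M) • ∑ i ∈ Finset.range t, y ^ i • ((g : M)⁻¹ • v) = _
    rw [Finset.smul_sum]
    refine Finset.sum_congr rfl fun i _ => ?_
    rw [smul_smul, smul_smul, mul_assoc]
  have h3 : ∀ i ∈ Finset.range t, i ≠ 0 → ∑ g : R, ((g : M) * y ^ i * (g : M)⁻¹) • v ∈ fx V R := by
    intro i hi hi0
    rw [Finset.mem_range] at hi
    have hcopi : Nat.Coprime i t := (Nat.coprime_comm.1 ((Nat.Prime.coprime_iff_not_dvd ht.1).2 fun hd =>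
      hi0 (Nat.eq_zero_of_dvd_of_lt hd hi)))
    obtain ⟨a, b, hab⟩ := Nat.isCoprime_iff_coprime.2 hcopi
    have hyi : ((y ^ i) ^ a : M) = y := by
      have h4 : y ^ ((i : ℤ) * a) = y ^ (1 - b * (t : ℤ)) := by congr 1; rw [← hab]; ring
      rw [zpow_mul, zpow_natCast] at h4
      rw [h4, zpow_sub, zpow_one, mul_comm b, zpow_mul, zpow_natCast, hy, one_zpow, inv_one, mul_one]
    have hCi : ∀ g ∈ R, y ^ i * g = g * y ^ i → g = 1 := by
      intro g hg h
      apply hC g hg
      have h4 := ((show Commute (y ^ i) g from h).zpow_left a).eq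
      rwa [hyi] at h4
    let φ : R → R := fun g => ⟨(g : M) * (y ^ i * (g : M)⁻¹ * (y ^ i)⁻¹),
      R.mul_mem g.2 (hconj i _ (R.inv_mem g.2))⟩
    have hφ : Function.Injective φ := by
      intro g h hgh
      have h4 : (g : M) * (y ^ i * (g : M)⁻¹ * (y ^ i)⁻¹) = (h : M) * (y ^ i * (h : M)⁻¹ * (y ^ i)⁻¹) :=
        congrArg Subtype.val hgh
      have h5 : y ^ i * ((h : M)⁻¹ * g) = (h : M)⁻¹ * g * y ^ i := by
        have h6 : (h : M)⁻¹ * ((g : M) * (y ^ i * (g : M)⁻¹ * (y ^ i)⁻¹)) * y ^ i * g =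
            (h : M)⁻¹ * ((h : M) * (y ^ i * (h : M)⁻¹ * (y ^ i)⁻¹)) * y ^ i * g := by rw [h4]
        calc y ^ i * ((h : M)⁻¹ * g) = (h : M)⁻¹ * ((h : M) * (y ^ i * (h : M)⁻¹ * (y ^ i)⁻¹)) * y ^ i * g := by group
          _ = (h : M)⁻¹ * ((g : M) * (y ^ i * (g : M)⁻¹ * (y ^ i)⁻¹)) * y ^ i * g := h6.symm
          _ = (h : M)⁻¹ * g * y ^ i := by group
      have h7 := hCi _ (R.mul_mem (R.inv_mem h.2) g.2) h5
      exact Subtype.ext (inv_mul_eq_one.1 h7).symm
    have hφb : Function.Bijective φ := Finite.injective_iff_bijective.1 hφ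
    have h8 : ∑ g : R, ((g : M) * y ^ i * (g : M)⁻¹) • v = ∑ g : R, (φ g : M) • (y ^ i • v) := by
      refine Finset.sum_congr rfl fun g _ => ?_
      show _ = ((g : M) * (y ^ i * (g : M)⁻¹ * (y ^ i)⁻¹)) • (y ^ i • v)
      rw [smul_smul]
      congr 1
      group
    rw [h8, hφb.sum_comp (fun r : R => (r : M) • (y ^ i • v))]
    exact sum_mem_fx R _
  have h4 : Nat.card R • v ∈ fx V R := by
    rw [h2, ← Finset.sum_erase_add _ _ (Finset.mem_range.2 ht.1.pos)] at h1
    have h5 : ∑ i ∈ (Finset.range t).erase 0, ∑ g : R, ((g : M) * y ^ i * (g : M)⁻¹) • v ∈ fx V R :=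
      sum_mem fun i hi => h3 i (Finset.mem_of_mem_erase hi) (Finset.ne_of_mem_erase hi)
    have h6 := ((fx V R).add_mem_cancel_left h5).1 h1
    have h7 : ∑ g : R, ((g : M) * y ^ 0 * (g : M)⁻¹) • v = Nat.card R • v := by
      rw [Nat.card_eq_fintype_card, ← Finset.card_univ, ← Finset.sum_const]
      refine Finset.sum_congr rfl fun g _ => ?_
      rw [pow_zero, mul_one, mul_inv_cancel, one_smul]
    rwa [h7] at h6
  obtain ⟨a, b, hab⟩ := Nat.isCoprime_iff_coprime.2 hcop
  have h5 : v = a • (Nat.card R • v) + b • (Nat.card V • v) := by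
    rw [← natCast_zsmul, ← natCast_zsmul, smul_smul, smul_smul, ← add_smul, hab, one_smul]
  rw [h5, card_nsmul_eq_zero', smul_zero, add_zero]
  exact (fx V R).zsmul_mem h4 a

omit [Finite M] in
theorem modEq_cent [Finite M] {t : ℕ} [ht : Fact t.Prime] {y : M} (hy : y ^ t = 1) {H : Subgroup M}
    (hn : y ∈ normalizer (H : Set M)) : Nat.card H ≡ Nat.card ↥(H ⊓ centralizer {y}) [MOD t] := by
  have h1 := RowMod.card_modEq hy (H : Set M) (fun s hs => (mem_normalizer_iff.1 hn s).1 hs)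
  have h2 : Nat.card {s : (H : Set M) // y * s = s * y} = Nat.card ↥(H ⊓ centralizer {y}) := by
    refine Nat.card_congr
      { toFun := fun s => ⟨s.1.1, s.1.2, mem_centralizer_singleton_iff.2 s.2.symm⟩
        invFun := fun s => ⟨⟨s.1, s.2.1⟩, (mem_centralizer_singleton_iff.1 s.2.2).symm⟩
        left_inv := fun s => rfl
        right_inv := fun s => rfl }
  rw [h2] at h1
  exact h1

omit [Finite M] in
theorem normalizer_st [Finite M] {R : Subgroup M} {y : M} (hn : y ∈ normalizer (R : Set M)) {v : V} (hv : y • v = v) :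
    y ∈ normalizer (st R v : Set M) := by
  have key : ∀ z : M, z ∈ normalizer (R : Set M) → z • v = v → ∀ g ∈ st R v, z * g * z⁻¹ ∈ st R v := by
    rintro z hz hzv g ⟨hg, hgv⟩
    refine ⟨(mem_normalizer_iff.1 hz g).1 hg, ?_⟩
    have h1 : g • v = v := hgv
    show (z * g * z⁻¹) • v = v
    have h2 : z⁻¹ • v = v := by rw [inv_smul_eq_iff, hzv]
    rw [mul_smul, mul_smul, h2, h1, hzv]
  rw [mem_normalizer_iff]
  intro g
  refine ⟨key y hn hv g, fun h => ?_⟩
  have h1 := key y⁻¹ (inv_mem hn) (by rw [inv_smul_eq_iff, hv]) _ h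
  have h2 : y⁻¹ * (y * g * y⁻¹) * y⁻¹⁻¹ = g := by group
  rwa [h2] at h1

theorem par_53 : ∀ a < 6, ∀ b < 6, 3 ^ a % 5 = 3 ^ b % 5 → a % 4 = b % 4 := by decide

variable [Finite V]

theorem no81 (hf : Faith M V) {r : ℕ} (hr : r ≤ 8) (hV : Nat.card V = 2 ^ r) {R : Subgroup M} (hR : Nat.card R = 3 ^ 4)
    {y : M} (hy : orderOf y = 5) (hn : y ∈ normalizer (R : Set M)) (hC : ∀ g ∈ R, y * g = g * y → g = 1) : False := by
  have h5 : Fact (Nat.Prime 5) := ⟨by norm_num⟩
  have h3 : Fact (Nat.Prime 3) := ⟨by norm_num⟩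
  have hy5 : y ^ 5 = 1 := by rw [← hy]; exact pow_orderOf_eq_one y
  have hY : IsPGroup 5 (zpowers y) := IsPGroup.of_card (n := 1) (by rw [Nat.card_zpowers, hy, pow_one])
  have hRp : IsPGroup 3 R := IsPGroup.of_card hR
  -- invariant subgroups
  have hinv : ∀ H ≤ R, y ∈ normalizer (H : Set M) → H = ⊥ ∨ H = R := by
    intro H hH hHn
    obtain ⟨m, hm4, hm⟩ := (Nat.dvd_prime_pow Nat.prime_three).1 (hR ▸ card_dvd_of_le hH)
    have h1 := modEq_cent hy5 hHn
    have h2 : H ⊓ centralizer {y} = ⊥ := by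
      rw [eq_bot_iff]
      rintro g ⟨hg, hg'⟩
      exact mem_bot.2 (hC g (hH hg) (mem_centralizer_singleton_iff.1 hg').symm)
    rw [h2, Subgroup.card_bot, hm] at h1
    have h4 := par_53 m (by omega) 0 (by norm_num) h1
    have h6 : m = 0 ∨ m = 4 := by omega
    rcases h6 with rfl | rfl
    · left
      rwa [pow_zero, Subgroup.card_eq_one] at hm
    · right
      exact eq_of_le_of_card_ge hH (by rw [hm, hR])
  -- a vector
  have hcop : Nat.Coprime (Nat.card R) (Nat.card V) := by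
    rw [hR, hV]
    exact Nat.Coprime.pow _ _ (by norm_num)
  have hRne : R ≠ ⊥ := by
    rintro rfl
    rw [Subgroup.card_bot] at hR
    norm_num at hR
  obtain ⟨v, hv, hvR⟩ : ∃ v ∈ fx V (zpowers y), v ∉ fx V R := by
    by_contra hcon
    push Not at hcon
    exact hRne (eq_bot_of_fx hf (frob hy5 hn hC hcop hcon))
  have hreg : ∀ w : V, w ∈ fx V (zpowers y) → w ∉ fx V R → st R w = ⊥ := by
    intro w hw hwR
    rcases hinv (st R w) (st_le R w) (normalizer_st hn (hw y (mem_zpowers y))) with h | h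
    · exact h
    · exfalso
      apply hwR
      rw [← h]
      exact mem_fx_st R w
  obtain ⟨k, hkr, hk⟩ := exists_pow_card Nat.prime_two hV (fx V (zpowers y))
  obtain ⟨b, hbr, hb⟩ := exists_pow_card Nat.prime_two hV (fx V R ⊓ fx V (zpowers y))
  have hbk : b < k := lt_of_card_lt hb hk inf_le_right hv (fun h => hvR h.1)
  have hkr4 : r % 4 = k % 4 := by
    refine dim_five rfl hY (U := (⊤ : AddSubgroup V)) (fun _ _ _ _ => AddSubgroup.mem_top _) hr hkr
      (by rw [AddSubgroup.card_top, hV]) ?_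
    rw [top_inf_eq, hk]
  -- the injection
  let S : Set V := (fx V (zpowers y) : Set V) \ (fx V R ⊓ fx V (zpowers y) : AddSubgroup V)
  have hS : Nat.card S = 2 ^ k - 2 ^ b := by
    rw [Nat.card_coe_set_eq, Set.ncard_sdiff (fun x hx => hx.2) (Set.toFinite _), ← hk, ← hb]
    rfl
  have hinj : Function.Injective (fun x : R × S => (x.1 : M) • (x.2 : V)) := by
    rintro ⟨⟨g, hg⟩, ⟨w, hw, hw'⟩⟩ ⟨⟨g', hg'⟩, ⟨w', hw1, hw1'⟩⟩ h
    have h1 : g • w = g' • w' := h
    have hyw : y • w = w := hw y (mem_zpowers y)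
    have hyw' : y • w' = w' := hw1 y (mem_zpowers y)
    have h2 : w' = (g'⁻¹ * g) • w := by rw [mul_smul, h1, inv_smul_smul]
    set d := g'⁻¹ * g with hd
    have hdR : d ∈ R := R.mul_mem (R.inv_mem hg') hg
    have h3 : st R w = ⊥ := hreg w hw (fun hh => hw' ⟨hh, hw⟩)
    have h4 : d⁻¹ * (y * d * y⁻¹) ∈ st R w := by
      refine ⟨R.mul_mem (R.inv_mem hdR) ((mem_normalizer_iff.1 hn d).1 hdR), ?_⟩
      show (d⁻¹ * (y * d * y⁻¹)) • w = w
      have h5 : y⁻¹ • w = w := by rw [inv_smul_eq_iff, hyw]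
      rw [mul_smul, mul_smul, mul_smul, h5, ← h2, hyw', h2, inv_smul_smul]
    rw [h3, mem_bot, inv_mul_eq_one] at h4
    have h6 : d = 1 := hC d hdR (by
      rw [eq_mul_inv_iff_mul_eq] at h4
      exact h4.symm)
    have h7 : w' = w := by rw [h2, h6, one_smul]
    have h8 : g' = g := by rwa [hd, inv_mul_eq_one] at h6
    subst h7
    subst h8
    rfl
  have hle := Nat.card_le_card_of_injective _ hinj
  rw [Nat.card_prod, hR, hS, hV] at hle
  have h6 : 2 ^ b ≤ 2 ^ (k - 1) := Nat.pow_le_pow_right (by norm_num) (by omega)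
  have h7 : 2 ^ k = 2 * 2 ^ (k - 1) := by
    rw [← pow_succ']; congr 1; omega
  have h8 : 2 ^ r ≤ 2 ^ (k - 1) * 32 := by
    rw [show (32 : ℕ) = 2 ^ 5 by norm_num, ← pow_add]
    exact Nat.pow_le_pow_right (by norm_num) (by omega)
  have h9 : 0 < 2 ^ (k - 1) := by positivity
  omega

theorem not_27' : ∀ c < 9, c ≠ 0 → c % 2 = 0 → ∀ j < 9, ¬ 27 ∣ 2 ^ (j + c) - 2 ^ j := by decide

/-- **An element of order 5 centralises the 3-subgroups of order at most `3 ^ 5` it normalises.** -/
theorem no_act (hf : Faith M V) {r : ℕ} (hr : r ≤ 8) (hV : Nat.card V = 2 ^ r) {R : Subgroup M} {k : ℕ} (hk : k ≤ 5)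
    (hR : Nat.card R = 3 ^ k) {y : M} (hy : orderOf y = 5) (hn : y ∈ normalizer (R : Set M)) :
    ∀ g ∈ R, y * g = g * y := by
  have h5 : Fact (Nat.Prime 5) := ⟨by norm_num⟩
  have h3 : Fact (Nat.Prime 3) := ⟨by norm_num⟩
  have hy5 : y ^ 5 = 1 := by rw [← hy]; exact pow_orderOf_eq_one y
  have hRp : IsPGroup 3 R := IsPGroup.of_card hR
  set C : Subgroup M := R ⊓ centralizer {y} with hC
  obtain ⟨i, hik, hi⟩ := (Nat.dvd_prime_pow Nat.prime_three).1 (hR ▸ card_dvd_of_le (inf_le_left : C ≤ R))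
  by_cases hCR : C = R
  · intro g hg
    rw [← hCR] at hg
    exact (mem_centralizer_singleton_iff.1 hg.2).symm
  exfalso
  have hik' : i < k := by
    refine lt_of_le_of_ne hik fun h => hCR (eq_of_le_of_card_ge inf_le_left ?_)
    rw [hR, hi, h]
  have h1 := modEq_cent hy5 hn
  rw [← hC, hR, hi] at h1
  have h2 := par_53 k (by omega) i (by omega) h1
  have hcases : (k = 4 ∧ i = 0) ∨ (k = 5 ∧ i = 1) := by omega
  rcases hcases with ⟨rfl, rfl⟩ | ⟨rfl, rfl⟩
  · rw [pow_zero, Subgroup.card_eq_one] at hi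
    refine no81 hf hr hV hR hy hn fun g hg h => ?_
    have : g ∈ C := ⟨hg, mem_centralizer_singleton_iff.2 h.symm⟩
    rw [hC, hi] at this
    exact mem_bot.1 this
  -- the invariant subgroups
  have hinv : ∀ H ≤ R, y ∈ normalizer (H : Set M) → Nat.card H = 1 ∨ Nat.card H = 3 ∨ Nat.card H = 243 := by
    intro H hH hHn
    obtain ⟨h, hh5, hh⟩ := (Nat.dvd_prime_pow Nat.prime_three).1 (hR ▸ card_dvd_of_le hH)
    have hle : H ⊓ centralizer {y} ≤ C := inf_le_inf_right _ hH
    obtain ⟨e, he1, he⟩ := (Nat.dvd_prime_pow Nat.prime_three).1 (hi ▸ card_dvd_of_le hle)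
    have h4 := modEq_cent hy5 hHn
    rw [hh, he] at h4
    have h6 := par_53 h (by omega) e (by omega) h4
    by_cases hh4 : h = 4
    · exfalso
      subst hh4
      have he0 : e = 0 := by omega
      rw [he0, pow_zero, Subgroup.card_eq_one] at he
      refine no81 hf hr hV hh hy hHn fun g hg hgc => ?_
      have : g ∈ H ⊓ centralizer {y} := ⟨hg, mem_centralizer_singleton_iff.2 hgc.symm⟩
      rw [he] at this
      exact mem_bot.1 this
    · have h7 : h = 0 ∨ h = 1 ∨ h = 5 := by omega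
      rcases h7 with rfl | rfl | rfl
      · left; rw [hh, pow_zero]
      · right; left; rw [hh, pow_one]
      · right; right; rw [hh]; norm_num
  -- the automorphism
  let σ : MulAut R := R.normalizerMonoidHom ⟨y, hn⟩
  have hσ : ∀ g : R, (σ g : M) = y * g * y⁻¹ := fun g => rfl
  have hinvσ : ∀ H : Subgroup R, (∀ h ∈ H, σ h ∈ H) → Nat.card H = 1 ∨ Nat.card H = 3 ∨ Nat.card H = 243 := by
    intro H hH
    have h4 := hinv (H.map R.subtype) (map_subtype_le H) (by
      apply mem_normalizer_fintype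
      rintro _ ⟨h, hh, rfl⟩
      exact ⟨σ h, hH h hh, hσ h⟩)
    rwa [← Nat.card_congr (H.equivMapOfInjective _ R.subtype_injective).toEquiv] at h4
  have hfix : Nat.card {g : R // σ g = g} = 3 := by
    rw [← pow_one 3, ← hi]
    refine Nat.card_congr
      { toFun := fun g => ⟨g.1.1, g.1.2, mem_centralizer_singleton_iff.2 ?_⟩
        invFun := fun g => ⟨⟨g.1, g.2.1⟩, Subtype.ext ?_⟩
        left_inv := fun g => rfl
        right_inv := fun g => rfl }
    · have h4 : y * (g.1 : M) * y⁻¹ = g.1 := (hσ g.1).symm.trans (congrArg Subtype.val g.2)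
      exact (mul_inv_eq_iff_eq_mul.1 h4).symm
    · rw [hσ]
      exact mul_inv_eq_iff_eq_mul.2 (mem_centralizer_singleton_iff.1 g.2.2).symm
  have hZ := abs_center hR σ hinvσ hfix
  set Z : Subgroup M := (center R).map R.subtype with hZdef
  have hZcard : Nat.card Z = 3 := by
    rw [← hZ]
    exact Nat.card_congr ((center R).equivMapOfInjective _ R.subtype_injective).toEquiv.symm
  have hZp : IsPGroup 3 Z := IsPGroup.of_card (n := 1) (by rw [hZcard, pow_one])
  have hZn : ∀ g ∈ R, g ∈ normalizer (Z : Set M) := by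
    intro g hg
    apply mem_normalizer_fintype
    rintro _ ⟨z, hz, rfl⟩
    refine ⟨z, hz, ?_⟩
    have h4 := congrArg Subtype.val (mem_center_iff.1 hz ⟨g, hg⟩)
    show (z : M) = g * z * g⁻¹
    exact (mul_inv_eq_iff_eq_mul.2 h4).symm
  obtain ⟨m, hmr, hm⟩ := exists_pow_card Nat.prime_two hV (fx V Z)
  have hmne : m ≠ r := by
    rintro rfl
    have h4 : fx V Z = ⊤ := AddSubgroup.eq_top_of_card_eq _ (by rw [hm, hV])
    have h6 := eq_bot_of_fx hf h4
    rw [h6, Subgroup.card_bot] at hZcard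
    norm_num at hZcard
  have hm2 : r % 2 = m % 2 := by
    refine dim_three hZp (U := (⊤ : AddSubgroup V)) (fun _ _ _ _ => AddSubgroup.mem_top _) hr hmr
      (by rw [AddSubgroup.card_top, hV]) ?_
    rw [top_inf_eq, hm]
  obtain ⟨v, -, hv, hcard⟩ := exists_st (k := 2) hRp (U' := fx V Z) (U := ⊤)
    (fun g hg v hv => smul_mem_fx (hZn g hg) hv) (fun _ _ _ _ => AddSubgroup.mem_top _) le_top (by
      rw [AddSubgroup.card_top, hV, hm, show r = m + (r - m) by omega]
      exact not_27' _ (by omega) (by omega) (by omega) m (by omega))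
  -- the stabiliser
  set A : Subgroup R := (st R v).subgroupOf R with hA
  have hAcard : Nat.card A = Nat.card (st R v) :=
    Nat.card_congr (subgroupOfEquivOfLe (st_le R v)).toEquiv
  have hAZ : A ⊓ center R = ⊥ := by
    have h4 : Nat.card ↥(A ⊓ center R) ∣ 3 := hZ ▸ card_dvd_of_le inf_le_right
    rcases (Nat.dvd_prime Nat.prime_three).1 h4 with h6 | h6
    · rwa [Subgroup.card_eq_one] at h6
    · exfalso
      have h7 : A ⊓ center R = center R := eq_of_le_of_card_ge inf_le_right (by rw [h6, hZ])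
      apply hv
      rintro _ ⟨z, hz, rfl⟩
      rw [← h7] at hz
      exact (mem_subgroupOf.1 hz.1).2
  have h8 := abs_A hR σ hinvσ hfix A hAZ
  rw [hAcard] at h8
  rw [hR] at hcard
  omega

end Cfsg.Agent.H566.PairW
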