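import Cfsg.Agent.H566.PairFrob
import Cfsg.Agent.Dichotomy.Constraint
import Cfsg.Agent.Lib.HallHigman

/-!
# Subgroups of odd order of `GL_r(2)`, `r ≤ 8` (helper566, for S4350)

* `normal_five` : a solvable group of order `3 ^ a * 5 ^ b`, `a ≤ 5`, acting faithfully on `V`, `|V| ≤ 2 ^ 8`, has a
  normal Sylow 5-subgroup;
* `no_five`, `no_seven` : no such group has `(r ≤ 7, a ≥ 4)` or `(r = 8, a ≥ 5)` and order divisible by 5 or 7.
-/

set_option autoImplicit false

namespace Cfsg.Agent.H566.PairW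

open Subgroup

variable {M : Type*} [Group M] [Finite M] {V : Type*} [AddCommGroup V] [DistribMulAction M V] [Finite V]

theorem not_25 : ∀ c < 9, c ≠ 0 → c % 4 = 0 → ∀ j < 9, ¬ 25 ∣ 2 ^ (j + c) - 2 ^ j := by decide

theorem no25 (hf : Faith M V) {r : ℕ} (hr : r ≤ 8) (hV : Nat.card V = 2 ^ r) (y : M) : orderOf y ≠ 25 := by
  intro hy
  have h5 : Fact (Nat.Prime 5) := ⟨by norm_num⟩
  have hP : IsPGroup 5 (zpowers y) := IsPGroup.of_card (n := 2) (by rw [Nat.card_zpowers, hy]; norm_num)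
  have hy5 : orderOf (y ^ 5) = 5 := by
    rw [orderOf_pow_of_dvd (by norm_num) (by rw [hy]; norm_num), hy]
  have hY : IsPGroup 5 (zpowers (y ^ 5)) := IsPGroup.of_card (n := 1) (by rw [Nat.card_zpowers, hy5, pow_one])
  obtain ⟨k, hkr, hk⟩ := exists_pow_card Nat.prime_two hV (fx V (zpowers (y ^ 5)))
  have hkne : k ≠ r := by
    rintro rfl
    have h1 : fx V (zpowers (y ^ 5)) = ⊤ := AddSubgroup.eq_top_of_card_eq _ (by rw [hk, hV])
    have h2 := eq_bot_of_fx hf h1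
    rw [zpowers_eq_bot] at h2
    rw [h2, orderOf_one] at hy5
    norm_num at hy5
  have hkr4 : r % 4 = k % 4 := by
    refine dim_five rfl hY (U := (⊤ : AddSubgroup V)) (fun _ _ _ _ => AddSubgroup.mem_top _) hr hkr
      (by rw [AddSubgroup.card_top, hV]) ?_
    rw [top_inf_eq, hk]
  obtain ⟨v, -, hv, hcard⟩ := exists_st (k := 1) hP (U' := fx V (zpowers (y ^ 5))) (U := ⊤)
    (fun g hg v hv => smul_fx_of_comm (fun x hx => by
      obtain ⟨m, rfl⟩ := mem_zpowers_iff.1 hx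
      obtain ⟨n, rfl⟩ := mem_zpowers_iff.1 hg
      exact (((Commute.refl y).pow_right 5).zpow_left n |>.zpow_right m).eq) hv)
    (fun _ _ _ _ => AddSubgroup.mem_top _) le_top (by
      rw [AddSubgroup.card_top, hV, hk, show (1 + 1 : ℕ) = 2 from rfl, show r = k + (r - k) by omega]
      exact not_25 _ (by omega) (by omega) (by omega) k (by omega))
  rw [Nat.card_zpowers, hy] at hcard
  have h1 : st (zpowers y) v ≠ ⊥ := by
    intro h
    rw [h, Subgroup.card_bot] at hcard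
    norm_num at hcard
  -- the subgroup of order 5
  have h2 : Nat.card (st (zpowers y) v) ∣ 5 ^ 2 := by
    have := card_dvd_of_le (st_le (zpowers y) v)
    rwa [Nat.card_zpowers, hy] at this
  obtain ⟨m, hm2, hm⟩ := (Nat.dvd_prime_pow h5.1).1 h2
  have hm0 : m ≠ 0 := by
    rintro rfl
    rw [pow_zero, Subgroup.card_eq_one] at hm
    exact h1 hm
  obtain ⟨z, hz⟩ := exists_prime_orderOf_dvd_card' (G := st (zpowers y) v) 5 (hm ▸ dvd_pow_self 5 hm0)
  have hz5 : orderOf (z : M) = 5 := by rw [← hz, Subgroup.orderOf_coe]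
  obtain ⟨n, hn⟩ := mem_zpowers_iff.1 z.2.1
  have h3 : (z : M) ∈ zpowers (y ^ 5) := by
    have h4 : y ^ (n * 5) = 1 := by
      rw [zpow_mul, hn]
      have := pow_orderOf_eq_one (z : M)
      rw [hz5] at this
      exact_mod_cast this
    have h5' : (25 : ℤ) ∣ n * 5 := by
      have := orderOf_dvd_iff_zpow_eq_one.2 h4
      rwa [hy] at this
    obtain ⟨c, hc⟩ := h5'
    have h6 : n = 5 * c := by omega
    rw [← hn, h6, zpow_mul]
    exact ⟨c, by norm_cast⟩
  have h4 : zpowers (z : M) = zpowers (y ^ 5) :=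
    eq_of_le_of_card_ge (by rwa [zpowers_le]) (by rw [Nat.card_zpowers, Nat.card_zpowers, hz5, hy5])
  apply hv
  rw [← h4]
  have h6 : zpowers (z : M) ≤ MulAction.stabilizer M v := by
    rw [zpowers_le]
    exact z.2.2
  exact fun g hg => h6 hg

/-- `5`-elements have order at most 5 -/
theorem pow_five (hf : Faith M V) {r : ℕ} (hr : r ≤ 8) (hV : Nat.card V = 2 ^ r) {y : M} {m : ℕ} (hy : y ^ 5 ^ m = 1)
    (hy1 : y ≠ 1) : orderOf y = 5 := by
  obtain ⟨i, -, hi⟩ := (Nat.dvd_prime_pow (by norm_num : Nat.Prime 5)).1 (orderOf_dvd_of_pow_eq_one hy)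
  have hi0 : i ≠ 0 := by
    rintro rfl
    rw [pow_zero, orderOf_eq_one_iff] at hi
    exact hy1 hi
  by_cases hi1 : i = 1
  · rw [hi, hi1, pow_one]
  · exfalso
    refine no25 hf hr hV (y ^ 5 ^ (i - 2)) ?_
    have h1 : 5 ^ i = 5 ^ (i - 2) * 25 := by
      rw [show (25 : ℕ) = 5 ^ 2 by norm_num, ← pow_add]; congr 1; omega
    rw [orderOf_pow_of_dvd (by positivity) (by rw [hi, h1]; exact Dvd.intro _ rfl), hi, h1]
    exact Nat.mul_div_cancel_left _ (by positivity)

/-- **normal Sylow 5-subgroup** -/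
theorem normal_five (hf : Faith M V) {r : ℕ} (hr : r ≤ 8) (hV : Nat.card V = 2 ^ r) [Group.IsSolvable M] {a b : ℕ}
    (ha : a ≤ 5) (hM : Nat.card M = 3 ^ a * 5 ^ b) : ∃ T : Subgroup M, T.Normal ∧ Nat.card T = 5 ^ b := by
  have h5 : Fact (Nat.Prime 5) := ⟨by norm_num⟩
  have h3 : Fact (Nat.Prime 3) := ⟨by norm_num⟩
  obtain ⟨S⟩ : Nonempty (Sylow 3 M) := inferInstance
  set O : Subgroup M := pPrimeCore 3 M with hO
  have hOn : O.Normal := Lib.HallHigman.pPrimeCore_normal 3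
  have hOc : (Nat.card O).Coprime 3 := Lib.HallHigman.pPrimeCore_coprime 3
  have hOd : Nat.card O ∣ 3 ^ a * 5 ^ b := hM ▸ card_subgroup_dvd_card O
  have hO5 : Nat.card O ∣ 5 ^ b := (hOc.pow_right a).dvd_of_dvd_mul_left hOd
  set R : Subgroup M := (S : Subgroup M) ⊓ pPrimePCore 3 M with hR
  have hcon : Subgroup.centralizer (pCore 3 (M ⧸ pPrimeCore 3 M) : Set (M ⧸ pPrimeCore 3 M)) ≤
      pCore 3 (M ⧸ pPrimeCore 3 M) :=
    Lib.HallHigman.centralizer_pCore_le_of_solvable 3 (Lib.HallHigman.pPrimeCore_quotient_eq_bot 3 _ rfl)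
  -- 5-elements of the normaliser of `R`
  have key : ∀ n ∈ normalizer (R : Set M), ∀ m : ℕ, n ^ 5 ^ m = 1 → n ∈ O := by
    intro n hn m hnm
    by_cases hn1 : n = 1
    · rw [hn1]; exact one_mem _
    have hn5 := pow_five hf hr hV hnm hn1
    have hRp : IsPGroup 3 R := S.2.to_le inf_le_left
    obtain ⟨k, hk⟩ := IsPGroup.iff_card.1 hRp
    have hk5 : k ≤ 5 := by
      have h1 : 3 ^ k ∣ 3 ^ a * 5 ^ b := by rw [← hk, ← hM]; exact card_subgroup_dvd_card R
      have h2 : 3 ^ k ∣ 3 ^ a := (Nat.Coprime.pow k b (by norm_num : Nat.Coprime 3 5)).dvd_of_dvd_mul_right h1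
      have := (Nat.pow_dvd_pow_iff_le_right (by norm_num)).1 h2
      omega
    have h1 := no_act hf hr hV hk5 hk hn5 hn
    have h2 : n ∈ pPrimePCore 3 M := Dichotomy.Constraint.mem_of_commute hcon S (fun q hq => h1 q hq)
    have h4 : zpowers n ≤ pPrimeCore 3 M := by
      refine Dichotomy.Constraint.le_pPrimeCore_of_le (by rwa [zpowers_le]) ?_
      rw [Nat.card_zpowers, hn5]
      norm_num
    exact h4 (mem_zpowers n)
  -- all 5-elements
  have key2 : ∀ x : M, ∀ m : ℕ, x ^ 5 ^ m = 1 → x ∈ O := by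
    intro x m hx
    obtain ⟨o, ho, n, hn, rfl⟩ := Dichotomy.Constraint.frattini S x
    have h1 : n ^ 3 ^ a ∈ O := by
      refine key _ (pow_mem hn _) b ?_
      rw [← pow_mul, ← hM]
      exact pow_card_eq_one'
    have h2 : (QuotientGroup.mk' O n) ^ 3 ^ a = 1 := by
      rw [← map_pow, QuotientGroup.mk'_apply, QuotientGroup.eq_one_iff]
      exact h1
    have h4 : QuotientGroup.mk' O (o * n) = QuotientGroup.mk' O n := by
      rw [map_mul, (QuotientGroup.eq_one_iff (N := O) o).2 ho |> fun h => (show QuotientGroup.mk' O o = 1 from h),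
        one_mul]
    have h6 : (QuotientGroup.mk' O n) ^ 5 ^ m = 1 := by
      rw [← h4, ← map_pow, hx, map_one]
    have h7 : QuotientGroup.mk' O n = 1 := by
      have h8 : orderOf (QuotientGroup.mk' O n) ∣ Nat.gcd (3 ^ a) (5 ^ m) :=
        Nat.dvd_gcd (orderOf_dvd_of_pow_eq_one h2) (orderOf_dvd_of_pow_eq_one h6)
      rw [Nat.Coprime.gcd_eq_one (Nat.Coprime.pow a m (by norm_num : Nat.Coprime 3 5)), Nat.dvd_one,
        orderOf_eq_one_iff] at h8
      exact h8
    rw [← (QuotientGroup.eq_one_iff (N := O))]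
    exact h4.trans h7
  refine ⟨O, hOn, Nat.dvd_antisymm hO5 ?_⟩
  obtain ⟨T⟩ : Nonempty (Sylow 5 M) := inferInstance
  have hT : (T : Subgroup M) ≤ O := by
    intro x hx
    obtain ⟨m, hm⟩ := T.2 ⟨x, hx⟩
    exact key2 x m (by simpa using congrArg Subtype.val hm)
  have h1 : 5 ^ b ∣ Nat.card (T : Subgroup M) := T.pow_dvd_card_of_pow_dvd_card (by rw [hM]; exact Dvd.intro_left _ rfl)
  exact h1.trans (card_dvd_of_le hT)

omit [Finite V] [DistribMulAction M V] [AddCommGroup V] in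
/-- a 3-group acting on a normal subgroup with `|T| - 1` not divisible by 9 -/
theorem exists_comm_sub {P T : Subgroup M} (hP : IsPGroup 3 P) (hT : T.Normal) (h9 : ¬ 9 ∣ Nat.card T - 1) :
    ∃ x ∈ T, x ≠ 1 ∧ ∃ P' ≤ P, (∀ g ∈ P', x * g = g * x) ∧ Nat.card P ≤ 3 * Nat.card P' := by
  have h3 : Fact (Nat.Prime 3) := ⟨by norm_num⟩
  let act : MulAction P {x : M // x ∈ T ∧ x ≠ 1} :=
    { smul := fun g x => ⟨(g : M) * x * (g : M)⁻¹, hT.conj_mem _ x.2.1 _, fun h => x.2.2 (conj_eq_one_iff.1 h)⟩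
      one_smul := fun x => Subtype.ext (by
        show ((1 : P) : M) * x * ((1 : P) : M)⁻¹ = x
        simp)
      mul_smul := fun g h x => Subtype.ext (by
        show ((g * h : P) : M) * x * ((g * h : P) : M)⁻¹ = (g : M) * ((h : M) * x * (h : M)⁻¹) * (g : M)⁻¹
        simp [mul_assoc]) }
  have hsm : ∀ (g : P) (x : {x : M // x ∈ T ∧ x ≠ 1}), ((g • x : {x : M // x ∈ T ∧ x ≠ 1}) : M) =
      (g : M) * x * (g : M)⁻¹ := fun _ _ => rfl
  have hcard : Nat.card {x : M // x ∈ T ∧ x ≠ 1} = Nat.card T - 1 := by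
    have h1 : Nat.card {x : M // x ∈ T ∧ x ≠ 1} = Nat.card ↥((T : Set M) \ {1}) := by
      refine Nat.card_congr (Equiv.subtypeEquivRight fun x => ?_)
      rfl
    rw [h1, Nat.card_coe_set_eq, Set.ncard_sdiff_singleton_of_mem T.one_mem]
    rfl
  obtain ⟨x, hx⟩ := exists_orbit (X := {x : M // x ∈ T ∧ x ≠ 1}) hP (k := 1) (by rw [hcard]; exact h9)
  refine ⟨x, x.2.1, x.2.2, (MulAction.stabilizer P x).map P.subtype, map_subtype_le _, ?_, ?_⟩
  · rintro _ ⟨g, hg, rfl⟩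
    have h1 : (g : M) * x * (g : M)⁻¹ = x := by
      rw [← hsm]
      exact congrArg Subtype.val hg
    exact (mul_inv_eq_iff_eq_mul.1 h1).symm
  · rw [← Nat.card_congr ((MulAction.stabilizer P x).equivMapOfInjective _ P.subtype_injective).toEquiv]
    rwa [pow_one] at hx

/-- **no solvable subgroup of order `3 ^ a * 5 ^ b`** -/
theorem no_five (hf : Faith M V) {r : ℕ} (hV : Nat.card V = 2 ^ r) [Group.IsSolvable M] {a b : ℕ}
    (hra : (r ≤ 7 ∧ a = 4) ∨ (r = 8 ∧ a = 5)) (hM : Nat.card M = 3 ^ a * 5 ^ b) (hb : b ≠ 0) (hb2 : b ≤ 2) : False := by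
  have h3 : Fact (Nat.Prime 3) := ⟨by norm_num⟩
  have hr : r ≤ 8 := by omega
  obtain ⟨T, hTn, hT⟩ := normal_five hf hr hV (by omega : a ≤ 5) hM
  obtain ⟨S⟩ : Nonempty (Sylow 3 M) := inferInstance
  have hS : 3 ^ a ≤ Nat.card (S : Subgroup M) :=
    Nat.le_of_dvd Nat.card_pos (S.pow_dvd_card_of_pow_dvd_card (by rw [hM]; exact Dvd.intro _ rfl))
  obtain ⟨x, hxT, hx1, P', hP', hc, hcard⟩ := exists_comm_sub (P := (S : Subgroup M)) (T := T) S.2 hTn (by
    rw [hT]
    have h1 : b = 1 ∨ b = 2 := by omega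
    rcases h1 with rfl | rfl <;> norm_num)
  have hx5 : orderOf x = 5 := by
    refine pow_five hf hr hV (m := b) ?_ hx1
    rw [← hT]
    exact Lib.HallHigman.pow_card_of_mem hxT
  obtain ⟨h1, h2⟩ := card_le_five hf hr hV hx5 (P := P') (S.2.to_le hP') hc
  rcases hra with ⟨hr7, rfl⟩ | ⟨hr8, rfl⟩
  · have h4 := h2 hr7
    norm_num at hS
    omega
  · norm_num at hS
    omega

/-- **no subgroup of order `3 ^ a * 7`** -/
theorem no_seven (hf : Faith M V) {r : ℕ} (hV : Nat.card V = 2 ^ r) {a : ℕ}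
    (hra : (r ≤ 7 ∧ a = 4) ∨ (r = 8 ∧ a = 5)) (hM : Nat.card M = 3 ^ a * 7) : False := by
  have h3 : Fact (Nat.Prime 3) := ⟨by norm_num⟩
  have h7 : Fact (Nat.Prime 7) := ⟨by norm_num⟩
  have hr : r ≤ 8 := by omega
  obtain ⟨T⟩ : Nonempty (Sylow 7 M) := inferInstance
  have hT : Nat.card (T : Subgroup M) = 7 := by
    rw [T.card_eq_multiplicity, hM]
    have h1 : (3 ^ a * 7).factorization 7 = 1 := by
      rw [Nat.factorization_mul (by positivity) (by norm_num), Nat.Prime.factorization_pow (by norm_num)]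
      simp [Nat.Prime.factorization (show Nat.Prime 7 by norm_num)]
    rw [h1, pow_one]
  have hn1 : Nat.card (Sylow 7 M) = 1 := by
    have h1 : Nat.card (Sylow 7 M) ≡ 1 [MOD 7] := card_sylow_modEq_one 7 M
    have h2 : Nat.card (Sylow 7 M) ∣ 3 ^ a := by
      have h4 := T.card_dvd_index
      have h5 := (T : Subgroup M).card_mul_index
      rw [hT, hM, mul_comm] at h5
      rwa [Nat.eq_of_mul_eq_mul_right (by norm_num) h5] at h4
    obtain ⟨k, hk, hk'⟩ := (Nat.dvd_prime_pow Nat.prime_three).1 h2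
    rw [hk'] at h1 ⊢
    have hk5 : k < 6 := by omega
    have key : ∀ k < 6, 3 ^ k % 7 = 1 % 7 → k = 0 := by decide
    rw [key k hk5 h1, pow_zero]
  have hTn : (T : Subgroup M).Normal := by
    have : Subsingleton (Sylow 7 M) := (Nat.card_eq_one_iff_unique.1 hn1).1
    exact T.normal_of_subsingleton
  obtain ⟨S⟩ : Nonempty (Sylow 3 M) := inferInstance
  have hS : 3 ^ a ≤ Nat.card (S : Subgroup M) :=
    Nat.le_of_dvd Nat.card_pos (S.pow_dvd_card_of_pow_dvd_card (by rw [hM]; exact Dvd.intro _ rfl))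
  obtain ⟨x, hxT, hx1, P', hP', hc, hcard⟩ := exists_comm_sub (P := (S : Subgroup M)) (T := T) S.2 hTn (by
    rw [hT]; norm_num)
  have hx7 : orderOf x = 7 := by
    refine orderOf_eq_prime ?_ hx1
    rw [← hT]
    exact Lib.HallHigman.pow_card_of_mem hxT
  obtain ⟨h1, h2⟩ := card_le_seven hf hr hV hx7 (P := P') (S.2.to_le hP') hc
  rcases hra with ⟨hr7, rfl⟩ | ⟨hr8, rfl⟩
  · have h4 := h2 hr7
    norm_num at hS
    omega
  · norm_num at hS
    omega

end Cfsg.Agent.H566.PairW
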