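import Cfsg.Agent.H566.PairMain

/-!
# No group of order `5 ^ a * 7` in `GL_r(3)`, `r ≤ 8` (helper566, for S4350)
-/

set_option autoImplicit false

namespace Cfsg.Agent.H566.PairW

open Subgroup

variable {M : Type*} [Group M] [Finite M] {V : Type*} [AddCommGroup V] [DistribMulAction M V] [Finite V]

theorem par_37 : ∀ a < 9, ∀ b < 9, 3 ^ a % 7 = 3 ^ b % 7 → a % 6 = b % 6 := by decide

theorem par_35 : ∀ a < 9, ∀ b < 9, 3 ^ a % 5 = 3 ^ b % 5 → a % 4 = b % 4 := by decide

omit [Finite M] in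
/-- there is no element of order 35 -/
theorem no_35 (hf : Faith M V) {r : ℕ} (hr : r ≤ 8) (hV : Nat.card V = 3 ^ r) {x z : M} (hx : orderOf x = 7)
    (hz : orderOf z = 5) (hc : x * z = z * x) : False := by
  have h5 : Fact (Nat.Prime 5) := ⟨by norm_num⟩
  have h7 : Fact (Nat.Prime 7) := ⟨by norm_num⟩
  have hX : IsPGroup 7 (zpowers x) := IsPGroup.of_card (n := 1) (by rw [Nat.card_zpowers, hx, pow_one])
  have hZ : IsPGroup 5 (zpowers z) := IsPGroup.of_card (n := 1) (by rw [Nat.card_zpowers, hz, pow_one])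
  have hcc : ∀ g ∈ zpowers x, ∀ h ∈ zpowers z, g * h = h * g := by
    intro g hg h hh
    exact (comm_zpowers (comm_zpowers hc hg).symm hh).symm
  obtain ⟨k, hkr, hk⟩ := exists_pow_card Nat.prime_three hV (fx V (zpowers x))
  obtain ⟨m, hmr, hm⟩ := exists_pow_card Nat.prime_three hV (fx V (zpowers z))
  obtain ⟨i, hir, hi⟩ := exists_pow_card Nat.prime_three hV (fx V (zpowers x) ⊓ fx V (zpowers z))
  have ne : ∀ (y : M) (p : ℕ), p ≠ 1 → orderOf y = p → ∀ j, Nat.card (fx V (zpowers y)) = 3 ^ j → j ≠ r := by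
    rintro y p hp hy j hj rfl
    have h1 : fx V (zpowers y) = ⊤ := AddSubgroup.eq_top_of_card_eq _ (by rw [hj, hV])
    have h2 := eq_bot_of_fx hf h1
    rw [zpowers_eq_bot] at h2
    rw [h2, orderOf_one] at hy
    exact hp hy.symm
  have hkne := ne x 7 (by norm_num) hx k hk
  have hmne := ne z 5 (by norm_num) hz m hm
  have le : ∀ {U' U : AddSubgroup V} {i j : ℕ}, Nat.card U' = 3 ^ i → Nat.card U = 3 ^ j → U' ≤ U → i ≤ j := by
    intro U' U i j hi hj h
    have h1 : Nat.card U' ≤ Nat.card U := Nat.card_le_card_of_injective _ (AddSubgroup.inclusion_injective h)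
    rw [hi, hj] at h1
    exact (Nat.pow_le_pow_iff_right (by norm_num)).1 h1
  have hik : i ≤ k := le hi hk inf_le_left
  have him : i ≤ m := le hi hm inf_le_right
  have h1 : r % 6 = k % 6 := by
    have h := modEq_fx (V := V) hX
    rw [hV, hk] at h
    exact par_37 r (by omega) k (by omega) h
  have h2 : r % 4 = m % 4 := by
    have h := modEq_fx (V := V) hZ
    rw [hV, hm] at h
    exact par_35 r (by omega) m (by omega) h
  have h3 : k % 4 = i % 4 := by
    have h := modEq_inf hZ (fx V (zpowers x)) (fun g hg v hv => smul_fx_of_comm (fun y hy => (hcc y hy g hg).symm) hv)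
    rw [hk, hi] at h
    exact par_35 k (by omega) i (by omega) h
  have h4 : m % 6 = i % 6 := by
    have h := modEq_inf hX (fx V (zpowers z)) (fun g hg v hv => smul_fx_of_comm (fun y hy => hcc g hg y hy) hv)
    rw [inf_comm, hm, hi] at h
    exact par_37 m (by omega) i (by omega) h
  omega

/-- **no group of order `5 ^ a * 7`** -/
theorem no_fs (hf : Faith M V) {r : ℕ} (hr : r ≤ 8) (hV : Nat.card V = 3 ^ r) {a : ℕ} (ha0 : a ≠ 0) (ha : a ≤ 5)
    (hM : Nat.card M = 5 ^ a * 7) : False := by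
  have h5 : Fact (Nat.Prime 5) := ⟨by norm_num⟩
  have h7 : Fact (Nat.Prime 7) := ⟨by norm_num⟩
  obtain ⟨T⟩ : Nonempty (Sylow 7 M) := inferInstance
  have hT : Nat.card (T : Subgroup M) = 7 := by
    rw [T.card_eq_multiplicity, hM]
    have h1 : (5 ^ a * 7).factorization 7 = 1 := by
      rw [Nat.factorization_mul (by positivity) (by norm_num), Nat.Prime.factorization_pow (by norm_num)]
      simp [Nat.Prime.factorization (show Nat.Prime 7 by norm_num)]
    rw [h1, pow_one]
  have hn1 : Nat.card (Sylow 7 M) = 1 := by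
    have h1 : Nat.card (Sylow 7 M) ≡ 1 [MOD 7] := card_sylow_modEq_one 7 M
    have h2 : Nat.card (Sylow 7 M) ∣ 5 ^ a := by
      have h4 := T.card_dvd_index
      have h6 := (T : Subgroup M).card_mul_index
      rw [hT, hM, mul_comm] at h6
      rwa [Nat.eq_of_mul_eq_mul_right (by norm_num) h6] at h4
    obtain ⟨k, hk, hk'⟩ := (Nat.dvd_prime_pow h5.1).1 h2
    rw [hk'] at h1 ⊢
    have hk5 : k < 6 := by omega
    have key : ∀ k < 6, 5 ^ k % 7 = 1 % 7 → k = 0 := by decide
    rw [key k hk5 h1, pow_zero]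
  have hTn : (T : Subgroup M).Normal := by
    have : Subsingleton (Sylow 7 M) := (Nat.card_eq_one_iff_unique.1 hn1).1
    exact T.normal_of_subsingleton
  obtain ⟨z, hz⟩ := exists_prime_orderOf_dvd_card' (G := M) 5 (by rw [hM]; exact (dvd_pow_self 5 ha0).mul_right 7)
  have hz5 : z ^ 5 = 1 := by rw [← hz]; exact pow_orderOf_eq_one z
  obtain ⟨x, ⟨hxT, hx1⟩, hc⟩ := RowMod.exists_commute hz5 (((T : Subgroup M) : Set M) \ {1}) (fun s hs =>
    ⟨hTn.conj_mem s hs.1 z, fun h => hs.2 (conj_eq_one_iff.1 h)⟩) (by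
      have h1 : Nat.card ↥(((T : Subgroup M) : Set M) \ {1}) = 6 := by
        rw [Nat.card_coe_set_eq, Set.ncard_sdiff_singleton_of_mem T.one_mem]
        show Nat.card (T : Subgroup M) - 1 = 6
        rw [hT]
      rw [h1]
      norm_num)
  have hx7 : orderOf x = 7 := by
    refine orderOf_eq_prime ?_ hx1
    rw [← hT]
    exact Lib.HallHigman.pow_card_of_mem hxT
  exact no_35 hf hr hV hx7 hz hc.symm

end Cfsg.Agent.H566.PairW
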