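import Mathlib

/-!
# Counting vectors: subgroups of `GL_r(2)` and `GL_r(3)`, `r ≤ 8` (helper566, for S4350)

`M` acts on the finite additive group `V`; `fx P = C_V(P)`, `st P v = C_P(v)`.

* `modEq_inf`, `exists_st` : counting fixed points and orbits of `p`-groups;
* `card_le_of_codim` : a 3-group with `|V : C_V(P)| ≤ 2 ^ (2 n)`, `n ≤ 2`, has order at most `3 ^ n`.
-/

set_option autoImplicit false

namespace Cfsg.Agent.H566.PairW

open Subgroup

section Orbits

variable {P : Type*} [Group P] {X : Type*} [Finite X] [MulAction P X]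

theorem exists_orbit {p k : ℕ} [hp : Fact p.Prime] (hP : IsPGroup p P) (hn : ¬ p ^ (k + 1) ∣ Nat.card X) :
    ∃ x : X, Nat.card P ≤ p ^ k * Nat.card (MulAction.stabilizer P x) := by
  classical
  by_contra hcon
  push Not at hcon
  apply hn
  have := Fintype.ofFinite X
  have : Fintype (Quotient (MulAction.orbitRel P X)) := Fintype.ofFinite _
  rw [Nat.card_congr (MulAction.selfEquivSigmaOrbits P X), Nat.card_sigma]
  refine Finset.dvd_sum fun ω _ => ?_
  have h2 : Nat.card (MulAction.orbit P ω.out) * Nat.card (MulAction.stabilizer P ω.out) = Nat.card P := by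
    rw [Nat.card_congr (MulAction.orbitEquivQuotientStabilizer P ω.out)]
    exact (Subgroup.card_eq_card_quotient_mul_card_subgroup _).symm
  obtain ⟨m, hm⟩ := hP.card_orbit ω.out
  have hm' : Nat.card (MulAction.orbit P ω.out) = p ^ m := by simpa using hm
  rw [hm']
  apply pow_dvd_pow
  by_contra hlt
  have h3 := hcon ω.out
  rw [← h2, hm'] at h3
  have h4 : p ^ m ≤ p ^ k := Nat.pow_le_pow_right hp.1.pos (by omega)
  exact absurd h3 (not_lt.2 (Nat.mul_le_mul_right _ h4))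

end Orbits

variable {M : Type*} [Group M] {V : Type*} [AddCommGroup V] [DistribMulAction M V]

/-- `C_V(P)` -/
def fx (V : Type*) [AddCommGroup V] [DistribMulAction M V] (P : Subgroup M) : AddSubgroup V where
  carrier := {v | ∀ g ∈ P, g • v = v}
  zero_mem' := fun g _ => smul_zero g
  add_mem' := fun ha hb g hg => by rw [smul_add, ha g hg, hb g hg]
  neg_mem' := fun ha g hg => by rw [smul_neg, ha g hg]

theorem mem_fx {P : Subgroup M} {v : V} : v ∈ fx V P ↔ ∀ g ∈ P, g • v = v := Iff.rfl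

theorem fx_anti {P Q : Subgroup M} (h : P ≤ Q) : fx V Q ≤ fx V P := fun _ hv g hg => hv g (h hg)

theorem smul_mem_fx {P : Subgroup M} {x : M} (hx : x ∈ normalizer (P : Set M)) {v : V} (hv : v ∈ fx V P) :
    x • v ∈ fx V P := by
  intro g hg
  have h1 : x⁻¹ * g * x ∈ P := by
    have := (mem_normalizer_iff.1 (inv_mem hx) g).1 hg
    rwa [inv_inv] at this
  have h2 := hv _ h1
  calc g • x • v = x • (x⁻¹ * g * x) • v := by
        rw [smul_smul, smul_smul]; congr 1; group
    _ = x • v := by rw [h2]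

/-- `C_P(v)` -/
def st (P : Subgroup M) (v : V) : Subgroup M := P ⊓ MulAction.stabilizer M v

theorem mem_st {P : Subgroup M} {v : V} {g : M} : g ∈ st P v ↔ g ∈ P ∧ g • v = v := Iff.rfl

theorem st_le (P : Subgroup M) (v : V) : st P v ≤ P := inf_le_left

theorem mem_fx_st (P : Subgroup M) (v : V) : v ∈ fx V (st P v) := fun _ hg => hg.2

/-- the invariant subset `S` as a `P`-set -/
def sub (P : Subgroup M) (S : Set V) (hS : ∀ g ∈ P, ∀ v ∈ S, g • v ∈ S) : SubMulAction P V where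
  carrier := S
  smul_mem' := fun g v hv => hS g g.2 v hv

theorem card_modEq_set {p : ℕ} [hp : Fact p.Prime] [Finite V] {P : Subgroup M} (hP : IsPGroup p P) (S : Set V)
    (hS : ∀ g ∈ P, ∀ v ∈ S, g • v ∈ S) : Nat.card S ≡ Nat.card {v : V // v ∈ S ∧ v ∈ fx V P} [MOD p] := by
  have h1 := hP.card_modEq_card_fixedPoints (sub P S hS)
  have h2 : Nat.card (MulAction.fixedPoints P (sub P S hS)) = Nat.card {v : V // v ∈ S ∧ v ∈ fx V P} := by
    refine Nat.card_congr
      { toFun := fun v => ⟨v.1.1, v.1.2, fun g hg => congrArg Subtype.val (v.2 ⟨g, hg⟩)⟩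
        invFun := fun v => ⟨⟨v.1, v.2.1⟩, fun g => Subtype.ext (v.2.2 g.1 g.2)⟩
        left_inv := fun v => rfl
        right_inv := fun v => rfl }
  rw [h2] at h1
  exact h1

theorem modEq_inf {p : ℕ} [hp : Fact p.Prime] [Finite V] {P : Subgroup M} (hP : IsPGroup p P) (U : AddSubgroup V)
    (hU : ∀ g ∈ P, ∀ v ∈ U, g • v ∈ U) : Nat.card U ≡ Nat.card ↥(U ⊓ fx V P) [MOD p] :=
  card_modEq_set hP (U : Set V) hU

theorem modEq_fx {p : ℕ} [hp : Fact p.Prime] [Finite V] {P : Subgroup M} (hP : IsPGroup p P) :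
    Nat.card V ≡ Nat.card (fx V P) [MOD p] := by
  have h1 := modEq_inf hP (⊤ : AddSubgroup V) (fun _ _ _ _ => AddSubgroup.mem_top _)
  rwa [top_inf_eq, AddSubgroup.card_top] at h1

theorem exists_st {p k : ℕ} [hp : Fact p.Prime] [Finite M] [Finite V] {P : Subgroup M} (hP : IsPGroup p P)
    {U' U : AddSubgroup V} (hU' : ∀ g ∈ P, ∀ v ∈ U', g • v ∈ U')
    (hU : ∀ g ∈ P, ∀ v ∈ U, g • v ∈ U) (h : U' ≤ U) (hn : ¬ p ^ (k + 1) ∣ Nat.card U - Nat.card U') :
    ∃ v ∈ U, v ∉ U' ∧ Nat.card P ≤ p ^ k * Nat.card (st P v) := by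
  classical
  have hS : ∀ g ∈ P, ∀ v ∈ (U : Set V) \ U', g • v ∈ (U : Set V) \ U' := by
    rintro g hg v ⟨h1, h2⟩
    refine ⟨hU g hg v h1, fun h3 => h2 ?_⟩
    have := hU' _ (inv_mem hg) _ h3
    rwa [inv_smul_smul] at this
  have hcard : Nat.card (sub P _ hS) = Nat.card U - Nat.card U' := by
    show Nat.card ↥((U : Set V) \ U') = _
    rw [Nat.card_coe_set_eq, Set.ncard_sdiff h (Set.toFinite _)]
    rfl
  obtain ⟨v, hv⟩ := exists_orbit (X := sub P _ hS) hP (k := k) (by rwa [hcard])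
  refine ⟨v.1, v.2.1, v.2.2, hv.trans (le_of_eq ?_)⟩
  congr 1
  refine Nat.card_congr
    { toFun := fun g => ⟨g.1.1, g.1.2, congrArg Subtype.val g.2⟩
      invFun := fun g => ⟨⟨g.1, g.2.1⟩, Subtype.ext g.2.2⟩
      left_inv := fun g => rfl
      right_inv := fun g => rfl }

theorem exists_pow_card {q r : ℕ} (hq : q.Prime) (hV : Nat.card V = q ^ r) (U : AddSubgroup V) :
    ∃ j ≤ r, Nat.card U = q ^ j := by
  have h1 : Nat.card U ∣ q ^ r := hV ▸ AddSubgroup.card_addSubgroup_dvd_card U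
  exact (Nat.dvd_prime_pow hq).1 h1

theorem par_three : ∀ r < 9, ∀ j < 9, 2 ^ r % 3 = 2 ^ j % 3 → r % 2 = j % 2 := by decide

theorem par_five : ∀ r < 9, ∀ j < 9, 2 ^ r % 5 = 2 ^ j % 5 → r % 4 = j % 4 := by decide

theorem par_seven : ∀ r < 9, ∀ j < 9, 2 ^ r % 7 = 2 ^ j % 7 → r % 3 = j % 3 := by decide

theorem lt_of_card_lt {U' U : AddSubgroup V} [Finite V] {i j : ℕ} (hi : Nat.card U' = 2 ^ i) (hj : Nat.card U = 2 ^ j)
    (h : U' ≤ U) {v : V} (hv : v ∈ U) (hv' : v ∉ U') : i < j := by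
  have h1 : Nat.card U' < Nat.card U := by
    refine lt_of_le_of_ne (Nat.card_le_card_of_injective _ (AddSubgroup.inclusion_injective h)) fun he => hv' ?_
    have h2 : U' = U := AddSubgroup.eq_of_le_of_card_ge h he.ge
    rw [h2]
    exact hv
  rw [hi, hj] at h1
  exact (Nat.pow_lt_pow_iff_right (by norm_num)).1 h1

/-- `M` acts faithfully on `V` -/
def Faith (M V : Type*) [Group M] [AddCommGroup V] [DistribMulAction M V] : Prop :=
  ∀ g : M, (∀ v : V, g • v = v) → g = 1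

theorem eq_bot_of_fx (hf : Faith M V) {P : Subgroup M} (h : fx V P = ⊤) : P = ⊥ := by
  rw [eq_bot_iff]
  intro g hg
  rw [mem_bot]
  apply hf
  intro v
  have : v ∈ fx V P := by rw [h]; exact AddSubgroup.mem_top v
  exact this g hg

theorem not_nine : ∀ c < 5, c ≠ 0 → c % 2 = 0 → ∀ j < 9, ¬ 9 ∣ 2 ^ (j + c) - 2 ^ j := by decide

theorem card_le_of_codim [Finite M] [Finite V] (hf : Faith M V) {r : ℕ} (hr : r ≤ 8) (hV : Nat.card V = 2 ^ r) :
    ∀ n ≤ 2, ∀ P : Subgroup M, IsPGroup 3 P → ∀ j, Nat.card (fx V P) = 2 ^ j → r ≤ j + 2 * n →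
      Nat.card P ≤ 3 ^ n := by
  have h3 : Fact (Nat.Prime 3) := ⟨Nat.prime_three⟩
  have hpar : ∀ P : Subgroup M, IsPGroup 3 P → ∀ j, Nat.card (fx V P) = 2 ^ j → j ≤ r ∧ r % 2 = j % 2 := by
    intro P hP j hj
    obtain ⟨j', hj'r, hj'⟩ := exists_pow_card Nat.prime_two hV (fx V P)
    have h1 : j = j' := Nat.pow_right_injective (le_refl 2) (by show 2 ^ j = 2 ^ j'; rw [← hj, hj'])
    subst h1
    refine ⟨hj'r, par_three r (by omega) j (by omega) ?_⟩
    have := modEq_fx (V := V) hP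
    rw [hV, hj] at this
    exact this
  intro n
  induction n with
  | zero =>
    intro _ P hP j hj hrj
    obtain ⟨h1, -⟩ := hpar P hP j hj
    have h2 : fx V P = ⊤ := by
      apply AddSubgroup.eq_top_of_card_eq
      rw [hj, hV, le_antisymm h1 (by omega)]
    rw [eq_bot_of_fx hf h2, Subgroup.card_bot, pow_zero]
  | succ n ih =>
    intro hn P hP j hj hrj
    obtain ⟨h1, h2⟩ := hpar P hP j hj
    by_cases hjr : j = r
    · have h3 := ih (by omega) P hP j hj (by omega)
      exact h3.trans (Nat.pow_le_pow_right (by norm_num) (by omega))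
    obtain ⟨v, -, hv, hcard⟩ := exists_st (k := 1) hP (U' := fx V P) (U := ⊤)
      (fun g hg v hv => smul_mem_fx (le_normalizer hg) hv) (fun _ _ _ _ => AddSubgroup.mem_top _) le_top (by
        rw [AddSubgroup.card_top, hV, hj, show (1 + 1 : ℕ) = 2 from rfl, show r = j + (r - j) by omega]
        exact not_nine _ (by omega) (by omega) (by omega) j (by omega))
    have hPv : IsPGroup 3 (st P v) := hP.to_le (st_le P v)
    obtain ⟨j', -, hj'⟩ := exists_pow_card Nat.prime_two hV (fx V (st P v))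
    obtain ⟨h4, h5⟩ := hpar _ hPv j' hj'
    have h6 : j < j' := lt_of_card_lt hj hj' (fx_anti (st_le P v)) (mem_fx_st P v) hv
    have h7 := ih (by omega) _ hPv j' hj' (by omega)
    calc Nat.card P ≤ 3 ^ 1 * Nat.card (st P v) := hcard
      _ ≤ 3 ^ 1 * 3 ^ n := Nat.mul_le_mul_left _ h7
      _ = 3 ^ (n + 1) := by rw [← pow_add, add_comm]

end Cfsg.Agent.H566.PairW
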