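import Cfsg.Agent.H566.RowMod
import Cfsg.Agent.H834.Main5475
import Cfsg.Agent.H836.Cent
import Cfsg.Agent.H898.RowTool

/-!
# The row `Fi22` of S4329 (helper566)

An element of order 11 normalises no 3-subgroup: a minimal one would be elementary abelian of order `3 ^ 5`, hence
the Thompson subgroup `A` of a Sylow 3-subgroup; the normaliser of `A` acts on it by isometries of a quadratic form with
80 singular vectors.
-/

set_option autoImplicit false

namespace Cfsg.Agent.H566.RowFi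

open Subgroup Cfsg.Agent.H568 Cfsg Cfsg.Agent.H834 Matrix Cfsg.Agent.H566.RowMod

theorem card_sing : Fintype.card {v : V5 // v ≠ 0 ∧ qf v = 0} = 80 := by decide +kernel

variable {K : Type*} [Group K]

theorem not_mem_normalizer_A {D : Set K} (m : Model K D) {x : K} (hx : x ^ 11 = 1)
    (hcen : ∀ y : K, orderOf y = 3 → x * y ≠ y * x) : x ∉ normalizer (m.A : Set K) := by
  intro hn
  have hfin := m.finite
  have h11 : Fact (Nat.Prime 11) := ⟨by norm_num⟩
  have h3 : Fact (Nat.Prime 3) := ⟨by norm_num⟩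
  obtain ⟨u, hu⟩ := m.M_act (m.N_le_M hn)
  let S : Set K := m.κ '' {v : V5 | v ≠ 0 ∧ qf v = 0}
  have hcard : Nat.card S = 80 := by
    rw [Nat.card_image_of_injective m.κ_injective, ← card_sing, Nat.card_eq_fintype_card]
    rfl
  have hS : ∀ s ∈ S, x * s * x⁻¹ ∈ S := by
    rintro _ ⟨v, ⟨hv, hq⟩, rfl⟩
    refine ⟨mt u *ᵥ v, ⟨fun h0 => hv ?_, ?_⟩, (hu v).symm⟩
    · have h1 := hu v
      rw [h0, m.κ_zero, mul_inv_eq_one, mul_eq_left] at h1
      rw [← m.κ_zero] at h1
      exact m.κ_injective h1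
    · show qf (mt u *ᵥ v) = 0
      rw [mt_isometry]
      exact hq
  obtain ⟨_, ⟨v, ⟨hv, -⟩, rfl⟩, hc⟩ := exists_commute hx S hS (by rw [hcard]; norm_num)
  refine hcen (m.κ v) (orderOf_eq_prime (m.elemA.2 _ (m.κ_mem v)) fun h => ?_) hc
  rw [← m.κ_zero] at h
  exact hv (m.κ_injective h)

/-- An elementary abelian 3-subgroup of order `3 ^ 5` is the `A` of a model. -/
theorem eq_A {D : Set K} (m : Model K D) {B : Subgroup K} (hB : IsPGroup 3 B)
    (hc : ∀ x ∈ B, ∀ y ∈ B, x * y = y * x) (hcard : Nat.card B = 3 ^ 5) : ∃ m' : Model K D, B = m'.A := by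
  have hfin := m.finite
  have h3 : Fact (Nat.Prime 3) := ⟨by norm_num⟩
  obtain ⟨P, hP⟩ := hB.exists_le_sylow
  obtain ⟨m', hm'⟩ := m.exists_P0 P
  refine ⟨m', ?_⟩
  rw [hm'] at hP
  have h1 : B ≤ m'.A := by
    by_contra h
    have := m'.card_le_81 hP hc h
    rw [hcard] at this
    norm_num at this
  exact eq_of_le_of_card_ge h1 (by rw [m'.card_A, hcard]; norm_num)

theorem noNorm_three {D : Set K} (m : Model K D) {x : K} (hx : x ^ 11 = 1)
    (hcen : ∀ y : K, orderOf y = 3 → x * y ≠ y * x) : NoNorm 3 x := by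
  have hfin := m.finite
  have h11 : Fact (Nat.Prime 11) := ⟨by norm_num⟩
  have h3 : Fact (Nat.Prime 3) := ⟨by norm_num⟩
  intro Q hQ hn
  by_contra hb
  have h1 := soc_ne_bot hQ hb
  have h2 := soc_normalizer (p := 3) hn
  have h4 := soc_isPGroup hQ
  have h5 := pgroup_card hx (fun y _ => hcen y) h4 h2
  obtain ⟨k, hk⟩ := IsPGroup.iff_card.1 h4
  have h6 : k ≤ 9 := by
    by_contra hcon
    have h7 : 3 ^ 10 ∣ Nat.card K := (pow_dvd_pow 3 (by omega : 10 ≤ k)).trans (hk ▸ card_subgroup_dvd_card _)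
    rw [m.card] at h7
    revert h7
    norm_num
  have h7 : Nat.card (soc 3 Q) = 3 ^ 5 := by
    rw [hk] at h5 ⊢
    have key : ∀ k ∈ Finset.range 10, 3 ^ k % 11 = 1 → k = 0 ∨ k = 5 := by decide +kernel
    rcases key k (Finset.mem_range.2 (by omega)) h5 with rfl | rfl
    · exfalso
      rw [pow_zero, card_eq_one] at hk
      exact h1 hk
    · rfl
  obtain ⟨m', hm'⟩ := eq_A m h4 (fun a ha b hb => soc_comm ha hb) h7
  rw [hm'] at h2
  exact not_mem_normalizer_A m' hx hcen h2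

theorem card_fi22 (e : K ≃* Spor.Fi22) : Nat.card K = 64561751654400 := (H836.inv_of_iso e).ctx.card

theorem not_comm_eleven (e : K ≃* Spor.Fi22) {x : K} (hx : orderOf x = 11) {p : ℕ} (hp : ¬ p ∣ 22) (y : K)
    (hy : orderOf y = p) : x * y ≠ y * x := by
  intro hxy
  have h1 := (H836.inv_of_iso e).card_eleven (y := x) (by rw [← hx]; exact pow_orderOf_eq_one x)
    (fun h => by rw [h, orderOf_one] at hx; omega)
  apply hp
  have h2 : y ∈ centralizer ({x} : Set K) := mem_centralizer_singleton_iff.2 hxy.symm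
  rw [← h1, ← hy, ← Subgroup.orderOf_mk y h2]
  exact orderOf_dvd_natCard _

/-- **The row `Fi22` of S4329.** -/
theorem row_fi22 [Finite K] [IsSimpleGroup K] (h : Spor.IsoFi22 K) (hOI : H898.RowTool.OI' K) (p : ℕ)
    [hp : Fact p.Prime] (hp2 : p ≠ 2) : Row p K := by
  obtain ⟨e⟩ := h
  have hcard := card_fi22 e
  have hna : ¬ IsMulCommutative K := H898.RowTool.hna_of_card (by rw [hcard]; norm_num) (by rw [hcard]; norm_num)
  by_cases hd : p ^ 2 ∣ Nat.card K
  swap
  · exact H898.RowTool.row_of_not_sq hna hOI hp hp2 hd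
  have h35 : p = 3 ∨ p = 5 := by
    have h1 : p ∣ 64561751654400 := by rw [← hcard]; exact (Dvd.intro_left (p ^ 1) (by ring)).trans hd
    have h2 : (64561751654400 : ℕ) = 2 ^ 17 * (3 ^ 9 * (5 ^ 2 * (7 * (11 * 13)))) := by norm_num
    rw [h2] at h1
    have h7 : ¬ 7 ^ 2 ∣ Nat.card K := by rw [hcard]; norm_num
    have h11 : ¬ 11 ^ 2 ∣ Nat.card K := by rw [hcard]; norm_num
    have h13 : ¬ 13 ^ 2 ∣ Nat.card K := by rw [hcard]; norm_num
    rcases hp.1.dvd_mul.1 h1 with h3 | h3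
    · exact absurd ((Nat.prime_dvd_prime_iff_eq hp.1 Nat.prime_two).1 (hp.1.dvd_of_dvd_pow h3)) hp2
    rcases hp.1.dvd_mul.1 h3 with h3 | h3
    · exact Or.inl ((Nat.prime_dvd_prime_iff_eq hp.1 Nat.prime_three).1 (hp.1.dvd_of_dvd_pow h3))
    rcases hp.1.dvd_mul.1 h3 with h3 | h3
    · exact Or.inr ((Nat.prime_dvd_prime_iff_eq hp.1 Nat.prime_five).1 (hp.1.dvd_of_dvd_pow h3))
    rcases hp.1.dvd_mul.1 h3 with h3 | h3
    · rw [(Nat.prime_dvd_prime_iff_eq hp.1 (by norm_num)).1 h3] at hd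
      exact absurd hd h7
    rcases hp.1.dvd_mul.1 h3 with h3 | h3
    · rw [(Nat.prime_dvd_prime_iff_eq hp.1 (by norm_num)).1 h3] at hd
      exact absurd hd h11
    · rw [(Nat.prime_dvd_prime_iff_eq hp.1 (by norm_num)).1 h3] at hd
      exact absurd hd h13
  have h11 : Fact (Nat.Prime 11) := ⟨by norm_num⟩
  obtain ⟨x, hx⟩ := exists_prime_orderOf_dvd_card' (G := K) 11 (by rw [hcard]; norm_num)
  rcases h35 with rfl | rfl
  · let m : H834.Model K {x | ∃ g : K, x = g * e.symm (Cfsg.Agent.Fischer.Fi22PtsRep.gen .a) * g⁻¹} :=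
      ⟨e.symm, fun _ => Iff.rfl⟩
    exact H898.RowTool.row_of_noNorm hna hOI hp hp2 (noNorm_three m (by rw [← hx]; exact pow_orderOf_eq_one x)
      (fun y hy => not_comm_eleven e hx (p := 3) (by norm_num) y hy))
  · refine H898.RowTool.row_of_noNorm hna hOI hp hp2 (noNorm_of_order (l := 11) (by norm_num) hx
      (fun y hy => not_comm_eleven e hx (p := 5) (by norm_num) y hy) (H898.RowTool.ord_of (e := 2) ?_ ?_))
    · rw [hcard]; norm_num
    · decide +kernel

end Cfsg.Agent.H566.RowFi
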