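import Cfsg.Agent.H566.RowFld
import Cfsg.Agent.S1156
import Cfsg.Agent.S1159
import Cfsg.Agent.ChevalleyStructure.ReeCount
import Cfsg.Agent.Lib.Zsigmondy

/-!
# S4329: the small Ree groups (helper566)
-/

set_option autoImplicit false

namespace Cfsg.Agent.H566.RowRee

open Subgroup Cfsg Cfsg.Lie Cfsg.Agent.H568 Cfsg.Agent.H967.CopMat Cfsg.Agent.H566.RowFld

variable {F : Type*} [Field F] [Fintype F] {m : ℕ}

theorem card_idx : Fintype.card chevG2.Idx = 14 := by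
  decide

/-- `l` divides `q ^ 3 + 1`. -/
theorem dvd_cube {m l : ℕ} (hl : l.Prime) (hd : ∀ n, l ∣ 3 ^ n - 1 ↔ 6 * (2 * m + 1) ∣ n) :
    l ∣ (3 ^ (2 * m + 1)) ^ 3 + 1 := by
  have h3 : l ∣ 3 ^ (6 * (2 * m + 1)) - 1 := (hd _).2 dvd_rfl
  have h4 : 3 ^ (6 * (2 * m + 1)) - 1 = ((3 ^ (2 * m + 1)) ^ 3 - 1) * ((3 ^ (2 * m + 1)) ^ 3 + 1) := by
    have h5 : 1 ≤ (3 ^ (2 * m + 1)) ^ 3 := Nat.one_le_pow _ _ (by positivity)
    obtain ⟨k, hk⟩ := Nat.exists_eq_add_of_le h5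
    have h6 : 3 ^ (6 * (2 * m + 1)) = ((3 ^ (2 * m + 1)) ^ 3) ^ 2 := by rw [← pow_mul, ← pow_mul]; congr 1; ring
    rw [h6, hk]
    have h7 : (1 + k) ^ 2 = 1 + k * (k + 2) := by ring
    rw [h7, Nat.add_sub_cancel_left, Nat.add_sub_cancel_left]
    ring
  rw [h4] at h3
  refine (hl.dvd_mul.1 h3).resolve_left fun h5 => ?_
  rw [← pow_mul, hd] at h5
  have := Nat.le_of_dvd (by omega) h5
  omega

theorem exists_dat (hm : 1 ≤ m) (hF : Fintype.card F = 3 ^ (2 * m + 1)) :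
    ∃ l, Dat (twistedG2 F (3 ^ m)) 3 (2 * m + 1) l 6 := by
  obtain ⟨l, hl, hd, h1, h2⟩ := Cfsg.Agent.Lib.Zsigmondy.exists_primitive (a := 3) (n := 6 * (2 * m + 1)) (by norm_num)
    (by omega) (by omega) (by omega)
  have := Cfsg.Agent.H967.CopSz.three_prime
  have hc : CharP F 3 := Cfsg.Agent.H967.CopSz.charP_of_card Nat.prime_three hF
  have haut : ∀ ψ : MulAut ↥(twistedG2 F (3 ^ m)), ∃ (g : ↥(twistedG2 F (3 ^ m))) (σ : F ≃+* F),
      ψ = MulAut.conj g * fieldAut (Cfsg.Agent.H967.CopSz.stab_g2 _) σ := by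
    intro ψ
    obtain ⟨g, σ, h⟩ := Cfsg.Agent.H71.FldAut.ree_aut hm hF ψ
    exact ⟨g, σ, h⟩
  refine ⟨l, Cfsg.Agent.H967.CopSz.stab_g2 _, Nat.prime_three, hF, haut, ?_, hl, hd, by norm_num, ?_⟩
  · intro σ hσ
    exact eq_one_of_inner _ (p := 3) (by omega) hF (S2127.result hm hF) haut hσ
  · rw [Cfsg.Agent.ChevalleyStructure.ReeCount.card_twistedG2 hF]
    exact Dvd.dvd.mul_left (dvd_cube hl hd) _

/-- **Own characteristic**: elements of order `l` normalise no 3-subgroup. -/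
theorem noNorm (hm : 1 ≤ m) (hF : Fintype.card F = 3 ^ (2 * m + 1)) {l : ℕ} (D : Dat (twistedG2 F (3 ^ m)) 3 (2 * m + 1) l 6)
    {x : ↥(twistedG2 F (3 ^ m))} (hx : orderOf x = l) : NoNorm 3 x := by
  have h3p := Cfsg.Agent.H967.CopSz.three_prime
  have hl3 : l ≠ 3 := D.ne.1
  have hle := D.le
  have hq : 3 ^ 3 ≤ 3 ^ (2 * m + 1) := Nat.pow_le_pow_right (by norm_num) (by omega)
  refine noNorm_of_order D.hl hx ?_ ?_
  · intro y hy hxy
    -- an element of order `3 l`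
    have h1 : orderOf (x * y) = l * 3 := by
      have h2 : (orderOf x).Coprime (orderOf y) := by
        rw [hx, hy]
        exact (Nat.coprime_primes D.hl Nat.prime_three).2 hl3
      rw [(show Commute x y from hxy).orderOf_mul_eq_mul_orderOf_of_coprime h2, hx, hy]
    have h2 := (Cfsg.Agent.S1159.result hm hF (l * 3)).1 ⟨_, h1⟩
    have key3 : ∀ n : ℕ, ¬ 3 ∣ n → ¬ l * 3 ∣ n := fun n h h' => h ((Dvd.intro_left _ rfl : 3 ∣ l * 3).trans h')
    have h3m : 3 ∣ 3 ^ (2 * m + 1) := dvd_pow_self _ (by omega)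
    have h3m' : 3 ∣ 3 ^ (m + 1) := dvd_pow_self _ (by omega)
    have hqr : 3 ^ (m + 1) ≤ 3 ^ (2 * m + 1) := Nat.pow_le_pow_right (by norm_num) (by omega)
    rcases h2 with h2 | h2 | h2 | h2 | h2 | h2
    · have h4 := Nat.le_of_dvd (by norm_num) h2
      omega
    · have h4 := Nat.le_of_dvd (by norm_num) h2
      omega
    · refine key3 _ ?_ h2
      omega
    · refine key3 _ ?_ h2
      intro h4
      have h5 : 3 ∣ 3 ^ (2 * m + 1) + 1 := by
        have h6 : 2 ∣ 3 ^ (2 * m + 1) + 1 := by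
          have : Odd (3 ^ (2 * m + 1)) := Odd.pow (by decide)
          obtain ⟨k, hk⟩ := this
          omega
        exact h4.trans (Nat.div_dvd_of_dvd h6)
      omega
    · refine key3 _ ?_ h2
      omega
    · refine key3 _ ?_ h2
      omega
  · intro k hk hdvd h
    rw [D.hd] at h
    rw [Cfsg.Agent.ChevalleyStructure.ReeCount.card_twistedG2 hF, mul_assoc] at hdvd
    have h3m : 3 ∣ 3 ^ (2 * m + 1) := dvd_pow_self _ (by omega)
    have hc1 : Nat.Coprime (3 ^ k) (3 ^ (2 * m + 1) - 1) := by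
      refine Nat.Coprime.pow_left _ ((Nat.Prime.coprime_iff_not_dvd Nat.prime_three).2 ?_)
      omega
    have hc2 : Nat.Coprime (3 ^ k) ((3 ^ (2 * m + 1)) ^ 3 + 1) := by
      refine Nat.Coprime.pow_left _ ((Nat.Prime.coprime_iff_not_dvd Nat.prime_three).2 ?_)
      have : 3 ∣ (3 ^ (2 * m + 1)) ^ 3 := h3m.trans (dvd_pow_self _ (by norm_num))
      omega
    have h4 := (Nat.Coprime.mul_right hc1 hc2).dvd_of_dvd_mul_right hdvd
    rw [← pow_mul] at h4
    have h5 := (Nat.pow_dvd_pow_iff_le_right (by norm_num : 1 < 3)).1 h4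
    have h6 := Nat.le_of_dvd (Nat.pos_of_ne_zero hk) h
    omega

theorem row (K : Type*) [Group K] [Finite K] [IsSimpleGroup K] (h : Lie.IsoRee K) (p : ℕ) [hp : Fact p.Prime]
    (hp2 : p ≠ 2) (hna : ¬ IsMulCommutative K) : Row p K := by
  obtain ⟨F, _, _, m, hm, hF, ⟨e⟩⟩ := h
  obtain ⟨l, D⟩ := exists_dat hm hF
  refine Row.congr e.symm ?_
  have hsim : IsSimpleGroup ↥(twistedG2 F (3 ^ m)) := e.symm.isSimpleGroup
  have hna' : ¬ IsMulCommutative ↥(twistedG2 F (3 ^ m)) := by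
    intro hc
    apply hna
    refine ⟨⟨fun x y => e.injective ?_⟩⟩
    rw [map_mul, map_mul]
    exact hc.is_comm.comm _ _
  obtain ⟨x, hx⟩ : ∃ x : ↥(twistedG2 F (3 ^ m)), orderOf x = l := by
    have hlf : Fact l.Prime := ⟨D.hl⟩
    exact exists_prime_orderOf_dvd_card' l D.hlG
  have hl := D.le
  refine row_of hna' fun a ha => ?_
  by_cases hin : ∃ s, a = MulAut.conj s
  · by_cases h3 : p = 3
    · subst h3
      right; left
      exact ⟨hin, x, noNorm hm hF D hx⟩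
    · left
      have := hp.1.two_le
      exact ⟨hin, default, Cfsg.Agent.S1156.result hm hF (by omega) default⟩
  · push Not at hin
    right; right
    have hlp : l ≠ p := by
      rintro rfl
      obtain ⟨g, σ, -, hσ⟩ := D.outer hp.1 ha hin
      obtain ⟨f', hf', -⟩ := SemiFix.exists_exp hp.1 hσ D.hr D.hF
      have : f' ≠ 0 := by
        rintro rfl
        omega
      have h2 : l ≤ f' * l := Nat.le_mul_of_pos_left l (Nat.pos_of_ne_zero this)
      omega
    refine ⟨x, ?_, ?_, D.moved ?_ hp.1 hp2 ha hin hx⟩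
    · rw [hx]
      intro h3
      exact hlp ((Nat.prime_dvd_prime_iff_eq hp.1 D.hl).1 h3).symm
    · by_cases h3 : p = 3
      · subst h3
        exact (noNorm hm hF D hx).pcent
      · exact D.pcent (by rw [card_idx]; omega) hp.1 hp2 h3 hlp hx
    · rw [card_idx]
      norm_num

end Cfsg.Agent.H566.RowRee
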