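import Cfsg.Agent.SuzThree.SylowThree

/-!
# The Suzuki group has no abelian subgroup of order `3 ^ 6` (helper566)
-/

set_option autoImplicit false
set_option maxRecDepth 100000

namespace Cfsg.Agent.H566.RowSuz

open Subgroup Cfsg.Spor Cfsg.Agent.SporadicRecognition.SuzOrder Cfsg.Agent.SuzThree.Basic
  Cfsg.Agent.SuzThree.Elts Cfsg.Agent.SuzThree.Elementary Cfsg.Agent.SuzThree.NormElts
  Cfsg.Agent.SuzThree.NormAct Cfsg.Agent.SuzThree.SylowThree

/-- three different special elements are independent enough -/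
theorem rel_false : ∀ a b c : Ix, a ≠ b → b ≠ c → c ≠ a → ∀ ε δ : Bool, ∀ σ : ZMod 3,
    (if δ then vec c else -vec c) - vec b ≠
      σ.val • ((if ε then vec b else -vec b) - vec a) := by
  decide +kernel

theorem finSuz : Finite Suz := Nat.finite_of_card_ne_zero (by rw [card_Suz]; norm_num)

theorem exists_P' : ∃ P : Subgroup Suz, IsPGroup 3 P ∧ 3 ^ 7 ∣ Nat.card P ∧ A0 ≤ P ∧ P ≤ NA := by
  have h3 : Fact (Nat.Prime 3) := ⟨Nat.prime_three⟩
  have hA : IsPGroup 3 A0 := by
    rw [IsPGroup.iff_card]; exact ⟨5, card_A0⟩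
  have hA' : IsPGroup 3 (A0.subgroupOf K) :=
    hA.comap_of_injective K.subtype Subtype.val_injective
  obtain ⟨Q, hQ⟩ := hA'.exists_le_sylow
  refine ⟨(Q : Subgroup K).map K.subtype, Q.isPGroup'.map _, ?_, ?_, ?_⟩
  · rw [Nat.card_congr ((Q : Subgroup K).equivMapOfInjective _ Subtype.val_injective).symm.toEquiv]
    exact Q.pow_dvd_card_of_pow_dvd_card card_dvd
  · intro a ha
    exact ⟨⟨a, A0_le_K ha⟩, hQ (Subgroup.mem_subgroupOf.2 ha), rfl⟩
  · refine (Subgroup.map_subtype_le _).trans ?_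
    intro n hn
    obtain ⟨h, -⟩ := mem_K.1 hn
    exact h

theorem card_V : Nat.card V = 243 := by
  rw [Nat.card_eq_fintype_card]; decide +kernel

/-- A 3-element of the normaliser of `A0` centralising a subgroup of index at most 3 lies in `A0`. -/
theorem mem_of_comm {w : Suz} (hw : w ∈ NA) {k : ℕ} (hk : w ^ 3 ^ k = 1) {D : Subgroup Suz} (hD : D ≤ A0)
    (hcard : 81 ≤ Nat.card D) (hc : ∀ d ∈ D, w * d = d * w) : w ∈ A0 := by
  have hfin := finSuz
  by_contra hcon
  obtain ⟨L, hL⟩ := exists_L ⟨w, hw⟩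
  -- a point which is moved
  obtain ⟨a, ha⟩ : ∃ f : Ix, (⟨w, hw⟩ : NA) • f ≠ f := by
    by_contra h
    push Not at h
    exact hcon (mem_of_fix (n := ⟨w, hw⟩) (h _) (h _) (h _) (h _))
  obtain ⟨b, hb⟩ : ∃ b, (⟨w, hw⟩ : NA) • a = b := ⟨_, rfl⟩
  obtain ⟨c, hc'⟩ : ∃ c, (⟨w, hw⟩ : NA) • b = c := ⟨_, rfl⟩
  have hab : a ≠ b := by rw [hb] at ha; exact ha.symm
  have hbc : b ≠ c := by
    intro h
    rw [← h] at hc'
    exact hab (smul_left_cancel _ (hb.trans hc'.symm))
  have hca : c ≠ a := by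
    intro h
    have h1 : ∀ n : ℕ, ((⟨w, hw⟩ : NA) ^ (2 * n + 1)) • a = b := by
      intro n
      induction n with
      | zero => rw [mul_zero, zero_add, pow_one, hb]
      | succ n ih =>
        rw [show 2 * (n + 1) + 1 = 1 + (1 + (2 * n + 1)) by ring, pow_add, pow_one, mul_smul, pow_add, pow_one,
          mul_smul, ih, hc', h, hb]
    have h2 : Odd (3 ^ k) := Odd.pow (by decide)
    obtain ⟨n, hn⟩ := h2
    have h3 : (⟨w, hw⟩ : NA) ^ 3 ^ k = 1 := Subtype.ext (by simpa using hk)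
    have h4 := h1 n
    rw [← hn, h3, one_smul] at h4
    exact hab h4
  -- the map `L - 1`
  let T : V →+ V := L - AddMonoidHom.id V
  have hT : ∀ v, T v = L v - v := fun v => rfl
  have hfV : Finite V := inferInstance
  have hker : 81 ≤ Nat.card T.ker := by
    refine hcard.trans ?_
    have hex : ∀ d : D, ∃ v : V, E v = d := fun d => mem_A0.1 (hD d.2)
    choose f hf using hex
    have hf' : ∀ d : D, f d ∈ T.ker := by
      intro d
      rw [AddMonoidHom.mem_ker, hT, sub_eq_zero]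
      apply E_injective
      rw [hL, hf]
      show w * (d : Suz) * w⁻¹ = d
      rw [hc d d.2, mul_inv_cancel_right]
    refine Nat.card_le_card_of_injective (fun d => (⟨f d, hf' d⟩ : T.ker)) ?_
    intro d d' h
    have h1 : f d = f d' := congrArg Subtype.val h
    apply Subtype.ext
    rw [← hf, ← hf, h1]
  have hran : Nat.card T.range ≤ 3 := by
    have h1 := T.ker.card_mul_index
    rw [AddSubgroup.index_ker, card_V] at h1
    by_contra h
    push Not at h
    have h2 : 81 * 4 ≤ Nat.card T.ker * Nat.card T.range := Nat.mul_le_mul hker h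
    omega
  obtain ⟨ε, hε⟩ : ∃ ε : Bool, L (vec a) = if ε then vec b else -vec b := by
    rcases isSp_of hL a with h | h
    · exact ⟨true, by rw [h, hb]; rfl⟩
    · exact ⟨false, by rw [h, hb]; rfl⟩
  obtain ⟨δ, hδ⟩ : ∃ δ : Bool, L (vec b) = if δ then vec c else -vec c := by
    rcases isSp_of hL b with h | h
    · exact ⟨true, by rw [h, hc']; rfl⟩
    · exact ⟨false, by rw [h, hc']; rfl⟩
  set d1 := (if ε then vec b else -vec b) - vec a with hd1
  have hd1r : d1 ∈ T.range := ⟨vec a, by rw [hT, hε]⟩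
  have hd1ne : d1 ≠ 0 := by
    have key : ∀ a b : Ix, a ≠ b → ∀ ε : Bool, (if ε then vec b else -vec b) - vec a ≠ 0 := by decide +kernel
    exact key a b hab ε
  have hord : addOrderOf d1 = 3 := by
    have h3 : Fact (Nat.Prime 3) := ⟨Nat.prime_three⟩
    refine addOrderOf_eq_prime ?_ hd1ne
    show (2 + 1 : ℕ) • d1 = 0
    rw [succ_nsmul, two_nsmul]
    exact three_nsmul_V d1
  have hz : AddSubgroup.zmultiples d1 = T.range := by
    refine AddSubgroup.eq_of_le_of_card_ge (AddSubgroup.zmultiples_le_of_mem hd1r) ?_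
    rw [Nat.card_zmultiples, hord]
    exact hran
  have hd2 : (if δ then vec c else -vec c) - vec b ∈ AddSubgroup.zmultiples d1 := by
    rw [hz]
    exact ⟨vec b, by rw [hT, hδ]⟩
  obtain ⟨m, hm⟩ := AddSubgroup.mem_zmultiples_iff.1 hd2
  refine rel_false a b c hab hbc hca ε δ (m : ZMod 3) ?_
  rw [← hd1, ← hm, ← natCast_zsmul, ZMod.val_intCast]
  have h5 := mod_addOrderOf_zsmul d1 m
  rw [hord] at h5
  exact h5.symm

/-- **no abelian subgroup of order `3 ^ 6`** -/
theorem no_six (W : Subgroup Suz) (hW : Nat.card W = 3 ^ 6) (hc : ∀ a ∈ W, ∀ b ∈ W, a * b = b * a) : False := by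
  have hfin := finSuz
  have h3 : Fact (Nat.Prime 3) := ⟨Nat.prime_three⟩
  obtain ⟨P, hP, hdvd, hAP, hPN⟩ := exists_P'
  -- `P` is a Sylow subgroup
  obtain ⟨Q, hQ⟩ := hP.exists_le_sylow
  have hcP : Nat.card P ≤ 3 ^ 7 := by
    obtain ⟨k, hk⟩ := IsPGroup.iff_card.1 hP
    rw [hk]
    refine Nat.pow_le_pow_right (by norm_num) ?_
    by_contra hcon
    push Not at hcon
    have h1 : 3 ^ 8 ∣ Nat.card Suz := (pow_dvd_pow 3 hcon).trans (hk ▸ card_subgroup_dvd_card P)
    rw [card_Suz] at h1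
    revert h1
    norm_num
  have hcQ : Nat.card (Q : Subgroup Suz) ≤ 3 ^ 7 := by
    obtain ⟨k, hk⟩ := IsPGroup.iff_card.1 Q.2
    have h1 : Nat.card (Q : Subgroup Suz) = 3 ^ k := hk
    rw [h1]
    refine Nat.pow_le_pow_right (by norm_num) ?_
    by_contra hcon
    push Not at hcon
    have h1 : 3 ^ 8 ∣ Nat.card Suz := (pow_dvd_pow 3 hcon).trans (hk ▸ card_subgroup_dvd_card (Q : Subgroup Suz))
    rw [card_Suz] at h1
    revert h1
    norm_num
  have hPQ : P = Q := eq_of_le_of_card_ge hQ (hcQ.trans (Nat.le_of_dvd Nat.card_pos hdvd))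
  obtain ⟨Q', hQ'⟩ := (IsPGroup.of_card hW).exists_le_sylow
  obtain ⟨g, hg⟩ := MulAction.exists_smul_eq Suz Q' Q
  -- the conjugate of `W`
  let W' : Subgroup Suz := W.map (MulAut.conj g).toMonoidHom
  have hW' : Nat.card W' = 3 ^ 6 := by
    rw [← hW]
    exact Nat.card_congr (W.equivMapOfInjective _ (MulAut.conj g).injective).symm.toEquiv
  have hc' : ∀ a ∈ W', ∀ b ∈ W', a * b = b * a := by
    rintro _ ⟨a, ha, rfl⟩ _ ⟨b, hb, rfl⟩
    rw [← map_mul, ← map_mul, hc a ha b hb]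
  have hWP : W' ≤ P := by
    rw [hPQ, ← hg, Sylow.coe_subgroup_smul]
    exact Subgroup.map_mono hQ'
  have hD : 81 ≤ Nat.card ↥(A0 ⊓ W') := by
    have h1 : Nat.card ↥(A0 ⊓ W') * A0.relIndex W' = Nat.card W' := by
      rw [← Nat.card_congr (Subgroup.subgroupOfEquivOfLe (inf_le_right : A0 ⊓ W' ≤ W')).toEquiv,
        Subgroup.inf_subgroupOf_right]
      exact (A0.subgroupOf W').card_mul_index
    have h2 : Nat.card A0 * A0.relIndex P = Nat.card P := by
      rw [← Nat.card_congr (Subgroup.subgroupOfEquivOfLe hAP).toEquiv]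
      exact (A0.subgroupOf P).card_mul_index
    rw [card_A0] at h2
    have h3 : A0.relIndex W' ≤ A0.relIndex P := Subgroup.relIndex_le_of_le_right hWP (by
      intro h0
      rw [h0, mul_zero] at h2
      exact absurd h2.symm Nat.card_pos.ne')
    have h4 : A0.relIndex P ≤ 9 := by
      by_contra hcon
      push Not at hcon
      have : 243 * 10 ≤ 243 * A0.relIndex P := Nat.mul_le_mul_left _ hcon
      omega
    by_contra hcon
    push Not at hcon
    have h5 : Nat.card ↥(A0 ⊓ W') * A0.relIndex W' ≤ 80 * 9 := Nat.mul_le_mul (by omega) (h3.trans h4)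
    rw [h1, hW'] at h5
    norm_num at h5
  obtain ⟨w, hw, hwA⟩ : ∃ w ∈ W', w ∉ A0 := by
    by_contra hcon
    push Not at hcon
    have h1 := Nat.le_of_dvd Nat.card_pos (card_dvd_of_le (show W' ≤ A0 from hcon))
    rw [hW', card_A0] at h1
    norm_num at h1
  obtain ⟨k, hk⟩ := hP ⟨w, hWP hw⟩
  have hk' : w ^ 3 ^ k = 1 := by simpa using congrArg Subtype.val hk
  exact hwA (mem_of_comm (hPN (hWP hw)) hk' (D := A0 ⊓ W') inf_le_left hD (fun d hd => hc' w hw d hd.2))

end Cfsg.Agent.H566.RowSuz
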