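import Cfsg.Agent.H566.RowMod
import Cfsg.Agent.H566.RowSuzA
import Cfsg.Agent.H812.SuzSeven
import Cfsg.Agent.H898.RowTool

/-!
# The row `Suz` of S4329 (helper566)

An element of order 14 normalises no 3-subgroup: the centraliser of an element of order 7 is `7 × A₄`, hence it would act
without fixed points on an elementary abelian 3-subgroup, of order `3 ^ 6`.
-/

set_option autoImplicit false

namespace Cfsg.Agent.H566.RowSuz

open Subgroup Cfsg.Agent.H568 Cfsg Cfsg.Spor Cfsg.Agent.H566.RowMod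
open Cfsg.Agent.KFacts.SuzLFour Cfsg.Agent.KFacts.SuzTwoB Cfsg.Agent.H812.SuzLoc Cfsg.Agent.H812.SuzSeven

theorem perm_four : ∀ s t : Equiv.Perm (Fin 4), Equiv.Perm.sign t = 1 → s * s * s = 1 → t * t = 1 → t ≠ 1 →
    (t * s = s * t ∨ t * s = s⁻¹ * t) → s = 1 := by
  decide +kernel

theorem alt_four (s t : alternatingGroup (Fin 4)) (hs : s * s * s = 1) (ht : t * t = 1) (htn : t ≠ 1)
    (h : t * s = s * t ∨ t * s = s⁻¹ * t) : s = 1 :=
  Subtype.ext (perm_four s t (Equiv.Perm.mem_alternatingGroup.1 t.2) (congrArg Subtype.val hs)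
    (congrArg Subtype.val ht) (fun hh => htn (Subtype.ext hh))
    (h.imp (fun h => congrArg Subtype.val h) (fun h => congrArg Subtype.val h)))

theorem seven_three : ∀ a : Multiplicative (ZMod 7), a * a * a = 1 → a = 1 := by
  decide +kernel

theorem seven_two : ∀ a : Multiplicative (ZMod 7), a * a = 1 → a = 1 := by
  decide +kernel

theorem e0_x7 : Commute e0 x7 := e0_comm x7 x7_mem

/-- an element of order 3 of `C(x7)` is not normalised by `e0` -/
theorem no_inv {s : Suz} (hs : s * s * s = 1) (hc : s * x7 = x7 * s) (h : e0 * s = s * e0 ∨ e0 * s = s⁻¹ * e0) :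
    s = 1 := by
  obtain ⟨φ⟩ := equiv_cent x7_mem order_x7
  have hmem : ∀ y : Suz, y * x7 = x7 * y → y ∈ centralizer ((zpowers x7 : Subgroup Suz) : Set Suz) := by
    intro y hy
    rw [H812.Transport.centralizer_zpowers, mem_centralizer_singleton_iff]
    exact hy
  let s' : centralizer ((zpowers x7 : Subgroup Suz) : Set Suz) := ⟨s, hmem s hc⟩
  let t' : centralizer ((zpowers x7 : Subgroup Suz) : Set Suz) := ⟨e0, hmem e0 e0_x7.eq⟩
  have hs' : s' * s' * s' = 1 := Subtype.ext hs
  have ht' : t' * t' = 1 := Subtype.ext e0_sq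
  have htn : t' ≠ 1 := fun hh => e0_ne (congrArg Subtype.val hh)
  have h' : t' * s' = s' * t' ∨ t' * s' = s'⁻¹ * t' := h.imp (fun h => Subtype.ext h) (fun h => Subtype.ext h)
  have hs1 : φ s' * φ s' * φ s' = 1 := by rw [← map_mul, ← map_mul, hs', map_one]
  have ht1 : φ t' * φ t' = 1 := by rw [← map_mul, ht', map_one]
  have hsa : (φ s').1 = 1 := seven_three _ (congrArg Prod.fst hs1)
  have hta : (φ t').1 = 1 := seven_two _ (congrArg Prod.fst ht1)
  have htb : (φ t').2 ≠ 1 := by
    intro hh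
    have : φ t' = 1 := Prod.ext hta hh
    exact htn ((map_eq_one_iff φ φ.injective).1 this)
  have hrel : (φ t').2 * (φ s').2 = (φ s').2 * (φ t').2 ∨ (φ t').2 * (φ s').2 = ((φ s').2)⁻¹ * (φ t').2 := by
    rcases h' with h' | h'
    · left
      have := congrArg φ h'
      rw [map_mul, map_mul] at this
      exact congrArg Prod.snd this
    · right
      have := congrArg φ h'
      rw [map_mul, map_mul, map_inv] at this
      exact congrArg Prod.snd this
  have hsb : (φ s').2 = 1 := alt_four _ _ (congrArg Prod.snd hs1) (congrArg Prod.snd ht1) htb hrel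
  have : φ s' = 1 := Prod.ext hsa hsb
  exact congrArg Subtype.val ((map_eq_one_iff φ φ.injective).1 this)

theorem dvd_84 {y : Suz} {p : ℕ} (hy : orderOf y = p) (hc : x7 * y = y * x7) : p ∣ 84 := by
  have h1 : y ∈ centralizer ((zpowers x7 : Subgroup Suz) : Set Suz) := by
    rw [H812.Transport.centralizer_zpowers, mem_centralizer_singleton_iff]
    exact hc.symm
  have h2 := orderOf_dvd_natCard (⟨y, h1⟩ : centralizer ((zpowers x7 : Subgroup Suz) : Set Suz))
  rw [(main_card x7_mem order_x7).1] at h2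
  rwa [← Subgroup.orderOf_coe, hy] at h2

theorem noNorm_five : NoNorm 5 (x7 : Suz) := by
  have hfin := finSuz
  have h5 : Fact (Nat.Prime 5) := ⟨by norm_num⟩
  refine noNorm_of_order (l := 7) (by norm_num) order_x7 (fun y hy hc => ?_) (H898.RowTool.ord_of (e := 2) ?_ ?_)
  · have := dvd_84 hy hc
    norm_num at this
  · rw [card_Suz]; norm_num
  · decide +kernel

theorem noNorm_three : NoNorm 3 (x7 * e0 : Suz) := by
  have hfin := finSuz
  have h3 : Fact (Nat.Prime 3) := ⟨by norm_num⟩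
  have h7 : Fact (Nat.Prime 7) := ⟨by norm_num⟩
  intro Q hQ hn
  by_contra hb
  -- the two parts
  have he2 : (e0 : Suz) ^ 2 = 1 := by rw [pow_two]; exact e0_sq
  have h8 : (x7 * e0) ^ 8 = x7 := by
    rw [e0_x7.symm.mul_pow, show 8 = 2 * 4 by norm_num, pow_mul e0, he2, one_pow, mul_one,
      show 2 * 4 = 7 + 1 by norm_num, pow_succ, x7_pow, one_mul]
  have h7' : (x7 * e0) ^ 7 = e0 := by
    rw [e0_x7.symm.mul_pow, x7_pow, one_mul, show 7 = 2 * 3 + 1 by norm_num, pow_succ, pow_mul, he2, one_pow, one_mul]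
  have hx : x7 ∈ normalizer (Q : Set Suz) := by rw [← h8]; exact pow_mem hn 8
  have he : e0 ∈ normalizer (Q : Set Suz) := by rw [← h7']; exact pow_mem hn 7
  have h1 := soc_ne_bot hQ hb
  have h2x := soc_normalizer (p := 3) hx
  have h2e := soc_normalizer (p := 3) he
  have h4 := soc_isPGroup hQ
  -- `x7` acts without fixed points
  have hcen : ∀ y ∈ soc 3 Q, orderOf y = 3 → x7 * y ≠ y * x7 := by
    intro y hy ho hc
    let C : Subgroup Suz := soc 3 Q ⊓ centralizer ((zpowers x7 : Subgroup Suz) : Set Suz)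
    have hC3 : IsPGroup 3 C := h4.to_le inf_le_left
    obtain ⟨k, hk⟩ := IsPGroup.iff_card.1 hC3
    have hCd : 3 ^ k ∣ 84 := by
      rw [← hk, ← (main_card x7_mem order_x7).1]
      exact card_dvd_of_le inf_le_right
    have hk1 : k ≤ 1 := by
      by_contra hcon
      push Not at hcon
      have : 3 ^ 2 ∣ 84 := (pow_dvd_pow 3 hcon).trans hCd
      revert this
      norm_num
    have hmemc : ∀ z : Suz, z * x7 = x7 * z ↔ z ∈ centralizer ((zpowers x7 : Subgroup Suz) : Set Suz) := by
      intro z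
      rw [H812.Transport.centralizer_zpowers, mem_centralizer_singleton_iff]
    have hyC : y ∈ C := ⟨hy, (hmemc y).1 hc.symm⟩
    have hzC : zpowers y = C := by
      refine eq_of_le_of_card_ge ?_ ?_
      · rwa [zpowers_le]
      · rw [Nat.card_zpowers, ho, hk]
        exact Nat.pow_le_pow_right (n := 3) (by norm_num) hk1
    have heC : e0 * y * e0⁻¹ ∈ C := by
      refine ⟨(mem_normalizer_iff.1 h2e y).1 hy, (hmemc _).1 ?_⟩
      have hcy : Commute y x7 := hc.symm
      exact ((e0_x7.mul_left hcy).mul_left e0_x7.inv_left).eq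
    rw [← hzC, mem_zpowers_iff] at heC
    obtain ⟨m, hm⟩ := heC
    have hy3 : y ^ 3 = 1 := by rw [← ho]; exact pow_orderOf_eq_one y
    have hy3' : y * y * y = 1 := by rw [← hy3, pow_succ, pow_two]
    have hy1 : y ≠ 1 := by
      rintro rfl
      rw [orderOf_one] at ho
      norm_num at ho
    have hm3 := zpow_mod_orderOf y m
    rw [ho] at hm3
    have hcases : m % (3 : ℕ) = 0 ∨ m % (3 : ℕ) = 1 ∨ m % (3 : ℕ) = 2 := by
      push_cast
      omega
    refine hy1 (no_inv hy3' hc.symm ?_)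
    rcases hcases with h | h | h
    · exfalso
      rw [h, zpow_zero] at hm3
      rw [← hm3] at hm
      exact hy1 (conj_eq_one_iff.1 hm.symm)
    · left
      rw [h, zpow_one] at hm3
      rw [← hm3] at hm
      exact (mul_inv_eq_iff_eq_mul.1 hm.symm)
    · right
      rw [h] at hm3
      rw [← hm3] at hm
      have h5 : y ^ (2 : ℤ) = y⁻¹ := by
        rw [eq_inv_iff_mul_eq_one, ← hy3', zpow_two]
      rw [h5] at hm
      exact (mul_inv_eq_iff_eq_mul.1 hm.symm)
  have h5 := pgroup_card x7_pow hcen h4 h2x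
  obtain ⟨k, hk⟩ := IsPGroup.iff_card.1 h4
  have h6 : k ≤ 7 := by
    by_contra hcon
    have h7 : 3 ^ 8 ∣ Nat.card Suz := (pow_dvd_pow 3 (by omega : 8 ≤ k)).trans (hk ▸ card_subgroup_dvd_card _)
    rw [card_Suz] at h7
    revert h7
    norm_num
  have h0 : k ≠ 0 := by
    rintro rfl
    rw [pow_zero, Subgroup.card_eq_one] at hk
    exact h1 hk
  have hk6 : k = 6 := by
    rw [hk] at h5
    interval_cases k
    · exact absurd rfl h0
    all_goals first
      | rfl
      | (exfalso; revert h5; decide)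
  rw [hk6] at hk
  exact no_six _ hk (fun a ha b hb => soc_comm ha hb)

theorem row_suz_core {K : Type*} [Group K] [Finite K] [IsSimpleGroup K] (e : K ≃* Suz) (hOI : H898.RowTool.OI' K)
    (p : ℕ) [hp : Fact p.Prime] (hp2 : p ≠ 2) : Row p K := by
  have hcard : Nat.card K = 448345497600 := by rw [Nat.card_congr e.toEquiv, card_Suz]
  have hna : ¬ IsMulCommutative K := H898.RowTool.hna_of_card (by rw [hcard]; norm_num) (by rw [hcard]; norm_num)
  by_cases hd : p ^ 2 ∣ Nat.card K
  swap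
  · exact H898.RowTool.row_of_not_sq hna hOI hp hp2 hd
  have h35 : p = 3 ∨ p = 5 := by
    have h1 : p ∣ 448345497600 := by rw [← hcard]; exact (Dvd.intro_left (p ^ 1) (by ring)).trans hd
    have h2 : (448345497600 : ℕ) = 2 ^ 13 * (3 ^ 7 * (5 ^ 2 * (7 * (11 * 13)))) := by norm_num
    rw [h2] at h1
    have h7 : ¬ 7 ^ 2 ∣ Nat.card K := by rw [hcard]; norm_num
    have h11 : ¬ 11 ^ 2 ∣ Nat.card K := by rw [hcard]; norm_num
    have h13 : ¬ 13 ^ 2 ∣ Nat.card K := by rw [hcard]; norm_num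
    rcases hp.1.dvd_mul.1 h1 with h3 | h3
    · exact absurd ((Nat.prime_dvd_prime_iff_eq hp.1 Nat.prime_two).1 (hp.1.dvd_of_dvd_pow h3)) hp2
    rcases hp.1.dvd_mul.1 h3 with h3 | h3
    · exact Or.inl ((Nat.prime_dvd_prime_iff_eq hp.1 Nat.prime_three).1 (hp.1.dvd_of_dvd_pow h3))
    rcases hp.1.dvd_mul.1 h3 with h3 | h3
    · exact Or.inr ((Nat.prime_dvd_prime_iff_eq hp.1 Nat.prime_five).1 (hp.1.dvd_of_dvd_pow h3))
    rcases hp.1.dvd_mul.1 h3 with h3 | h3
    · rw [(Nat.prime_dvd_prime_iff_eq hp.1 (by norm_num)).1 h3] at hd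
      exact absurd hd h7
    rcases hp.1.dvd_mul.1 h3 with h3 | h3
    · rw [(Nat.prime_dvd_prime_iff_eq hp.1 (by norm_num)).1 h3] at hd
      exact absurd hd h11
    · rw [(Nat.prime_dvd_prime_iff_eq hp.1 (by norm_num)).1 h3] at hd
      exact absurd hd h13
  have tr : ∀ {q : ℕ} {y : Suz}, NoNorm q y → NoNorm q (e.symm y) := by
    intro q y hy Y hY hn
    have h1 : IsPGroup q (Y.map e.toMonoidHom) := hY.map _
    have h2 : y ∈ normalizer ((Y.map e.toMonoidHom : Subgroup Suz) : Set Suz) := by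
      rw [mem_normalizer_iff] at hn ⊢
      intro z
      have h3 : ∀ w : Suz, w ∈ Y.map e.toMonoidHom ↔ e.symm w ∈ Y := by
        intro w
        rw [mem_map_equiv]
      rw [h3, h3, hn (e.symm z), map_mul, map_mul, map_inv]
    have h3 := hy _ h1 h2
    exact (Subgroup.map_eq_bot_iff_of_injective _ e.injective).1 h3
  rcases h35 with rfl | rfl
  · exact H898.RowTool.row_of_noNorm hna hOI hp hp2 (tr noNorm_three)
  · exact H898.RowTool.row_of_noNorm hna hOI hp hp2 (tr noNorm_five)

/-- **the row `Suz`** -/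
theorem row_suz {K : Type*} [Group K] [Finite K] [IsSimpleGroup K] (h : Spor.IsoSuz K) (hOI : H898.RowTool.OI' K)
    (p : ℕ) [hp : Fact p.Prime] (hp2 : p ≠ 2) : Row p K := by
  obtain ⟨e⟩ := h
  exact row_suz_core e hOI p hp2

end Cfsg.Agent.H566.RowSuz
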