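import Cfsg.Agent.H566.RowFi
import Cfsg.Agent.H566.RowSuzB
import Cfsg.Agent.H256.OddInner

/-!
# The rows of S4329 for `Fi22` and `Suz` (helper566)
-/

set_option autoImplicit false

namespace Cfsg.Agent.H566.RowSpor

open Cfsg Cfsg.Agent.H568

variable (K : Type*) [Group K] [Finite K] [IsSimpleGroup K]

theorem row_fi22 (h : Spor.IsoFi22 K) (p : ℕ) [hp : Fact p.Prime] (hp2 : p ≠ 2) : Row p K :=
  RowFi.row_fi22 h (Cfsg.Agent.H256.OddInner.fi22 h) p hp2

theorem row_suz (h : Spor.IsoSuz K) (p : ℕ) [hp : Fact p.Prime] (hp2 : p ≠ 2) : Row p K :=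
  RowSuz.row_suz h (Cfsg.Agent.H256.OddInner.suz h) p hp2

end Cfsg.Agent.H566.RowSpor
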