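import Mathlib
import Cfsg.Agent.H524.ClassSize
import Cfsg.Agent.Lib.NormalAbelian

/-!
# Class sizes of `p`-singular elements (helper566)

`exists_link` : `G` finite, `p` not dividing `|Z(G)|`; for `p`-singular `x`, `y` there is a `p`-singular `w` whose class
size has a common prime divisor with the class size of `x` and one with the class size of `y` (S4321).
-/

set_option autoImplicit false
set_option linter.unusedSectionVars false

namespace Cfsg.Agent.H566.SingGraph

open Subgroup Cfsg.Agent.H524.ClassSize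
open scoped commutatorElement

variable {G : Type*} [Group G]

/-- the class size -/
noncomputable abbrev ci (x : G) : ℕ := (centralizer ({x} : Set G)).index

theorem mem_C {x g : G} : g ∈ centralizer ({x} : Set G) ↔ x * g = g * x := by
  rw [mem_centralizer_iff]
  constructor
  · intro h
    exact h x rfl
  · rintro h _ rfl
    exact h

theorem C_le_of_zpow {x a : G} (h : a ∈ zpowers x) : centralizer ({x} : Set G) ≤ centralizer ({a} : Set G) := by
  intro g hg
  obtain ⟨n, rfl⟩ := h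
  rw [mem_C] at hg ⊢
  exact (Commute.zpow_left hg n)

theorem ci_dvd_of_zpow [Finite G] {x a : G} (h : a ∈ zpowers x) : ci a ∣ ci x := index_dvd_of_le (C_le_of_zpow h)

theorem ci_conj (g x : G) : ci (g * x * g⁻¹) = ci x := by
  have h1 : centralizer ({g * x * g⁻¹} : Set G) = (centralizer ({x} : Set G)).map (MulAut.conj g).toMonoidHom := by
    ext y
    rw [mem_C]
    constructor
    · intro h
      refine ⟨g⁻¹ * y * g, ?_, ?_⟩
      · show g⁻¹ * y * g ∈ centralizer ({x} : Set G)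
        rw [mem_C]
        have : x * (g⁻¹ * y * g) = g⁻¹ * (g * x * g⁻¹ * y) * g := by group
        rw [this, h]; group
      · show g * (g⁻¹ * y * g) * g⁻¹ = y
        group
    · rintro ⟨z, hz, rfl⟩
      have hz' : x * z = z * x := mem_C.1 hz
      show g * x * g⁻¹ * (g * z * g⁻¹) = g * z * g⁻¹ * (g * x * g⁻¹)
      have : g * x * g⁻¹ * (g * z * g⁻¹) = g * (x * z) * g⁻¹ := by group
      rw [this, hz']; group
  show (centralizer ({g * x * g⁻¹} : Set G)).index = _
  rw [h1, index_map_of_bijective (MulAut.conj g).bijective]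

theorem ci_eq_one {x : G} : ci x = 1 ↔ x ∈ center G := by
  show (centralizer ({x} : Set G)).index = 1 ↔ _
  rw [index_eq_one, mem_center_iff]
  constructor
  · intro h g
    have : g ∈ centralizer ({x} : Set G) := by rw [h]; exact mem_top g
    exact (mem_C.1 this).symm
  · intro h
    rw [eq_top_iff]
    intro g _
    rw [mem_C]
    exact (h g).symm

theorem ci_pos [Finite G] (x : G) : 0 < ci x := Nat.pos_of_ne_zero FiniteIndex.index_ne_zero

/-- Subgroups of coprime index. -/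
theorem index_inf_of_coprime [Finite G] {H K : Subgroup G} (h : H.index.Coprime K.index) :
    (H ⊓ K).index = H.index * K.index := by
  apply le_antisymm index_inf_le
  exact Nat.le_of_dvd (Nat.pos_of_ne_zero FiniteIndex.index_ne_zero)
    (h.mul_dvd_of_dvd_of_dvd (index_dvd_of_le inf_le_left) (index_dvd_of_le inf_le_right))

theorem exists_mul_of_coprime [Finite G] {H K : Subgroup G} (h : H.index.Coprime K.index) (g : G) :
    ∃ k ∈ K, ∃ h ∈ H, g = k * h := by
  have h1 : H.relIndex K = H.index := by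
    have h2 : (H ⊓ K).relIndex K * K.index = (H ⊓ K).index := relIndex_mul_index inf_le_right
    rw [index_inf_of_coprime h, inf_relIndex_right] at h2
    exact Nat.eq_of_mul_eq_mul_right (Nat.pos_of_ne_zero FiniteIndex.index_ne_zero) h2
  have h2 : MulAction.stabilizer ↥K (QuotientGroup.mk 1 : G ⧸ H) = H.subgroupOf K := by
    ext k
    rw [MulAction.mem_stabilizer_iff, mem_subgroupOf]
    show (QuotientGroup.mk (k.1 * 1) : G ⧸ H) = QuotientGroup.mk 1 ↔ _
    rw [mul_one, eq_comm, QuotientGroup.eq, inv_one, one_mul]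
  have h3 : (MulAction.orbit ↥K (QuotientGroup.mk 1 : G ⧸ H)).ncard = Nat.card (G ⧸ H) := by
    rw [← MulAction.index_stabilizer, h2]
    exact h1
  have h4 : MulAction.orbit ↥K (QuotientGroup.mk 1 : G ⧸ H) = Set.univ :=
    Set.eq_of_subset_of_ncard_le (Set.subset_univ _) (by rw [h3, Set.ncard_univ])
  have h5 : (QuotientGroup.mk g : G ⧸ H) ∈ MulAction.orbit ↥K (QuotientGroup.mk 1 : G ⧸ H) := by
    rw [h4]; exact Set.mem_univ _
  obtain ⟨k, hk⟩ := h5
  have hk' : (QuotientGroup.mk (k.1 * 1) : G ⧸ H) = QuotientGroup.mk g := hk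
  rw [mul_one, QuotientGroup.eq] at hk'
  exact ⟨k.1, k.2, k.1⁻¹ * g, hk', by group⟩

variable [Finite G]

/-- conjugation into a Sylow subgroup -/
theorem exists_conj_mem {p : ℕ} [Fact p.Prime] (P : Sylow p G) {b : G} (hb : ∃ k : ℕ, orderOf b = p ^ k) :
    ∃ g : G, g * b * g⁻¹ ∈ (P : Subgroup G) := by
  obtain ⟨g, h, -⟩ := conj_mem_sup P (Commute.one_right b) hb (by
    have h1 : (centralizer ({(1 : G)} : Set G)).index = 1 := ci_eq_one.2 (one_mem _)
    rw [h1]
    exact (Fact.out : p.Prime).one_lt.ne' ∘ Nat.dvd_one.1)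
  exact ⟨g, h⟩

theorem exists_sylow_le {p : ℕ} [Fact p.Prime] {a : G} (h : ¬ p ∣ ci a) :
    ∃ P : Sylow p G, (P : Subgroup G) ≤ centralizer ({a} : Set G) := by
  obtain ⟨P, -, hP⟩ := exists_sylow_between h (IsPGroup.of_bot (p := p)) (bot_le : ⊥ ≤ _)
  exact ⟨P, hP⟩

/-- **Step 1.** -/
theorem commute_of_coprime {p : ℕ} [Fact p.Prime] {a b : G} (hb : ∃ k : ℕ, orderOf b = p ^ k)
    (hab : (ci a).Coprime (ci b)) (ha : ¬ p ∣ ci a) : Commute a b := by
  obtain ⟨P, hP⟩ := exists_sylow_le ha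
  obtain ⟨g, hg⟩ := exists_conj_mem P hb
  obtain ⟨k, hk, h, hh, rfl⟩ := exists_mul_of_coprime hab.symm g
  rw [mem_C] at hh
  have h1 : k * h * b * (k * h)⁻¹ = k * b * k⁻¹ := by
    calc k * h * b * (k * h)⁻¹ = k * (h * b) * h⁻¹ * k⁻¹ := by group
      _ = k * (b * h) * h⁻¹ * k⁻¹ := by rw [hh]
      _ = k * b * k⁻¹ := by group
  rw [h1] at hg
  have h2 := hP hg
  have h3 : b ∈ centralizer ({a} : Set G) := by
    have : b = k⁻¹ * (k * b * k⁻¹) * k := by group
    rw [this]
    exact mul_mem (mul_mem (inv_mem hk) h2) hk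
  exact mem_C.1 h3

/-- the conjugacy class -/
def cls (b : G) : Set G := {d | ∃ g : G, d = g * b * g⁻¹}

omit [Finite G] in
theorem cls_conj {b d : G} (hd : d ∈ cls b) (g : G) : g * d * g⁻¹ ∈ cls b := by
  obtain ⟨h, rfl⟩ := hd
  exact ⟨g * h, by group⟩

theorem card_cls (b : G) : Nat.card (cls b) = ci b := by
  have h1 : centralizer ({b} : Set G) =
      (MulAction.stabilizer (ConjAct G) b).comap (ConjAct.toConjAct : G ≃* ConjAct G).toMonoidHom := by
    ext g
    rw [mem_C, mem_comap, MulAction.mem_stabilizer_iff]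
    show _ ↔ ConjAct.toConjAct g • b = b
    rw [ConjAct.smul_def]
    show _ ↔ g * b * g⁻¹ = b
    rw [mul_inv_eq_iff_eq_mul, eq_comm]
  have h2 : ci b = (MulAction.stabilizer (ConjAct G) b).index := by
    show (centralizer ({b} : Set G)).index = _
    rw [h1]
    exact index_comap_of_surjective _ (ConjAct.toConjAct : G ≃* ConjAct G).surjective
  rw [h2, MulAction.index_stabilizer]
  have h3 : cls b = MulAction.orbit (ConjAct G) b := by
    ext d
    constructor
    · rintro ⟨g, rfl⟩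
      exact ⟨ConjAct.toConjAct g, rfl⟩
    · rintro ⟨g, rfl⟩
      exact ⟨ConjAct.ofConjAct g, rfl⟩
  rw [← h3]
  rfl

/-- the elements moving the class of `b` to itself by left multiplication -/
def Nst (b : G) : Subgroup G where
  carrier := {x | ∀ d, d ∈ cls b ↔ x * d ∈ cls b}
  one_mem' := by intro d; rw [one_mul]
  mul_mem' := by
    intro x y hx hy d
    rw [mul_assoc]
    exact (hy d).trans (hx _)
  inv_mem' := by
    intro x hx d
    have := hx (x⁻¹ * d)
    rw [mul_inv_cancel_left] at this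
    exact this.symm

omit [Finite G] in
theorem nst_normal (b : G) : (Nst b).Normal := by
  constructor
  intro n hn g d
  have h1 : d ∈ cls b ↔ g⁻¹ * d * g ∈ cls b := by
    constructor
    · intro h
      have := cls_conj h g⁻¹
      rwa [inv_inv] at this
    · intro h
      have := cls_conj h g
      rwa [show g * (g⁻¹ * d * g) * g⁻¹ = d by group] at this
  have h2 : g * n * g⁻¹ * d ∈ cls b ↔ n * (g⁻¹ * d * g) ∈ cls b := by
    constructor
    · intro h
      have := cls_conj h g⁻¹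
      rwa [inv_inv, show g⁻¹ * (g * n * g⁻¹ * d) * g = n * (g⁻¹ * d * g) by group] at this
    · intro h
      have := cls_conj h g
      rwa [show g * (n * (g⁻¹ * d * g)) * g⁻¹ = g * n * g⁻¹ * d by group] at this
  rw [h1, h2]
  exact hn _

theorem card_nst_dvd (b : G) : Nat.card (Nst b) ∣ ci b := by
  have hn := nst_normal b
  have h1 : cls b = QuotientGroup.mk ⁻¹' ((QuotientGroup.mk : G → G ⧸ Nst b) '' cls b) := by
    ext x
    constructor
    · intro h
      exact ⟨x, h, rfl⟩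
    · rintro ⟨d, hd, hdx⟩
      rw [QuotientGroup.eq] at hdx
      have h2 : x * d⁻¹ ∈ Nst b := by
        have := hn.conj_mem _ hdx d
        rwa [show d * (d⁻¹ * x) * d⁻¹ = x * d⁻¹ by group] at this
      have h3 := (h2 d).1 hd
      rwa [inv_mul_cancel_right] at h3
  rw [← card_cls, h1, Nat.card_congr (QuotientGroup.preimageMkEquivSubgroupProdSet _ _), Nat.card_prod]
  exact dvd_mul_right _ _

omit [Finite G] in
theorem relIndex_dvd_of_normal {N H : Subgroup G} [Finite G] (hN : N.Normal) : H.relIndex N ∣ H.index := by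
  obtain ⟨t, ht⟩ : N.relIndex H ∣ N.index := relIndex_dvd_index_of_normal N H
  have h1 : (H ⊓ N).relIndex N * N.index = (H ⊓ N).index := relIndex_mul_index inf_le_right
  have h2 : (H ⊓ N).relIndex H * H.index = (H ⊓ N).index := relIndex_mul_index inf_le_left
  rw [inf_relIndex_right] at h1
  rw [inf_relIndex_left, ← h1, ht] at h2
  refine ⟨t, ?_⟩
  have h3 : 0 < N.relIndex H := Nat.pos_of_ne_zero fun h => by
    rw [h, zero_mul] at ht
    exact (FiniteIndex.index_ne_zero (H := N)) ht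
  have h4 : N.relIndex H * H.index = N.relIndex H * (H.relIndex N * t) := by rw [h2]; ring
  exact Nat.eq_of_mul_eq_mul_left h3 h4

/-- **Step 2.** -/
theorem dvd_of_coprime {p : ℕ} [Fact p.Prime] {a b : G} (ha : ∃ k : ℕ, orderOf a = p ^ k)
    (hac : a ∉ center G) (h1 : (ci a).Coprime (ci b)) (h2 : (ci (a * b)).Coprime (ci a)) : p ∣ ci b := by
  -- the basic relation
  have key : ∀ c ∈ cls a, ∀ d ∈ cls b, c⁻¹ * a * d ∈ cls b := by
    rintro c hc _ ⟨g, rfl⟩
    obtain ⟨k, hk, h, hh, rfl⟩ := exists_mul_of_coprime h1.symm g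
    rw [mem_C] at hk hh
    have h3 : k * h * b * (k * h)⁻¹ = k * b * k⁻¹ := by
      calc k * h * b * (k * h)⁻¹ = k * (h * b) * h⁻¹ * k⁻¹ := by group
        _ = k * (b * h) * h⁻¹ * k⁻¹ := by rw [hh]
        _ = k * b * k⁻¹ := by group
    rw [h3]
    obtain ⟨g', hg'⟩ : k⁻¹ * c * k⁻¹⁻¹ ∈ cls a := cls_conj hc k⁻¹
    obtain ⟨k', hk', h', hh', rfl⟩ := exists_mul_of_coprime h2.symm g'
    rw [mem_C] at hk' hh'
    have h4 : k' * h' * a * (k' * h')⁻¹ = k' * a * k'⁻¹ := by
      calc k' * h' * a * (k' * h')⁻¹ = k' * (h' * a) * h'⁻¹ * k'⁻¹ := by group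
        _ = k' * (a * h') * h'⁻¹ * k'⁻¹ := by rw [hh']
        _ = k' * a * k'⁻¹ := by group
    rw [h4] at hg'
    have h5 : (k' * a * k'⁻¹) * (k' * b * k'⁻¹) = a * b := by
      calc (k' * a * k'⁻¹) * (k' * b * k'⁻¹) = k' * (a * b) * k'⁻¹ := by group
        _ = (a * b * k') * k'⁻¹ := by rw [hk']
        _ = a * b := by group
    have h6 : c⁻¹ * a * (k * b * k⁻¹) = k * ((k' * a * k'⁻¹)⁻¹ * (a * b)) * k⁻¹ := by
      rw [← hg']
      have h7 : c⁻¹ * a * (k * b * k⁻¹) = c⁻¹ * (a * k) * b * k⁻¹ := by group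
      rw [h7, hk]
      group
    rw [h6]
    apply cls_conj
    have h8 : (k' * a * k'⁻¹)⁻¹ * (a * b) = k' * b * k'⁻¹ := by
      rw [← h5]; group
    rw [h8]
    exact ⟨k', rfl⟩
  have key2 : ∀ c ∈ cls a, ∀ c' ∈ cls a, ∀ d ∈ cls b, c⁻¹ * c' * d ∈ cls b := by
    rintro c hc _ ⟨g, rfl⟩ d hd
    have h3 := key (g⁻¹ * c * g⁻¹⁻¹) (cls_conj hc g⁻¹) (g⁻¹ * d * g⁻¹⁻¹) (cls_conj hd g⁻¹)
    have h4 := cls_conj h3 g
    have h5 : g * ((g⁻¹ * c * g⁻¹⁻¹)⁻¹ * a * (g⁻¹ * d * g⁻¹⁻¹)) * g⁻¹ = c⁻¹ * (g * a * g⁻¹) * d := by group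
    rwa [h5] at h4
  have key3 : ∀ c ∈ cls a, ∀ c' ∈ cls a, c⁻¹ * c' ∈ Nst b := by
    intro c hc c' hc' d
    refine ⟨key2 c hc c' hc' d, fun h => ?_⟩
    have := key2 c' hc' c hc _ h
    rwa [show c'⁻¹ * c * (c⁻¹ * c' * d) = d by group] at this
  have hn := nst_normal b
  have hle : Nst b ≤ centralizer ({a} : Set G) := by
    rw [← relIndex_eq_one]
    have h3 : (centralizer ({a} : Set G)).relIndex (Nst b) ∣ ci a := relIndex_dvd_of_normal hn
    have h4 : (centralizer ({a} : Set G)).relIndex (Nst b) ∣ ci b :=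
      (relIndex_dvd_card _ _).trans (card_nst_dvd b)
    exact Nat.dvd_one.1 (h1 ▸ Nat.dvd_gcd h3 h4)
  rw [mem_center_iff] at hac
  push Not at hac
  obtain ⟨g, hg⟩ := hac
  have haa : a ∈ cls a := ⟨1, by group⟩
  have hx := key3 _ (⟨g, rfl⟩ : g * a * g⁻¹ ∈ cls a) a haa
  set c := g * a * g⁻¹ with hc
  have hcomm : Commute c⁻¹ a := by
    have h3 := mem_C.1 (hle hx)
    -- a * (c⁻¹ * a) = c⁻¹ * a * a
    have h4 : a * c⁻¹ = c⁻¹ * a := by
      apply mul_right_cancel (b := a)
      rw [mul_assoc]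
      exact h3
    exact h4.symm
  have hne : c⁻¹ * a ≠ 1 := by
    intro h
    apply hg
    have h3 : c = a := (inv_mul_eq_one.1 h)
    rw [hc, mul_inv_eq_iff_eq_mul] at h3
    exact h3
  obtain ⟨k, hk⟩ := ha
  have hck : c ^ p ^ k = 1 := by
    rw [hc, conj_pow, ← hk, pow_orderOf_eq_one]; group
  have hpow : (c⁻¹ * a) ^ p ^ k = 1 := by
    rw [hcomm.mul_pow, inv_pow, hck, ← hk, pow_orderOf_eq_one, inv_one, one_mul]
  obtain ⟨j, -, hj⟩ := (Nat.dvd_prime_pow (Fact.out : p.Prime)).1 (orderOf_dvd_of_pow_eq_one hpow)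
  have hj0 : j ≠ 0 := by
    rintro rfl
    rw [pow_zero, orderOf_eq_one_iff] at hj
    exact hne hj
  have h5 : orderOf (c⁻¹ * a) ∣ Nat.card (Nst b) := by
    rw [← Nat.card_zpowers]
    exact card_dvd_of_le (by rw [zpowers_le]; exact hx)
  exact ((dvd_pow_self p hj0).trans (hj ▸ h5)).trans (card_nst_dvd b)

theorem ppow_dvd {p : ℕ} (hp : p.Prime) {n k : ℕ} (h : n ∣ p ^ k) {q : ℕ} (hq : q.Prime) (hqn : q ∣ n) : q = p :=
  (Nat.prime_dvd_prime_iff_eq hq hp).1 (hq.dvd_of_dvd_pow (hqn.trans h))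

/-- **Step 3.** -/
theorem ppow_of_coprime {p : ℕ} [Fact p.Prime] {a w : G} (P : Sylow p G)
    (hP : (P : Subgroup G) ≤ centralizer ({a} : Set G))
    (hu : ∀ u : G, Commute a u → (orderOf u).Coprime p → ¬ p ∣ (centralizer ({a} : Set G) ⊓ centralizer ({u} : Set G)).index)
    (hw : w ∈ (P : Subgroup G)) (hc : (ci w).Coprime (ci a)) {q : ℕ} (hq : q.Prime) (hqw : q ∣ ci w) : q = p := by
  have hp : p.Prime := Fact.out
  set H := centralizer ({a} : Set G) with hH
  let PH : Sylow p ↥H := P.subtype hP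
  have h1 : (PH : Subgroup ↥H) ⊔ centralizer ((PH : Subgroup ↥H) : Set ↥H) = ⊤ := by
    refine sylow_sup_centralizer (fun y hy hpy => ?_) PH
    refine hu y.1 (mem_C.1 y.2) (by rwa [Subgroup.orderOf_coe]) ?_
    have h2 : (centralizer ({y} : Set ↥H)).index ∣ (H ⊓ centralizer ({(y : G)} : Set G)).index := by
      have h3 : centralizer ({y} : Set ↥H) = (H ⊓ centralizer ({(y : G)} : Set G)).subgroupOf H := by
        ext z
        rw [mem_subgroupOf, mem_inf]
        constructor
        · intro h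
          exact ⟨z.2, mem_C.2 (congrArg Subtype.val (mem_C.1 h))⟩
        · rintro ⟨-, h⟩
          exact mem_C.2 (Subtype.ext (mem_C.1 h))
      rw [h3, ← relIndex_mul_index (inf_le_left : H ⊓ centralizer ({(y : G)} : Set G) ≤ H)]
      exact dvd_mul_right _ _
    exact hpy.trans h2
  obtain ⟨hn, -⟩ := normal_and_complement PH h1
  have hCn : (centralizer ((PH : Subgroup ↥H) : Set ↥H)).Normal := inferInstance
  have h2 : (centralizer ((PH : Subgroup ↥H) : Set ↥H)).index ∣ Nat.card PH := by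
    rw [← relIndex_top_right, ← h1, relIndex_sup_right]
    exact relIndex_dvd_card _ _
  have h3 : (centralizer ({w} : Set G)).relIndex H = ci w := by
    have h4 : (centralizer ({w} : Set G) ⊓ H).relIndex H * H.index = (centralizer ({w} : Set G) ⊓ H).index :=
      relIndex_mul_index inf_le_right
    rw [index_inf_of_coprime hc, inf_relIndex_right] at h4
    exact Nat.eq_of_mul_eq_mul_right (Nat.pos_of_ne_zero FiniteIndex.index_ne_zero) h4
  have h4 : (centralizer ({w} : Set G)).relIndex H ∣ (centralizer ((PH : Subgroup ↥H) : Set ↥H)).index := by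
    apply index_dvd_of_le
    intro z hz
    rw [mem_subgroupOf, mem_C]
    have h5 := mem_centralizer_iff.1 hz ⟨w, hP hw⟩ (show (⟨w, hP hw⟩ : ↥H) ∈ ((PH : Subgroup ↥H) : Set ↥H) from hw)
    exact congrArg Subtype.val h5
  rw [h3] at h4
  obtain ⟨k, hk⟩ := PH.isPGroup'.exists_card_eq
  exact ppow_dvd hp (hk ▸ (h4.trans h2)) hq hqw

theorem mem_sylow_of_ppow {p : ℕ} [Fact p.Prime] {w : G} (hw : ∃ k : ℕ, orderOf w = p ^ k)
    (h : ∀ q : ℕ, q.Prime → q ∣ ci w → q = p) (P : Sylow p G) : w ∈ (P : Subgroup G) := by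
  obtain ⟨g, hg⟩ := exists_conj_mem P hw
  have hc : (ci w).Coprime (P : Subgroup G).index := by
    rw [Nat.coprime_iff_gcd_eq_one]
    by_contra hne
    obtain ⟨q, hq, hqd⟩ := Nat.exists_prime_and_dvd hne
    have h1 := h q hq (hqd.trans (Nat.gcd_dvd_left _ _))
    subst h1
    exact P.not_dvd_index (hqd.trans (Nat.gcd_dvd_right _ _))
  obtain ⟨k, hk, h, hh, rfl⟩ := exists_mul_of_coprime hc g
  rw [mem_C] at hh
  have h3 : k * h * w * (k * h)⁻¹ = k * w * k⁻¹ := by
    calc k * h * w * (k * h)⁻¹ = k * (h * w) * h⁻¹ * k⁻¹ := by group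
      _ = k * (w * h) * h⁻¹ * k⁻¹ := by rw [hh]
      _ = k * w * k⁻¹ := by group
  rw [h3] at hg
  have : w = k⁻¹ * (k * w * k⁻¹) * k := by group
  rw [this]
  exact mul_mem (mul_mem (inv_mem hk) hg) hk

theorem exists_orderOf_pow {p : ℕ} [Fact p.Prime] {P : Subgroup G} (hP : IsPGroup p P) {x : G} (hx : x ∈ P) :
    ∃ k : ℕ, orderOf x = p ^ k := by
  obtain ⟨k, hk⟩ := IsPGroup.iff_orderOf.1 hP ⟨x, hx⟩
  exact ⟨k, by rw [← hk, Subgroup.orderOf_mk]⟩

/-- **The final step**: the Sylow `p`-subgroup is normal, and each of its elements has class size a power of `p` or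
prime to `p`. -/
theorem final {p : ℕ} [Fact p.Prime] (P : Sylow p G) (hPn : (P : Subgroup G).Normal)
    (hZ : ¬ p ∣ Nat.card (center G))
    (hD : ∀ w ∈ (P : Subgroup G), (∀ q : ℕ, q.Prime → q ∣ ci w → q = p) ∨ ¬ p ∣ ci w) {b : G}
    (hb : b ∈ (P : Subgroup G)) (hpb : p ∣ ci b) : False := by
  have hp : p.Prime := Fact.out
  have hcen : ∀ w : G, ¬ p ∣ ci w → ∀ x ∈ (P : Subgroup G), w * x = x * w := by
    intro w hw x hx
    obtain ⟨Q, hQ⟩ := exists_sylow_le hw
    have h1 : Q = P := ((P.unique_of_normal hPn).uniq Q).trans ((P.unique_of_normal hPn).uniq P).symm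
    rw [h1] at hQ
    exact mem_C.1 (hQ hx)
  have hnil : Group.IsNilpotent ↥(P : Subgroup G) := P.isPGroup'.isNilpotent
  -- the commutator subgroup is centralized by the Sylow `q`-subgroups
  have hq : ∀ q : ℕ, q.Prime → q ≠ p → ∀ Q : Sylow q G, ∀ x y : ↥(P : Subgroup G), ∀ z ∈ (Q : Subgroup G),
      (x.1 * y.1 * x.1⁻¹ * y.1⁻¹) * z = z * (x.1 * y.1 * x.1⁻¹ * y.1⁻¹) := by
    intro q hq hqp Q x y z hz
    have hqf : Fact q.Prime := ⟨hq⟩
    let P0 : Subgroup ↥(P : Subgroup G) :=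
      (centralizer ((Q : Subgroup G) : Set G)).subgroupOf (P : Subgroup G) ⊔ center ↥(P : Subgroup G)
    have htop : P0 = ⊤ := by
      by_contra hne
      obtain ⟨g, hg⟩ := Cfsg.Agent.H395.Jordan.exists_not_conj_mem hne
      rcases hD g.1 g.2 with h | h
      · have hqg : ¬ q ∣ ci g.1 := fun hd => hqp (h q hq hd)
        obtain ⟨Q', hQ'⟩ := exists_sylow_le hqg
        obtain ⟨t, ht⟩ := MulAction.exists_smul_eq G Q Q'
        have hc : (P : Subgroup G).index.Coprime (ci g.1) := by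
          rw [Nat.coprime_iff_gcd_eq_one]
          by_contra hne
          obtain ⟨r, hr, hrd⟩ := Nat.exists_prime_and_dvd hne
          have h1 := h r hr (hrd.trans (Nat.gcd_dvd_right _ _))
          subst h1
          exact P.not_dvd_index (hrd.trans (Nat.gcd_dvd_left _ _))
        obtain ⟨c, hcc, k, hk, rfl⟩ := exists_mul_of_coprime hc t
        apply hg ⟨k, hk⟩
        apply mem_sup_left
        rw [mem_subgroupOf, mem_centralizer_iff]
        intro y hy
        have h2 : (c * k) * y * (c * k)⁻¹ ∈ (Q' : Subgroup G) := by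
          rw [← ht]
          show (c * k) * y * (c * k)⁻¹ ∈ (((c * k) • Q : Sylow q G) : Subgroup G)
          rw [Sylow.coe_subgroup_smul]
          exact ⟨y, hy, rfl⟩
        have h3 := mem_C.1 (hQ' h2)
        rw [mem_C] at hcc
        show y * (k⁻¹ * g.1 * k) = (k⁻¹ * g.1 * k) * y
        have h4 : g.1 * (c * (k * y * k⁻¹) * c⁻¹) = c * (k * y * k⁻¹) * c⁻¹ * g.1 := by
          rw [show c * (k * y * k⁻¹) * c⁻¹ = c * k * y * (c * k)⁻¹ by group]
          exact h3
        have h5 : c⁻¹ * g.1 = g.1 * c⁻¹ := by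
          rw [inv_mul_eq_iff_eq_mul, ← mul_assoc, ← hcc, mul_inv_cancel_right]
        have h6 : g.1 * (k * y * k⁻¹) = (k * y * k⁻¹) * g.1 := by
          have h7 : c * (g.1 * (k * y * k⁻¹)) * c⁻¹ = c * ((k * y * k⁻¹) * g.1) * c⁻¹ := by
            calc c * (g.1 * (k * y * k⁻¹)) * c⁻¹ = (c * g.1) * (k * y * k⁻¹) * c⁻¹ := by group
              _ = (g.1 * c) * (k * y * k⁻¹) * c⁻¹ := by rw [hcc]
              _ = g.1 * (c * (k * y * k⁻¹) * c⁻¹) := by group
              _ = c * (k * y * k⁻¹) * c⁻¹ * g.1 := h4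
              _ = c * (k * y * k⁻¹) * (c⁻¹ * g.1) := by group
              _ = c * (k * y * k⁻¹) * (g.1 * c⁻¹) := by rw [h5]
              _ = c * ((k * y * k⁻¹) * g.1) * c⁻¹ := by group
          exact mul_left_cancel (mul_right_cancel h7)
        calc y * (k⁻¹ * g.1 * k) = k⁻¹ * ((k * y * k⁻¹) * g.1) * k := by group
          _ = k⁻¹ * (g.1 * (k * y * k⁻¹)) * k := by rw [h6]
          _ = (k⁻¹ * g.1 * k) * y := by group
      · exact hg 1 (by
          apply mem_sup_right
          rw [inv_one, one_mul, mul_one, mem_center_iff]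
          intro x
          exact Subtype.ext (hcen g.1 h x.1 x.2).symm)
    have hdec : ∀ x : ↥(P : Subgroup G), ∃ c ∈ centralizer ((Q : Subgroup G) : Set G), ∃ z : G,
        (∀ y ∈ (P : Subgroup G), z * y = y * z) ∧ x.1 = c * z ∧ c ∈ (P : Subgroup G) ∧ z ∈ (P : Subgroup G) := by
      intro x
      have h1 : x ∈ P0 := by rw [htop]; exact mem_top x
      obtain ⟨c, hc, z, hz, rfl⟩ := mem_sup_of_normal_right.1 h1
      refine ⟨c.1, hc, z.1, fun y hy => ?_, rfl, c.2, z.2⟩
      exact (congrArg Subtype.val (mem_center_iff.1 hz ⟨y, hy⟩)).symm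
    obtain ⟨c, hc, z1, hz1, hx, hcP, hz1P⟩ := hdec x
    obtain ⟨d, hd, z2, hz2, hy, hdP, hz2P⟩ := hdec y
    have h1 : x.1 * y.1 * x.1⁻¹ * y.1⁻¹ = c * d * c⁻¹ * d⁻¹ := by
      rw [hx, hy, mul_inv_rev, mul_inv_rev]
      have e1 : z1 * (d * z2) = d * z2 * z1 := hz1 _ (mul_mem hdP hz2P)
      calc c * z1 * (d * z2) * (z1⁻¹ * c⁻¹) * (z2⁻¹ * d⁻¹)
          = c * (z1 * (d * z2)) * (z1⁻¹ * c⁻¹) * (z2⁻¹ * d⁻¹) := by group
        _ = c * (d * z2 * z1) * (z1⁻¹ * c⁻¹) * (z2⁻¹ * d⁻¹) := by rw [e1]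
        _ = c * d * (z2 * c⁻¹) * z2⁻¹ * d⁻¹ := by group
        _ = c * d * (c⁻¹ * z2) * z2⁻¹ * d⁻¹ := by rw [hz2 _ (inv_mem hcP)]
        _ = c * d * c⁻¹ * d⁻¹ := by group
    rw [h1]
    have h2 : c * d * c⁻¹ * d⁻¹ ∈ centralizer ((Q : Subgroup G) : Set G) :=
      mul_mem (mul_mem (mul_mem hc hd) (inv_mem hc)) (inv_mem hd)
    exact ((mem_centralizer_iff.1 h2) z hz).symm
  -- the group is not commutative
  have hPb : ¬ (P : Subgroup G) ≤ centralizer ({b} : Set G) := fun h =>
    P.not_dvd_index (hpb.trans (index_dvd_of_le h))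
  have hne : commutator ↥(P : Subgroup G) ≠ ⊥ := by
    intro h
    apply hPb
    intro x hx
    rw [mem_C]
    have h1 : ⁅(⟨b, hb⟩ : ↥(P : Subgroup G)), ⟨x, hx⟩⁆ ∈ commutator ↥(P : Subgroup G) :=
      commutator_mem_commutator (mem_top _) (mem_top _)
    rw [h, mem_bot, commutatorElement_eq_one_iff_mul_comm] at h1
    exact congrArg Subtype.val h1
  have h1 := Cfsg.Agent.Lib.NormalAbelian.normal_inf_center_ne_bot (commutator ↥(P : Subgroup G)) hne
  obtain ⟨⟨z, hzc, hzz⟩, hz1'⟩ := ne_bot_iff_exists_ne_one.1 h1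
  have hz1 : z ≠ 1 := fun h => hz1' (Subtype.ext h)
  have hcz : z.1 ∈ center G := by
    rw [← ci_eq_one]
    by_contra hne1
    obtain ⟨r, hr, hrd⟩ := Nat.exists_prime_and_dvd hne1
    by_cases hrp : r = p
    · subst hrp
      refine P.not_dvd_index (hrd.trans (index_dvd_of_le fun x hx => mem_C.2 ?_))
      exact (congrArg Subtype.val (mem_center_iff.1 hzz ⟨x, hx⟩)).symm
    · have hrf : Fact r.Prime := ⟨hr⟩
      obtain ⟨Q⟩ : Nonempty (Sylow r G) := inferInstance
      refine Q.not_dvd_index (hrd.trans (index_dvd_of_le fun x hx => mem_C.2 ?_))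
      have h2 : commutator ↥(P : Subgroup G) ≤ (centralizer ({x} : Set G)).subgroupOf (P : Subgroup G) := by
        rw [commutator_def, commutator_le]
        intro u _ v _
        rw [mem_subgroupOf, mem_C]
        exact (hq r hr hrp Q u v x hx).symm
      exact (mem_C.1 (mem_subgroupOf.1 (h2 hzc))).symm
  apply hZ
  obtain ⟨k, hk⟩ := exists_orderOf_pow P.isPGroup' z.2
  have hk0 : k ≠ 0 := by
    rintro rfl
    rw [pow_zero, orderOf_eq_one_iff] at hk
    exact hz1 (Subtype.ext hk)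
  have h3 : orderOf z.1 ∣ Nat.card (center G) := by
    rw [← Nat.card_zpowers]
    exact card_dvd_of_le (by rw [zpowers_le]; exact hcz)
  exact (dvd_pow_self p hk0).trans (hk ▸ h3)

omit [Finite G] in
theorem centralizer_mul {a u : G} (h : Commute a u) (hc : (orderOf a).Coprime (orderOf u)) :
    centralizer ({a * u} : Set G) = centralizer ({a} : Set G) ⊓ centralizer ({u} : Set G) := by
  apply le_antisymm
  · intro g hg
    rw [mem_C] at hg
    have hg' : Commute (a * u) g := hg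
    -- a power of `a u` is `a`
    obtain ⟨k, hk1, hk2⟩ := Nat.chineseRemainder hc 1 0
    have h1 : (a * u) ^ k = a := by
      rw [h.mul_pow]
      have h2 : a ^ k = a := by
        conv_rhs => rw [← pow_one a]
        exact pow_eq_pow_iff_modEq.2 hk1
      have h3 : u ^ k = 1 := by
        rw [← pow_zero u]
        exact pow_eq_pow_iff_modEq.2 hk2
      rw [h2, h3, mul_one]
    have h4 : Commute a g := by
      have := hg'.pow_left k
      rwa [h1] at this
    refine ⟨mem_C.2 h4, mem_C.2 ?_⟩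
    have h5 : u = a⁻¹ * (a * u) := by group
    rw [h5]
    exact (h4.inv_left.mul_left hg')
  · rintro g ⟨h1, h2⟩
    rw [mem_C]
    exact (show Commute a g from mem_C.1 h1).mul_left (show Commute u g from mem_C.1 h2)

/-- **The core**: two non-central `p`-elements. -/
theorem core {p : ℕ} [Fact p.Prime] (hZ : ¬ p ∣ Nat.card (center G)) {a b : G} (ha : ∃ k : ℕ, orderOf a = p ^ k)
    (hb : ∃ k : ℕ, orderOf b = p ^ k) (hac : a ∉ center G) (hbc : b ∉ center G) (hpa : ¬ p ∣ ci a)
    (hno : ∀ w : G, p ∣ orderOf w → (ci w).Coprime (ci a) ∨ (ci w).Coprime (ci b)) : False := by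
  have hp : p.Prime := Fact.out
  have dvd_ord : ∀ w : G, (∃ k : ℕ, orderOf w = p ^ k) → w ≠ 1 → p ∣ orderOf w := by
    rintro w ⟨k, hk⟩ hw
    rw [hk]
    refine dvd_pow_self p ?_
    rintro rfl
    rw [pow_zero, orderOf_eq_one_iff] at hk
    exact hw hk
  have ha1 : a ≠ 1 := fun h => hac (h ▸ one_mem _)
  have hb1 : b ≠ 1 := fun h => hbc (h ▸ one_mem _)
  have hca1 : ci a ≠ 1 := fun h => hac (ci_eq_one.1 h)
  have hcb1 : ci b ≠ 1 := fun h => hbc (ci_eq_one.1 h)
  have hab : (ci a).Coprime (ci b) := by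
    rcases hno a (dvd_ord a ha ha1) with h | h
    · exact absurd ((Nat.coprime_self _).1 h) hca1
    · exact h
  have hcomm := commute_of_coprime hb hab hpa
  have habp : ∃ k : ℕ, orderOf (a * b) = p ^ k := by
    obtain ⟨k, hk⟩ := ha
    obtain ⟨l, hl⟩ := hb
    have h1 : (a * b) ^ p ^ (k + l) = 1 := by
      rw [hcomm.mul_pow, pow_add, pow_mul, ← hk, pow_orderOf_eq_one, one_pow, one_mul, mul_comm, pow_mul, ← hl,
        pow_orderOf_eq_one, one_pow]
    obtain ⟨j, -, hj⟩ := (Nat.dvd_prime_pow hp).1 (orderOf_dvd_of_pow_eq_one h1)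
    exact ⟨j, hj⟩
  have hab1 : a * b ≠ 1 := by
    intro h
    have h1 : a = b⁻¹ := eq_inv_of_mul_eq_one_left h
    have h2 : ci a = ci b := by
      have h3 : centralizer ({a} : Set G) = centralizer ({b} : Set G) := by
        rw [h1]
        ext g
        rw [mem_C, mem_C]
        exact Commute.inv_left_iff
      show (centralizer ({a} : Set G)).index = (centralizer ({b} : Set G)).index
      rw [h3]
    rw [h2] at hab
    exact hcb1 ((Nat.coprime_self _).1 hab)
  have hpb : p ∣ ci b := by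
    rcases hno _ (dvd_ord _ habp hab1) with h | h
    · exact dvd_of_coprime ha hac hab h
    · exfalso
      apply hpa
      refine dvd_of_coprime hb hbc hab.symm ?_
      rw [← hcomm.eq]
      exact h
  obtain ⟨P, hP⟩ := exists_sylow_le hpa
  -- the dichotomy
  have hu : ∀ u : G, Commute a u → (orderOf u).Coprime p →
      ¬ p ∣ (centralizer ({a} : Set G) ⊓ centralizer ({u} : Set G)).index := by
    intro u hau hup
    obtain ⟨k, hk⟩ := ha
    have hc : (orderOf a).Coprime (orderOf u) := by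
      rw [hk]
      exact (hup.symm.pow_left k)
    rw [← centralizer_mul hau hc]
    have h1 : p ∣ orderOf (a * u) := by
      rw [hau.orderOf_mul_eq_mul_orderOf_of_coprime hc]
      exact (dvd_ord a ⟨k, hk⟩ ha1).trans (dvd_mul_right _ _)
    have h2 : ci a ∣ ci (a * u) := by
      apply index_dvd_of_le
      rw [centralizer_mul hau hc]
      exact inf_le_left
    rcases hno _ h1 with h | h
    · exact absurd (Nat.dvd_one.1 (h ▸ Nat.dvd_gcd h2 dvd_rfl)) hca1
    · intro h3
      exact hp.one_lt.ne' (Nat.dvd_one.1 (h ▸ Nat.dvd_gcd h3 hpb))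
  have hD : ∀ w : G, (∃ k : ℕ, orderOf w = p ^ k) → (∀ q : ℕ, q.Prime → q ∣ ci w → q = p) ∨ ¬ p ∣ ci w := by
    intro w hw
    by_cases hw1 : w = 1
    · right
      rw [hw1, ci_eq_one.2 (one_mem _)]
      exact hp.one_lt.ne' ∘ Nat.dvd_one.1
    rcases hno w (dvd_ord w hw hw1) with h | h
    · left
      intro q hq hqw
      obtain ⟨g, hg⟩ := exists_conj_mem P hw
      refine ppow_of_coprime P hP hu hg ?_ hq ?_
      · rw [ci_conj]; exact h
      · rw [ci_conj]; exact hqw
    · right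
      intro h3
      exact hp.one_lt.ne' (Nat.dvd_one.1 (h ▸ Nat.dvd_gcd h3 hpb))
  -- elements outside the intersection of the Sylow subgroups
  have hout : ∀ x : G, (∃ k : ℕ, orderOf x = p ^ k) → (∃ Q : Sylow p G, x ∉ (Q : Subgroup G)) →
      ∀ r : G, (∀ Q : Sylow p G, r ∈ (Q : Subgroup G)) → Commute x r := by
    rintro x hx ⟨Q, hQ⟩ r hr
    rcases hD x hx with h | h
    · exact absurd (mem_sylow_of_ppow hx h Q) hQ
    · obtain ⟨Q', hQ'⟩ := exists_sylow_le h
      exact mem_C.1 (hQ' (hr Q'))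
  have hbR : ∀ Q : Sylow p G, b ∈ (Q : Subgroup G) := by
    intro Q
    rcases hD b hb with h | h
    · exact mem_sylow_of_ppow hb h Q
    · exact absurd hpb h
  have hall : ∀ x ∈ (P : Subgroup G), ∀ Q : Sylow p G, x ∈ (Q : Subgroup G) := by
    by_contra hcon
    push Not at hcon
    obtain ⟨x, hxP, Q, hxQ⟩ := hcon
    have hpP : ∀ y ∈ (P : Subgroup G), ∃ k : ℕ, orderOf y = p ^ k := fun y hy => exists_orderOf_pow P.isPGroup' hy
    have hle : (P : Subgroup G) ≤ centralizer ({b} : Set G) := by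
      intro y hy
      rw [mem_C]
      by_cases hyR : ∃ Q : Sylow p G, y ∉ (Q : Subgroup G)
      · exact (hout y (hpP y hy) hyR b hbR).symm
      · push Not at hyR
        have h1 : Commute x b := hout x (hpP x hxP) ⟨Q, hxQ⟩ b hbR
        have h2 : Commute (x * y) b := hout (x * y) (hpP _ (mul_mem hxP hy))
          ⟨Q, fun h => hxQ ((mul_mem_cancel_right (hyR Q)).1 h)⟩ b hbR
        have h3 : Commute (x⁻¹ * (x * y)) b := h1.inv_left.mul_left h2
        rw [inv_mul_cancel_left] at h3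
        exact h3.symm
    exact P.not_dvd_index (hpb.trans (index_dvd_of_le hle))
  have hPn : (P : Subgroup G).Normal := by
    constructor
    intro x hx g
    have h1 := hall x hx (g⁻¹ • P)
    rw [Sylow.coe_subgroup_smul] at h1
    obtain ⟨y, hy, hyx⟩ := h1
    have h2 : g⁻¹ * y * g⁻¹⁻¹ = x := hyx
    have h3 : g * x * g⁻¹ = y := by rw [← h2]; group
    rw [h3]
    exact hy
  exact final P hPn hZ (fun w hw => hD w (exists_orderOf_pow P.isPGroup' hw)) (hbR P) hpb

/-- **The link between two `p`-singular elements.** -/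
theorem exists_link {p : ℕ} [Fact p.Prime] (hZ : ¬ p ∣ Nat.card (center G)) {x y : G} (hx : p ∣ orderOf x)
    (hy : p ∣ orderOf y) : ∃ w : G, p ∣ orderOf w ∧ ¬ (ci w).Coprime (ci x) ∧ ¬ (ci w).Coprime (ci y) := by
  have hp : p.Prime := Fact.out
  by_contra hcon
  push Not at hcon
  have part : ∀ x : G, p ∣ orderOf x → ∃ a ∈ zpowers x, (∃ k : ℕ, orderOf a = p ^ k) ∧ a ∉ center G := by
    intro x hx
    obtain ⟨a, b, hab, hcomm, ha, hb, haz, -⟩ := exists_decomp p x
    refine ⟨a, haz, ha, ?_⟩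
    intro hac
    obtain ⟨k, hk⟩ := ha
    have hk0 : k ≠ 0 := by
      rintro rfl
      rw [pow_zero, orderOf_eq_one_iff] at hk
      rw [hk, one_mul] at hab
      rw [hab] at hb
      exact hp.one_lt.ne' (Nat.dvd_one.1 (hb ▸ Nat.dvd_gcd hx dvd_rfl))
    apply hZ
    have h3 : orderOf a ∣ Nat.card (center G) := by
      rw [← Nat.card_zpowers]
      exact card_dvd_of_le (by rw [zpowers_le]; exact hac)
    exact (dvd_pow_self p hk0).trans (hk ▸ h3)
  obtain ⟨a, hax, ha, hac⟩ := part x hx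
  obtain ⟨b, hby, hb, hbc⟩ := part y hy
  have hno : ∀ w : G, p ∣ orderOf w → (ci w).Coprime (ci a) ∨ (ci w).Coprime (ci b) := by
    intro w hw
    by_cases h : (ci w).Coprime (ci x)
    · exact Or.inl (h.coprime_dvd_right (ci_dvd_of_zpow hax))
    · exact Or.inr ((hcon w hw h).coprime_dvd_right (ci_dvd_of_zpow hby))
  by_cases hpa : p ∣ ci a
  · have hpb : ¬ p ∣ ci b := by
      intro hpb
      have ha1 : a ≠ 1 := fun h => hac (h ▸ one_mem _)
      have hao : p ∣ orderOf a := by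
        obtain ⟨k, hk⟩ := ha
        rw [hk]
        refine dvd_pow_self p ?_
        rintro rfl
        rw [pow_zero, orderOf_eq_one_iff] at hk
        exact ha1 hk
      rcases hno a hao with h | h
      · exact hac (ci_eq_one.1 ((Nat.coprime_self _).1 h))
      · exact hp.one_lt.ne' (Nat.dvd_one.1 (h ▸ Nat.dvd_gcd hpa hpb))
    exact core hZ hb ha hbc hac hpb fun w hw => (hno w hw).symm
  · exact core hZ ha hb hac hbc hpa hno

end Cfsg.Agent.H566.SingGraph
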