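import Cfsg.Agent.H566.SubnSet
import Cfsg.Agent.H568.Reduce
import Cfsg.Agent.H568.RowTools
import Cfsg.Agent.Lib.MinNormalNonabelian

/-!
# S4328: reduction to the simple groups (helper566)

`Av p a x` : `x` normalises no `p`-subgroup containing a conjugate of `a`.  In the wreath product situation such an `x`
exists as soon as it exists for the simple factor (`Cfsg.Agent.H568.Row`).
-/

set_option autoImplicit false

namespace Cfsg.Agent.H566.Subn

open Subgroup Cfsg.Agent.Lib.MinNormal Cfsg.Agent.Lib.MinNormalNonabelian Cfsg.Agent.H568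

universe u

variable {G : Type u} [Group G] {p : ℕ}

/-- `x` normalises no `p`-subgroup containing a conjugate of `a`. -/
def Av (p : ℕ) (a x : G) : Prop :=
  ∀ Y : Subgroup G, IsPGroup p Y → (∃ g : G, g * a * g⁻¹ ∈ Y) → x ∉ normalizer (Y : Set G)

/-- The components: an independent set of subgroups permuted by the group. -/
structure Comps (G : Type u) [Group G] (s : Set (Subgroup G)) : Prop where
  comm : ∀ S ∈ s, ∀ T ∈ s, S ≠ T → ∀ x ∈ S, ∀ y ∈ T, Commute x y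
  cent : ∀ T ∈ s, ∀ z ∈ T, (∀ t ∈ T, Commute z t) → z = 1
  map : ∀ T ∈ s, ∀ g : G, T.map (MulAut.conj g).toMonoidHom ∈ s

theorem mem_map_conj {T : Subgroup G} {g x : G} : x ∈ T.map (MulAut.conj g).toMonoidHom ↔ g⁻¹ * x * g ∈ T := by
  constructor
  · rintro ⟨y, hy, rfl⟩
    show g⁻¹ * (g * y * g⁻¹) * g ∈ T
    have : g⁻¹ * (g * y * g⁻¹) * g = y := by group
    rwa [this]
  · intro h
    refine ⟨_, h, ?_⟩
    show g * (g⁻¹ * x * g) * g⁻¹ = x
    group

theorem conj_mem_centralizer {T : Subgroup G} {g z : G} (h : z ∈ centralizer (T : Set G)) :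
    g * z * g⁻¹ ∈ centralizer ((T.map (MulAut.conj g).toMonoidHom : Subgroup G) : Set G) := by
  rw [mem_centralizer_iff] at h ⊢
  intro x hx
  have h1 := h _ (mem_map_conj.1 hx)
  calc x * (g * z * g⁻¹) = g * ((g⁻¹ * x * g) * z) * g⁻¹ := by group
    _ = g * z * g⁻¹ * x := by rw [h1]; group

/-- Elements with prescribed components. -/
theorem exists_prod [Finite G] {s : Set (Subgroup G)} (hs : Comps G s) (f : Subgroup G → G) (hf : ∀ T ∈ s, f T ∈ T) :
    ∃ x : G, ∀ T ∈ s, (f T)⁻¹ * x ∈ centralizer (T : Set G) := by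
  classical
  have key : ∀ t : Finset (Subgroup G), (∀ T ∈ t, T ∈ s) → ∃ x : G, (∀ T ∈ t, (f T)⁻¹ * x ∈ centralizer (T : Set G)) ∧
      ∀ T ∈ s, T ∉ t → x ∈ centralizer (T : Set G) := by
    intro t
    induction t using Finset.induction_on with
    | empty => exact fun _ => ⟨1, fun T hT => absurd hT (Finset.notMem_empty T), fun T _ _ => one_mem _⟩
    | insert V t hV ih =>
      intro ht
      obtain ⟨x, h1, h2⟩ := ih fun T hT => ht T (Finset.mem_insert_of_mem hT)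
      have hVs := ht V (Finset.mem_insert_self V t)
      have hcen : ∀ T ∈ s, T ≠ V → f V ∈ centralizer (T : Set G) := by
        intro T hT hne
        rw [mem_centralizer_iff]
        exact fun y hy => hs.comm T hT V hVs hne y hy _ (hf V hVs)
      refine ⟨f V * x, fun T hT => ?_, fun T hT hTt => ?_⟩
      · rcases Finset.mem_insert.1 hT with rfl | hTt
        · rw [inv_mul_cancel_left]
          exact h2 T hVs hV
        · have hne : T ≠ V := fun h => hV (h ▸ hTt)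
          have hTs := ht T hT
          have h3 : Commute (f T) (f V) := hs.comm T hTs V hVs hne _ (hf T hTs) _ (hf V hVs)
          have h4 : (f T)⁻¹ * (f V * x) = f V * ((f T)⁻¹ * x) := by
            rw [← mul_assoc, ← mul_assoc, h3.inv_left.eq]
          rw [h4]
          exact mul_mem (hcen T hTs hne) (h1 T hTt)
      · rw [Finset.mem_insert, not_or] at hTt
        exact mul_mem (hcen T hT hTt.1) (h2 T hT hTt.2)
  obtain ⟨x, h1, -⟩ := key (Set.toFinite s).toFinset (fun T hT => (Set.toFinite s).mem_toFinset.1 hT)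
  exact ⟨x, fun T hT => h1 T ((Set.toFinite s).mem_toFinset.2 hT)⟩

/-- **First case**: `a` normalises all components. -/
theorem exists_av_of_fix [Finite G] [hp : Fact p.Prime] {s : Set (Subgroup G)} (hs : Comps G s) {T : Subgroup G}
    (hT : T ∈ s) (htr : ∀ U ∈ s, ∃ g : G, T.map (MulAut.conj g).toMonoidHom = U) {a : G} (ha : orderOf a = p)
    (hfix : a ∈ normalizer (T : Set G)) (hnc : a ∉ centralizer (T : Set G)) (hrow : Row p ↥T) :
    ∃ x : G, Av p a x := by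
  classical
  set φ : ↥(normalizer (T : Set G)) →* MulAut ↥T := T.normalizerMonoidHom with hφ
  have hφa : ∀ (n : ↥(normalizer (T : Set G))) (t : ↥T), ((φ n t : ↥T) : G) = n * t * (n : G)⁻¹ := fun n t => rfl
  have hφc : ∀ n : ↥(normalizer (T : Set G)), φ n = 1 → (n : G) ∈ centralizer (T : Set G) := by
    intro n h
    rw [mem_centralizer_iff]
    intro t ht
    have h1 := hφa n ⟨t, ht⟩
    rw [h] at h1
    have h2 : t = n * t * (n : G)⁻¹ := h1
    rw [eq_mul_inv_iff_mul_eq] at h2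
    exact h2
  have hα : orderOf (φ ⟨a, hfix⟩) = p := by
    apply orderOf_eq_prime
    · rw [← map_pow]
      have h1 : (⟨a, hfix⟩ : ↥(normalizer (T : Set G))) ^ p = 1 := by
        apply Subtype.ext
        show a ^ p = 1
        rw [← ha, pow_orderOf_eq_one]
      rw [h1, map_one]
    · intro h
      exact hnc (hφc _ h)
  obtain ⟨y, -, hy⟩ := hrow _ hα
  have htr' : ∀ U : Subgroup G, ∃ g : G, U ∈ s → T.map (MulAut.conj g).toMonoidHom = U := by
    intro U
    by_cases hU : U ∈ s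
    · obtain ⟨g, hg⟩ := htr U hU
      exact ⟨g, fun _ => hg⟩
    · exact ⟨1, fun h => absurd h hU⟩
  choose h hh using htr'
  have hf : ∀ U ∈ s, h U * (y : G) * (h U)⁻¹ ∈ U := by
    intro U hU
    have h1 : h U * (y : G) * (h U)⁻¹ ∈ T.map (MulAut.conj (h U)).toMonoidHom := ⟨y, y.2, rfl⟩
    rwa [hh U hU] at h1
  obtain ⟨x, hx⟩ := exists_prod hs (fun U => h U * (y : G) * (h U)⁻¹) hf
  refine ⟨x, ?_⟩
  rintro Y hY ⟨g, hg⟩ hn
  -- the component of `a ^ g`
  set U : Subgroup G := T.map (MulAut.conj g).toMonoidHom with hU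
  have hUs : U ∈ s := hs.map T hT g
  set k : G := (h U)⁻¹ * g with hk
  have hkn : k ∈ normalizer (T : Set G) := by
    rw [mem_normalizer_iff]
    intro t
    have h1 : t ∈ T ↔ g * t * g⁻¹ ∈ U := by
      rw [hU, mem_map_conj]
      have : g⁻¹ * (g * t * g⁻¹) * g = t := by group
      rw [this]
    have h2 : g * t * g⁻¹ ∈ U ↔ (h U)⁻¹ * (g * t * g⁻¹) * h U ∈ T := by
      have h4 : g * t * g⁻¹ ∈ T.map (MulAut.conj (h U)).toMonoidHom ↔ (h U)⁻¹ * (g * t * g⁻¹) * h U ∈ T := mem_map_conj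
      rwa [hh U hUs] at h4
    rw [h1, h2]
    have h3 : (h U)⁻¹ * (g * t * g⁻¹) * h U = k * t * k⁻¹ := by rw [hk]; group
    rw [h3]
  -- the component of `x`
  set z : G := (y : G)⁻¹ * ((h U)⁻¹ * x * h U) with hz
  have hzc : z ∈ centralizer (T : Set G) := by
    have h1 := conj_mem_centralizer (g := (h U)⁻¹) (hx U hUs)
    have h2 : U.map (MulAut.conj (h U)⁻¹).toMonoidHom = T := by
      have h4 := congrArg (Subgroup.map (MulAut.conj (h U)⁻¹).toMonoidHom) (hh U hUs)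
      rw [map_conj_map_conj, inv_mul_cancel, map_conj_one] at h4
      exact h4.symm
    rw [h2] at h1
    have h3 : (h U)⁻¹ * ((h U * (y : G) * (h U)⁻¹)⁻¹ * x) * (h U)⁻¹⁻¹ = z := by rw [hz]; group
    rwa [h3] at h1
  have hx' : (h U)⁻¹ * x * h U = y * z := by rw [hz, mul_inv_cancel_left]
  -- the group `Y`, conjugated
  set Y' : Subgroup G := Y.map (MulAut.conj (h U)⁻¹).toMonoidHom with hY'
  have hY'p : IsPGroup p Y' := hY.map _
  have hx'n : (y : G) * z ∈ normalizer (Y' : Set G) := by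
    rw [← hx', mem_normalizer_iff]
    intro w
    rw [hY', mem_map_conj, mem_map_conj]
    rw [mem_normalizer_iff] at hn
    have h1 := hn ((h U)⁻¹⁻¹ * w * (h U)⁻¹)
    rw [h1]
    have h2 : x * ((h U)⁻¹⁻¹ * w * (h U)⁻¹) * x⁻¹ =
        (h U)⁻¹⁻¹ * ((h U)⁻¹ * x * h U * w * ((h U)⁻¹ * x * h U)⁻¹) * (h U)⁻¹ := by group
    rw [h2]
  have hyn : (y : G) * z ∈ normalizer (T : Set G) :=
    mul_mem (le_normalizer y.2) (centralizer_le_normalizer _ hzc)
  set Y'' : Subgroup (MulAut ↥T) := (Y'.subgroupOf (normalizer (T : Set G))).map φ with hY''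
  refine hy Y'' ((hY'p.comap_of_injective _ (subtype_injective _)).map _) ⟨φ ⟨k, hkn⟩, ?_⟩ ?_
  · refine ⟨⟨k, hkn⟩ * ⟨a, hfix⟩ * ⟨k, hkn⟩⁻¹, ?_, by rw [map_mul, map_mul, map_inv]⟩
    show k * a * k⁻¹ ∈ Y'
    rw [hY', mem_map_conj]
    have h1 : (h U)⁻¹⁻¹ * (k * a * k⁻¹) * (h U)⁻¹ = g * a * g⁻¹ := by rw [hk]; group
    rw [h1]
    exact hg
  · have h1 : MulAut.conj y = φ ⟨(y : G) * z, hyn⟩ := by
      ext t
      rw [hφa, MulAut.conj_apply]
      rw [mem_centralizer_iff] at hzc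
      have h2 := hzc t t.2
      show (y : G) * t * (y : G)⁻¹ = (y : G) * z * t * ((y : G) * z)⁻¹
      have h3 : (y : G) * z * t * ((y : G) * z)⁻¹ = y * (z * t) * z⁻¹ * (y : G)⁻¹ := by group
      rw [h3, ← h2]
      group
    rw [h1, mem_normalizer_iff]
    have key : ∀ n : ↥(normalizer (T : Set G)), (n : G) ∈ normalizer (Y' : Set G) → ∀ b ∈ Y'', φ n * b * (φ n)⁻¹ ∈ Y'' := by
      rintro n hn' _ ⟨w, hw, rfl⟩
      refine ⟨n * w * n⁻¹, ?_, by rw [map_mul, map_mul, map_inv]⟩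
      show (n : G) * w * (n : G)⁻¹ ∈ Y'
      exact (mem_normalizer_iff.1 hn' _).1 hw
    intro b
    refine ⟨fun hb => key _ hx'n b hb, fun hb => ?_⟩
    have h2 := key (⟨(y : G) * z, hyn⟩⁻¹) (inv_mem hx'n) _ hb
    rw [map_inv] at h2
    have h3 : (φ ⟨(y : G) * z, hyn⟩)⁻¹ * (φ ⟨(y : G) * z, hyn⟩ * b * (φ ⟨(y : G) * z, hyn⟩)⁻¹) *
      ((φ ⟨(y : G) * z, hyn⟩)⁻¹)⁻¹ = b := by group
    rwa [h3] at h2

/-- A nonabelian simple group contains an element of prime order different from `p`. -/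
theorem exists_regular (T : Type*) [Group T] [Finite T] [IsSimpleGroup T] (hna : ¬ IsMulCommutative T) (p : ℕ)
    [hp : Fact p.Prime] : ∃ y : T, y ≠ 1 ∧ ¬ p ∣ orderOf y := by
  by_contra hcon
  push Not at hcon
  have hpg : IsPGroup p T := by
    rw [IsPGroup.iff_orderOf]
    intro y
    by_contra hy
    -- a prime divisor of the order of `y` other than `p`
    have h0 : orderOf y ≠ 0 := (orderOf_pos y).ne'
    have h1 : ∃ q : ℕ, q.Prime ∧ q ∣ orderOf y ∧ q ≠ p := by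
      by_contra h2
      push Not at h2
      exact hy ⟨_, Nat.eq_prime_pow_of_unique_prime_dvd h0 fun {q} hq hd => h2 q hq hd⟩
    obtain ⟨q, hq, ⟨m, hm⟩, hqp⟩ := h1
    have hm0 : m ≠ 0 := by rintro rfl; exact h0 (by rw [hm, mul_zero])
    have h2 : orderOf (y ^ m) = q := by
      rw [orderOf_pow' y hm0, hm, Nat.gcd_eq_right (Dvd.intro_left _ rfl), Nat.mul_div_cancel _ (Nat.pos_of_ne_zero hm0)]
    have h3 : y ^ m ≠ 1 := by
      intro h
      rw [h, orderOf_one] at h2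
      exact hq.one_lt.ne h2
    have h4 := hcon _ h3
    rw [h2] at h4
    exact hqp ((Nat.prime_dvd_prime_iff_eq hp.1 hq).1 h4).symm
  have hnil : Group.IsNilpotent T := hpg.isNilpotent
  have hc : Subgroup.center T = ⊥ := center_eq_bot hna
  have := hpg.center_nontrivial
  rw [hc] at this
  exact not_nontrivial _ this

/-- **Second case**: `a` moves a component. -/
theorem exists_av_of_move [Finite G] [hp : Fact p.Prime] (hp2 : p ≠ 2) {s : Set (Subgroup G)} (hs : Comps G s)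
    {T : Subgroup G} (hT : T ∈ s) (hsimp : ∀ U ∈ s, IsSimpleGroup U) {K N : Subgroup G} [hK : K.Normal]
    (hN : ∀ U ∈ s, N ≤ normalizer (U : Set G)) (hKN : ∀ x ∈ K, ∃ k : ℕ, x ^ p ^ k ∈ N) {a : G} (haK : a ∈ K)
    (hmove : T.map (MulAut.conj a).toMonoidHom ≠ T) : ∃ x : G, Av p a x := by
  classical
  let act : MulAction G ↥s :=
    { smul := fun g U => ⟨U.1.map (MulAut.conj g).toMonoidHom, hs.map U.1 U.2 g⟩
      one_smul := fun U => Subtype.ext (map_conj_one U.1)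
      mul_smul := fun g h U => Subtype.ext (map_conj_map_conj g h U.1).symm }
  have hsm : ∀ (g : G) (U : ↥s), ((g • U : ↥s) : Subgroup G) = U.1.map (MulAut.conj g).toMonoidHom := fun _ _ => rfl
  let P : Subgroup (Equiv.Perm ↥s) := K.map (MulAction.toPermHom G ↥s)
  have hPp : IsPGroup p ↥P := by
    rintro ⟨σ, x, hx, rfl⟩
    obtain ⟨k, hk⟩ := hKN x hx
    refine ⟨k, Subtype.ext ?_⟩
    show (MulAction.toPermHom G ↥s x) ^ p ^ k = 1
    rw [← map_pow]
    ext1 U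
    show (x ^ p ^ k) • U = U
    apply Subtype.ext
    rw [hsm]
    have h1 := hN U.1 U.2 hk
    rw [mem_normalizer_iff] at h1
    ext w
    rw [mem_map_conj]
    have h2 := h1 ((x ^ p ^ k)⁻¹ * w * x ^ p ^ k)
    rw [h2]
    have h3 : x ^ p ^ k * ((x ^ p ^ k)⁻¹ * w * x ^ p ^ k) * (x ^ p ^ k)⁻¹ = w := by group
    rw [h3]
  obtain ⟨D, hD⟩ := exists_set (Ω := ↥s) hp2 hPp
  -- `p`-regular elements of the components
  have hreg : ∀ U : Subgroup G, ∃ y : G, U ∈ s → y ∈ U ∧ y ≠ 1 ∧ ¬ p ∣ orderOf y := by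
    intro U
    by_cases hU : U ∈ s
    · have := hsimp U hU
      have hna : ¬ IsMulCommutative U := by
        intro hc
        obtain ⟨⟨x, hx⟩, hx1⟩ := exists_ne (1 : U)
        apply hx1
        apply Subtype.ext
        exact hs.cent U hU x hx fun t ht => congrArg Subtype.val (hc.is_comm.comm (⟨x, hx⟩ : U) ⟨t, ht⟩)
      obtain ⟨y, h1, h2⟩ := exists_regular U hna p
      exact ⟨y, fun _ => ⟨y.2, fun h => h1 (Subtype.ext h), by rwa [Subgroup.orderOf_coe]⟩⟩
    · exact ⟨1, fun h => absurd h hU⟩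
  choose y hy using hreg
  set f : Subgroup G → G := fun U => if h : U ∈ s then (if (⟨U, h⟩ : ↥s) ∈ D then y U else 1) else 1 with hf
  have hfD : ∀ U : ↥s, U ∈ D → f U.1 = y U.1 := by
    intro U hU
    simp only [hf]
    rw [dif_pos U.2, if_pos hU]
  have hfD' : ∀ U : ↥s, U ∉ D → f U.1 = 1 := by
    intro U hU
    simp only [hf]
    rw [dif_pos U.2, if_neg hU]
  have hfm : ∀ U ∈ s, f U ∈ U := by
    intro U hU
    by_cases h : (⟨U, hU⟩ : ↥s) ∈ D
    · rw [hfD ⟨U, hU⟩ h]; exact (hy U hU).1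
    · rw [hfD' ⟨U, hU⟩ h]; exact one_mem _
  obtain ⟨x, hx⟩ := exists_prod hs f hfm
  refine ⟨x, ?_⟩
  rintro Y hY ⟨g, hg⟩ hn
  set b : G := g * a * g⁻¹ with hb
  have hbK : b ∈ K := hK.conj_mem a haK g
  -- `b` does not preserve `D`
  have hex : ∃ U : ↥s, ¬ (U ∈ D ↔ b • U ∈ D) := by
    by_contra hcon
    push Not at hcon
    have h1 := hD ⟨MulAction.toPermHom G ↥s b, b, hbK, rfl⟩ (fun U => hcon U) (g • (⟨T, hT⟩ : ↥s))
    have h2 : b • g • (⟨T, hT⟩ : ↥s) = g • (⟨T, hT⟩ : ↥s) := h1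
    rw [← mul_smul] at h2
    have h3 : b * g = g * a := by rw [hb]; group
    rw [h3, mul_smul] at h2
    have h4 := MulAction.injective g h2
    exact hmove (congrArg Subtype.val h4)
  obtain ⟨U, hU⟩ := hex
  have hVs : ((b • U : ↥s) : Subgroup G) ∈ s := (b • U).2
  set V : Subgroup G := ((b • U : ↥s) : Subgroup G) with hV
  -- the element `c`
  have hcY : b * x * b⁻¹ * x⁻¹ ∈ Y := by
    have h1 : b * (x * b⁻¹ * x⁻¹) ∈ Y := Y.mul_mem hg ((mem_normalizer_iff.1 hn _).1 (Y.inv_mem hg))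
    simpa [mul_assoc] using h1
  obtain ⟨k, hk⟩ := hY ⟨_, hcY⟩
  have hk' : (b * x * b⁻¹ * x⁻¹) ^ p ^ k = 1 := by simpa using congrArg Subtype.val hk
  have h1 : b * ((f U.1)⁻¹ * x) * b⁻¹ ∈ centralizer (V : Set G) := conj_mem_centralizer (hx U.1 U.2)
  have h2 : (f V)⁻¹ * x ∈ centralizer (V : Set G) := hx V hVs
  set z1 := b * ((f U.1)⁻¹ * x) * b⁻¹ with hz1
  set z2 := (f V)⁻¹ * x with hz2
  have hw1 : b * f U.1 * b⁻¹ ∈ V := ⟨f U.1, hfm U.1 U.2, rfl⟩
  set w : G := b * f U.1 * b⁻¹ * (f V)⁻¹ with hw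
  have hwV : w ∈ V := V.mul_mem hw1 (V.inv_mem (hfm V hVs))
  have hzc : z1 * z2⁻¹ ∈ centralizer (V : Set G) := mul_mem h1 (inv_mem h2)
  have hceq : b * x * b⁻¹ * x⁻¹ = w * (z1 * z2⁻¹) := by
    have h3 : (f V)⁻¹ * (z1 * z2⁻¹) = z1 * z2⁻¹ * (f V)⁻¹ := mem_centralizer_iff.1 hzc _ (V.inv_mem (hfm V hVs))
    have h4 : w * (z1 * z2⁻¹) = b * f U.1 * b⁻¹ * ((f V)⁻¹ * (z1 * z2⁻¹)) := by rw [hw]; group
    rw [h4, h3, hz1, hz2]
    group
  have hcomm : Commute w (z1 * z2⁻¹) := mem_centralizer_iff.1 hzc w hwV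
  have hwp : w ^ p ^ k = 1 := by
    rw [hceq, hcomm.mul_pow] at hk'
    refine hs.cent V hVs _ (V.pow_mem hwV _) fun t ht => ?_
    have h5 : w ^ p ^ k = ((z1 * z2⁻¹) ^ p ^ k)⁻¹ := eq_inv_of_mul_eq_one_left hk'
    rw [h5]
    exact (mem_centralizer_iff.1 (inv_mem (pow_mem hzc (p ^ k))) t ht).symm
  -- the contradiction
  have hfin : ∀ v : G, v ≠ 1 → ¬ p ∣ orderOf v → v ^ p ^ k ≠ 1 := by
    intro v hv1 hv h6
    obtain ⟨j, -, hj⟩ := (Nat.dvd_prime_pow hp.1).1 (orderOf_dvd_of_pow_eq_one h6)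
    rcases Nat.eq_zero_or_pos j with rfl | hj0
    · rw [pow_zero, orderOf_eq_one_iff] at hj
      exact hv1 hj
    · exact hv (hj ▸ dvd_pow_self p hj0.ne')
  by_cases hUD : U ∈ D
  · have hVD : b • U ∉ D := fun h => hU ⟨fun _ => h, fun _ => hUD⟩
    have h7 : f V = 1 := hfD' (b • U) hVD
    have h8 : f U.1 = y U.1 := hfD U hUD
    rw [hw, h7, h8, inv_one, mul_one] at hwp
    obtain ⟨-, h9, h10⟩ := hy U.1 U.2
    refine hfin (b * y U.1 * b⁻¹) ?_ ?_ hwp
    · intro h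
      apply h9
      have : y U.1 = b⁻¹ * (b * y U.1 * b⁻¹) * b := by group
      rw [this, h]; group
    · rw [orderOf_conj']
      exact h10
  · have hVD : b • U ∈ D := by
      by_contra h
      exact hU ⟨fun h' => absurd h' hUD, fun h' => absurd h' h⟩
    have h7 : f V = y V := hfD (b • U) hVD
    have h8 : f U.1 = 1 := hfD' U hUD
    rw [hw, h7, h8] at hwp
    obtain ⟨-, h9, h10⟩ := hy V hVs
    refine hfin (y V)⁻¹ (inv_ne_one.2 h9) (by rwa [orderOf_inv]) ?_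
    have : b * 1 * b⁻¹ * (y V)⁻¹ = (y V)⁻¹ := by group
    rwa [this] at hwp

end Cfsg.Agent.H566.Subn
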