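import Mathlib

/-!
# Subsets moved by every nontrivial element of a `p`-group of permutations, `p` odd (helper566)

`exists_set` : a `p`-group `P`, `p` odd, acting on a finite set `S` has a subset `D` of `S` such that every element of
`P` preserving `D` acts trivially on `S` (Gluck's theorem for `p`-groups).
-/

set_option autoImplicit false

namespace Cfsg.Agent.H566.Subn

open MulAction

universe u

variable {Ω : Type*} {p : ℕ}

/-- `D` is moved by every element of `P` that acts nontrivially on `S`. -/
def Det (P : Type u) [Group P] [MulAction P Ω] (S D : Set Ω) : Prop :=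
  ∀ g : P, (∀ x ∈ S, (x ∈ D ↔ g • x ∈ D)) → ∀ x ∈ S, g • x = x

theorem Det.compl {P : Type u} [Group P] [MulAction P Ω] {S D : Set Ω} (hS : ∀ (g : P), ∀ x ∈ S, g • x ∈ S)
    (h : Det P S D) : Det P S (S \ D) := by
  intro g hg
  refine h g fun x hx => ?_
  have h1 := hg x hx
  simp only [Set.mem_sdiff, hx, hS g x hx, true_and] at h1
  exact not_iff_not.1 h1

theorem smul_mem_orb {P : Type u} [Group P] [MulAction P Ω] (g : P) {x y : Ω} (h : y ∈ orbit P x) :
    g • y ∈ orbit P x := by
  obtain ⟨k, rfl⟩ := h
  exact ⟨g * k, mul_smul g k x⟩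

theorem odd_orbit {P : Type u} [Group P] [Finite P] [MulAction P Ω] [hp : Fact p.Prime] (hp2 : p ≠ 2)
    (hP : IsPGroup p P) (x : Ω) : Odd (Set.ncard (orbit P x)) := by
  have h1 : Set.ncard (orbit P x) ∣ Nat.card P := by
    have h2 := MulAction.index_stabilizer P x
    rw [← h2]
    exact Subgroup.index_dvd_card _
  obtain ⟨k, hk⟩ := IsPGroup.iff_card.1 hP
  rw [hk] at h1
  exact ((hp.1.odd_of_ne_two hp2).pow).of_dvd_nat h1

theorem exists_set_aux [Finite Ω] [hp : Fact p.Prime] (hp2 : p ≠ 2) : ∀ (n : ℕ) (P : Type u) [Group P] [Finite P]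
    [MulAction P Ω], IsPGroup p P → ∀ S : Set Ω, (∀ (g : P), ∀ x ∈ S, g • x ∈ S) → S.ncard ≤ n →
    ∃ D ⊆ S, Det P S D := by
  intro n
  induction n with
  | zero =>
    intro P _ _ _ _ S hS hn
    have h1 : S = ∅ := by rwa [Nat.le_zero, Set.ncard_eq_zero] at hn
    exact ⟨∅, by simp, fun g _ x hx => by rw [h1] at hx; exact absurd hx (Set.notMem_empty x)⟩
  | succ n ih =>
    intro P _ _ _ hP S hS hn
    by_cases hcase : ∃ O ⊆ S, O.Nonempty ∧ O ≠ S ∧ ∀ (g : P), ∀ x ∈ O, g • x ∈ O
    · obtain ⟨O, hOS, hO, hne, hOP⟩ := hcase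
      have hlt : O.ncard < S.ncard := Set.ncard_lt_ncard (lt_of_le_of_ne hOS hne) (Set.toFinite _)
      have hlt2 : (S \ O).ncard < S.ncard := by
        apply Set.ncard_lt_ncard _ (Set.toFinite _)
        refine ⟨Set.sdiff_subset, fun h => ?_⟩
        obtain ⟨x, hx⟩ := hO
        exact (h (hOS hx)).2 hx
      have hSO : ∀ (g : P), ∀ x ∈ S \ O, g • x ∈ S \ O := by
        rintro g x ⟨hx, hxO⟩
        refine ⟨hS g x hx, fun h => hxO ?_⟩
        have := hOP g⁻¹ _ h
        rwa [inv_smul_smul] at this
      obtain ⟨D1, hD1, h1⟩ := ih P hP O hOP (by omega)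
      obtain ⟨D2, hD2, h2⟩ := ih P hP (S \ O) hSO (by omega)
      refine ⟨D1 ∪ D2, Set.union_subset (hD1.trans hOS) (hD2.trans Set.sdiff_subset), fun g hg x hx => ?_⟩
      by_cases hxO : x ∈ O
      · refine h1 g (fun y hy => ?_) x hxO
        have h3 := hg y (hOS hy)
        have h4 : y ∉ D2 := fun h => (hD2 h).2 hy
        have h5 : g • y ∉ D2 := fun h => (hD2 h).2 (hOP g y hy)
        simpa [h4, h5] using h3
      · refine h2 g (fun y hy => ?_) x ⟨hx, hxO⟩
        have h3 := hg y hy.1
        have h4 : y ∉ D1 := fun h => hy.2 (hD1 h)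
        have h5 : g • y ∉ D1 := fun h => (hSO g y hy).2 (hD1 h)
        simpa [h4, h5] using h3
    · push Not at hcase
      rcases S.eq_empty_or_nonempty with h0 | ⟨x0, hx0⟩
      · exact ⟨∅, by simp, fun g _ x hx => by rw [h0] at hx; exact absurd hx (Set.notMem_empty x)⟩
      have horb : orbit P x0 = S := by
        by_contra hne
        obtain ⟨g, x, hx, hgx⟩ := hcase (orbit P x0) (by rintro _ ⟨g, rfl⟩; exact hS g x0 hx0) ⟨x0, mem_orbit_self x0⟩ hne
        exact hgx (smul_mem_orb g hx)
      by_cases hst : stabilizer P x0 = ⊤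
      · refine ⟨∅, by simp, fun g _ x hx => ?_⟩
        rw [← horb] at hx
        obtain ⟨h, rfl⟩ := hx
        have h1 : ∀ k : P, k • x0 = x0 := fun k => by
          have : k ∈ stabilizer P x0 := by rw [hst]; trivial
          exact this
        show g • h • x0 = h • x0
        rw [h1 h, h1 g]
      · obtain ⟨K, hK, hle⟩ := (IsCoatomic.eq_top_or_exists_le_coatom (stabilizer P x0)).resolve_left hst
        have hnil : Group.IsNilpotent P := hP.isNilpotent
        have hKn : K.Normal := Subgroup.NormalizerCondition.normal_of_coatom K Group.normalizerCondition_of_isNilpotent hK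
        have hKP : IsPGroup p K := hP.to_subgroup K
        -- the orbits of `K`
        have hmem : ∀ g : P, g • x0 ∈ orbit K x0 → g ∈ K := by
          rintro g ⟨k, hk⟩
          have h1 : (k : P)⁻¹ * g ∈ stabilizer P x0 := by
            rw [mem_stabilizer_iff, mul_smul, inv_smul_eq_iff]
            exact hk.symm
          have h2 := K.mul_mem k.2 (hle h1)
          rwa [mul_inv_cancel_left] at h2
        have himg : ∀ (g : P) (x : Ω), orbit K (g • x) = (fun y => g • y) '' orbit K x := by
          intro g x
          ext y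
          constructor
          · rintro ⟨k, rfl⟩
            refine ⟨(⟨g⁻¹ * k * g, by simpa using hKn.conj_mem k k.2 g⁻¹⟩ : K) • x, ⟨_, rfl⟩, ?_⟩
            show g • (g⁻¹ * (k : P) * g) • x = (k : P) • g • x
            rw [← mul_smul, ← mul_smul]
            congr 1
            group
          · rintro ⟨_, ⟨k, rfl⟩, rfl⟩
            refine ⟨⟨g * k * g⁻¹, hKn.conj_mem k k.2 g⟩, ?_⟩
            show (g * (k : P) * g⁻¹) • g • x = g • (k : P) • x
            rw [← mul_smul, ← mul_smul]
            congr 1
            group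
        have hncard : ∀ (g : P) (x : Ω), (orbit K (g • x)).ncard = (orbit K x).ncard := by
          intro g x
          rw [himg]
          exact Set.ncard_image_of_injective _ (MulAction.injective g)
        have hsub : ∀ x ∈ S, orbit K x ⊆ S := by
          rintro x hx _ ⟨k, rfl⟩
          exact hS k x hx
        have hlt0 : (orbit K x0).ncard < S.ncard := by
          apply Set.ncard_lt_ncard _ (Set.toFinite _)
          refine lt_of_le_of_ne (hsub x0 hx0) fun h => hK.1 ?_
          rw [eq_top_iff]
          intro g _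
          apply hmem
          rw [h]
          exact hS g x0 hx0
        have hlt : ∀ x ∈ S, (orbit K x).ncard < S.ncard := by
          intro x hx
          rw [← horb] at hx
          obtain ⟨g, rfl⟩ := hx
          show (orbit K (g • x0)).ncard < _
          rw [hncard]
          exact hlt0
        -- small and large sets
        have hex : ∀ O : Set Ω, ∃ D0 D1 : Set Ω, (∃ x ∈ S, O = orbit K x) →
            D0 ⊆ O ∧ D1 ⊆ O ∧ Det K O D0 ∧ Det K O D1 ∧ 2 * D0.ncard < O.ncard ∧ O.ncard < 2 * D1.ncard := by
          intro O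
          by_cases hO : ∃ x ∈ S, O = orbit K x
          swap
          · exact ⟨∅, ∅, fun h => absurd h hO⟩
          obtain ⟨x, hx, rfl⟩ := hO
          have hinv : ∀ (g : K), ∀ y ∈ orbit K x, g • y ∈ orbit K x := fun g y hy => smul_mem_orb g hy
          obtain ⟨D, hD, hdet⟩ := ih K hKP (orbit K x) hinv (by have := hlt x hx; omega)
          have hodd := odd_orbit hp2 hKP x
          have hc : (orbit K x \ D).ncard + D.ncard = (orbit K x).ncard := Set.ncard_sdiff_add_ncard_of_subset hD (Set.toFinite _)
          obtain ⟨m, hm⟩ := hodd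
          rcases Nat.lt_or_ge (2 * D.ncard) (orbit K x).ncard with h1 | h1
          · exact ⟨D, orbit K x \ D, fun _ => ⟨hD, Set.sdiff_subset, hdet, hdet.compl hinv, h1, by omega⟩⟩
          · exact ⟨orbit K x \ D, D, fun _ => ⟨Set.sdiff_subset, hD, hdet.compl hinv, hdet, by omega, by omega⟩⟩
        choose D0 D1 hD using hex
        classical
        set F : Set Ω → Set Ω := fun O => if O = orbit K x0 then D0 O else D1 O with hF
        refine ⟨{x | x ∈ S ∧ x ∈ F (orbit K x)}, fun x hx => hx.1, fun g hg => ?_⟩
        have hFdet : ∀ x ∈ S, Det K (orbit K x) (F (orbit K x)) := by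
          intro x hx
          obtain ⟨-, -, h3, h4, -⟩ := hD (orbit K x) ⟨x, hx, rfl⟩
          simp only [hF]
          split_ifs
          · exact h3
          · exact h4
        have hFsub : ∀ x ∈ S, F (orbit K x) ⊆ orbit K x := by
          intro x hx
          obtain ⟨h3, h4, -⟩ := hD (orbit K x) ⟨x, hx, rfl⟩
          simp only [hF]
          split_ifs
          · exact h3
          · exact h4
        have hg' : ∀ x ∈ S, (x ∈ F (orbit K x) ↔ g • x ∈ F (orbit K (g • x))) := by
          intro x hx
          have h1 := hg x hx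
          simpa [hx, hS g x hx] using h1
        have horbeq : ∀ x y : Ω, y ∈ orbit K x → orbit K y = orbit K x := fun x y h => orbit_eq_iff.2 h
        -- `g` fixes the first orbit
        have hgK : g ∈ K := by
          apply hmem
          by_contra hne
          have hne' : orbit K (g • x0) ≠ orbit K x0 := fun h => hne (by rw [← h]; exact mem_orbit_self _)
          have h1 : F (orbit K (g • x0)) = (fun y => g • y) '' F (orbit K x0) := by
            ext y
            constructor
            · intro hy
              have hy1 := hFsub _ (hS g x0 hx0) hy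
              rw [himg] at hy1
              obtain ⟨z, hz, rfl⟩ := hy1
              refine ⟨z, ?_, rfl⟩
              have hzS := hsub x0 hx0 hz
              have h2 := (hg' z hzS).2 (by
                have h3 : orbit K (g • z) = orbit K (g • x0) := by rw [himg, himg, horbeq _ _ hz]
                rw [h3]
                exact hy)
              rwa [horbeq _ _ hz] at h2
            · rintro ⟨z, hz, rfl⟩
              have hz1 := hFsub _ hx0 hz
              have hzS := hsub x0 hx0 hz1
              have h3 : orbit K (g • z) = orbit K (g • x0) := by rw [himg, himg, horbeq _ _ hz1]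
              show g • z ∈ _
              rw [← h3]
              exact (hg' z hzS).1 (by rwa [horbeq _ _ hz1])
          have h2 : (F (orbit K (g • x0))).ncard = (F (orbit K x0)).ncard := by
            rw [h1]
            exact Set.ncard_image_of_injective _ (MulAction.injective g)
          have h3 : F (orbit K x0) = D0 (orbit K x0) := if_pos rfl
          have h4 : F (orbit K (g • x0)) = D1 (orbit K (g • x0)) := if_neg hne'
          obtain ⟨-, -, -, -, h5, -⟩ := hD (orbit K x0) ⟨x0, hx0, rfl⟩
          obtain ⟨-, -, -, -, -, h6⟩ := hD (orbit K (g • x0)) ⟨g • x0, hS g x0 hx0, rfl⟩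
          rw [hncard] at h6
          rw [h3, h4] at h2
          omega
        intro x hx
        refine hFdet x hx ⟨g, hgK⟩ (fun y hy => ?_) x (mem_orbit_self x)
        have h1 := hg' y (hsub x hx hy)
        have h2 : orbit K (g • y) = orbit K x := horbeq _ _ (smul_mem_orb (⟨g, hgK⟩ : K) hy)
        rw [h2, horbeq _ _ hy] at h1
        exact h1

/-- **Gluck's theorem for `p`-groups**, `p` odd. -/
theorem exists_set [Finite Ω] [hp : Fact p.Prime] (hp2 : p ≠ 2) {P : Type u} [Group P] [Finite P] [MulAction P Ω]
    (hP : IsPGroup p P) : ∃ D : Set Ω, ∀ g : P, (∀ x, (x ∈ D ↔ g • x ∈ D)) → ∀ x : Ω, g • x = x := by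
  obtain ⟨D, -, hD⟩ := exists_set_aux hp2 (Set.univ : Set Ω).ncard P hP Set.univ (fun _ _ _ => trivial) le_rfl
  exact ⟨D, fun g hg x => hD g (fun y _ => hg y) x trivial⟩

end Cfsg.Agent.H566.Subn
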